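import Cfsg.Agent.E82.U4.Row_m3
import Cfsg.Agent.Lib.ListFast
import Cfsg.Agent.H175.LD.Four
import Cfsg.Agent.E82.Cls_m3
import Cfsg.Agent.E82.M44.Row_m3
import Cfsg.Agent.E82.Small
import Cfsg.Agent.ChevalleyStructure.OrthD4Tab
import Cfsg.Agent.H79.GraphD4
import Cfsg.Agent.H857.OE8.Om
import Cfsg.Agent.S2156
import Cfsg.Agent.E82.Fr.A8
import Cfsg.Agent.E82.Fr.T8_m3
import Cfsg.Agent.FastGrp
import Cfsg.Agent.Prune
set_option linter.all false

section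
prune_inst 0x7ffffdffbbf8ffffffff7fffaefcfffdffbbbfffe6fff9cbffe0e1ff2bdfeb0ecde5fbad8feb51fe1ff6623c9cfc7b53fbffeeffea6bdc7ffffd5ff45ffbffdfffffbd287197a83e1ffc6ffff3f0778e7f3fffffffffffffffffffffffffffaeffbfffffffff

-- part: E82/Mach/C4Huge
section
prune_inst 0x2004407000000008000510300020044400019000634001f1e00d42014f1321a04127014ae01e0099dc3630384ac04001100159423000002a00ba0040020000042d78e6857c1e00390000c0f887180c00000000000000000000000000051004000000000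
set_option linter.all false

/-- decoders of the packed data (elaboration time only) -/
private noncomputable def pk61d (b S i : Nat) : Nat := Nat.mod (Nat.shiftRight S (Nat.mul b i)) (Nat.shiftLeft (nat_lit 1) b)
private noncomputable def pk61f {α : Type} (t : Nat) (f : Nat → α) : α := Nat.rec (f Nat.zero) (fun k _ => f (Nat.succ k)) t
private noncomputable def pk61l {α : Type} (f : Nat → α) (s e : Nat) (tl : List α) : List α :=
  pk61f e fun e => Nat.rec tl (fun k ih => List.cons (pk61f (Nat.sub e (Nat.succ k)) f) ih) (Nat.sub e s)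
/-!
# The pressure machine: the simple modules of `Sp₈(2)` of dimension more than 248 (helper38)
-/

set_option autoImplicit false
set_option maxRecDepth 100000

namespace Cfsg.Agent.E82.Mach.C4

theorem pad1 : pmOk ty 1 48 G1 = true := by decide +kernel

private noncomputable def _root_.Cfsg.Agent.LsF.f1c286a_0 : {f // @Cfsg.Agent.E82.Mach.wfL = f} := ⟨_, by first | (delta Cfsg.Agent.E82.Mach.wfL; rewrite [Cfsg.Agent.LsF.and_eq, Cfsg.Agent.LsF.all_eq]; exact rfl) | exact rfl⟩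
private noncomputable def _root_.Cfsg.Agent.LsF.f1c286a_1 : {f // @Cfsg.Agent.E82.Mach.wfG = f} := ⟨_, by first | (delta Cfsg.Agent.E82.Mach.wfG; rewrite [Cfsg.Agent.LsF.f1c286a_0.2, Cfsg.Agent.LsF.all_eq]; exact rfl) | exact rfl⟩
private noncomputable def _root_.Cfsg.Agent.LsF.f1c286a_2 : {f // @Cfsg.Agent.E82.Mach.Ty.y = f} := ⟨_, by first | (delta Cfsg.Agent.E82.Mach.Ty.y; rewrite [Cfsg.Agent.LsF.getD_eq]; exact rfl) | exact rfl⟩
private noncomputable def _root_.Cfsg.Agent.LsF.f1c286a_3 : {f // @Cfsg.Agent.E82.Mach.Ty.rels = f} := ⟨_, by first | (delta Cfsg.Agent.E82.Mach.Ty.rels; rewrite [Cfsg.Agent.LsF.f1c286a_2.2, Cfsg.Agent.LsF.nadd_pat, Cfsg.Agent.LsF.nbne_pat, Cfsg.Agent.LsF.lappend_pat, Cfsg.Agent.LsF.flatMap_eq, Cfsg.Agent.LsF.filter_eq, Cfsg.Agent.LsF.range_eq]; exact rfl) | exact rfl⟩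
private noncomputable def _root_.Cfsg.Agent.LsF.f1c286a_4 : {f // @Cfsg.Agent.E82.Mach.mulJ = f} := ⟨_, by first | (delta Cfsg.Agent.E82.Mach.mulJ; rewrite [Cfsg.Agent.LsF.instGetElem?_eq]; exact rfl) | exact rfl⟩
private noncomputable def _root_.Cfsg.Agent.LsF.f1c286a_5 : {f // @Cfsg.Agent.E82.Mach.mulW = f} := ⟨_, by first | (delta Cfsg.Agent.E82.Mach.mulW; rewrite [Cfsg.Agent.LsF.f1c286a_4.2]; exact rfl) | exact rfl⟩
private noncomputable def _root_.Cfsg.Agent.LsF.f1c286a_6 : {f // @Cfsg.Agent.E82.Mach.evW = f} := ⟨_, by first | (delta Cfsg.Agent.E82.Mach.evW; rewrite [Cfsg.Agent.LsF.f1c286a_5.2]; exact rfl) | exact rfl⟩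
private noncomputable def _root_.Cfsg.Agent.LsF.f1c286a_7 : {f // @Cfsg.Agent.E82.Mach.okT = f} := ⟨_, by first | (delta Cfsg.Agent.E82.Mach.okT; rewrite [Cfsg.Agent.LsF.f1c286a_6.2]; exact rfl) | exact rfl⟩
private noncomputable def _root_.Cfsg.Agent.LsF.f1c286a_8 : {f // @Cfsg.Agent.E82.Mach.actJ = f} := ⟨_, by first | (delta Cfsg.Agent.E82.Mach.actJ; rewrite [Cfsg.Agent.LsF.instGetElem?_eq]; exact rfl) | exact rfl⟩
private noncomputable def _root_.Cfsg.Agent.LsF.f1c286a_9 : {f // @Cfsg.Agent.E82.Mach.trG = f} := ⟨_, by first | (delta Cfsg.Agent.E82.Mach.trG; rewrite [Cfsg.Agent.LsF.map_eq]; exact rfl) | exact rfl⟩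
private noncomputable def _root_.Cfsg.Agent.LsF.f1c286a_10 : {f // @Cfsg.Agent.E82.Mach.pmOk = f} := ⟨_, by first | (delta Cfsg.Agent.E82.Mach.pmOk; rewrite [Cfsg.Agent.LsF.f1c286a_1.2, Cfsg.Agent.LsF.f1c286a_3.2, Cfsg.Agent.LsF.f1c286a_7.2, Cfsg.Agent.LsF.f1c286a_8.2, Cfsg.Agent.LsF.f1c286a_9.2, Cfsg.Agent.LsF.nadd_pat, Cfsg.Agent.LsF.and_eq, Cfsg.Agent.LsF.cond_eq, Cfsg.Agent.LsF.all_eq, Cfsg.Agent.LsF.range_eq, Cfsg.Agent.LsF.length_eq]; exact rfl) | exact rfl⟩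
theorem pad2 : pmOk ty 2 48 G2 = true := by ((try (rewrite [Cfsg.Agent.LsF.f1c286a_10.2])); decide +kernel)

theorem pad4 : pmOk ty 4 48 G4 = true := by ((try (rewrite [Cfsg.Agent.LsF.f1c286a_10.2])); decide +kernel)

theorem pad8 : pmOk ty 8 48 G8 = true := by decide +kernel

/-- a tree of words -/
noncomputable def pc6 : List (ℕ × ℕ) :=
  (by
  refine (?fq9001 : ((pk61l (fun i1 => (_root_.Prod.mk (pk61d (nat_lit 8) 
    (nat_lit 0x999897959493928f8f8e8e8d8c8c8a8a898888878685858583838383817f7f7f7e7e7d7c7b7b7a7979787777777672727272717070706f6f6f6e6d6d6c6b6b6a69686867676766666565656564646363626262616060605f5e5e5e5d5d5d5c5b5b5a595756565655535252525251515050504e4e4c4c4c4b4b4a4a4a4948484745454443434242424140403f3f3e3e3e3d3c3b3b3b3a3939383837363534343332313131302f2f2f2e2d2d2d2c2b2b2b2a2928282827262625242323222121201f1e1d1c1c1c1b1b1b1a191817161615141413131211111010100f0f0e0d0c0c0b0b0a0a0909080707070605050504040403020201010000)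 i1) (pk61d (nat_lit 5) 
    (nat_lit 0x94e6394e721cc90996611ce1194e209ca0194e25912408821104a71042728063388a7114a2084cb284032804c39c0a19c6629c4529c4529403388a538c8129c4101ce050ce3388a709c4532ca20840309c23314e22948700ca018c67114a4390e329c8101ce059ce2294e2294a018c67114a439c622948739ca728067114a729c45290e6094873806718ca609c2439c27388a538067114a7194251) i1))) (nat_lit 0) (nat_lit 248) List.nil) : List (ℕ × ℕ))
    = ?xq9001 → (List (ℕ × ℕ))) ?hq9001; (case hq9001 => (set_option maxRecDepth 1000000 in set_option simprocs false in conv => lhs; reduce; dsimp only)); intro _; exact ?xq9001 : List (ℕ × ℕ))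

/-- a tree of words -/
noncomputable def pv6 : List (ℕ × ℕ) :=
  (by
  refine (?fq9002 : ((pk61l (fun i1 => (_root_.Prod.mk (pk61d (nat_lit 6) 
    (nat_lit 0x2baeaaaaaaaaaaa69a69a68a28a28a289e79e79e79e79e79a69a69a69238e38a28a186186082082081f7df7df7de79e79e79e79e75d75d71c71c71c71c71b6db6db6db6da6586185d75965965955555555545145145144d34d34d34d34d24924924924924914514514514504104104104103cf3cf3cf3cf3cf3cd30c30c2cb2cb28a28a2892492492482082082082071c71c71c71c61861861861861851451451451451451041041041041041030c30c30c30c30c30c2082082082082082041041041041041041000000000000000000000) i1) (pk61d (nat_lit 5) 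
    (nat_lit 0x102f73169389cd5a0cf7358b395ee6b16a4a0c37356a419ef701cd0bdc404dee6acaf7358703dcd62d4830dee629ee6b16a4a0cf7316a4a0d07bdc07b5ed6100e6b16513dcd62d447b98b524e203dcd62d494186f7358b3948f7316a49cc07b9ac5a9283106f8bdc07b9a17b9a4039ac5944f7358b5102f731693880f7358b525061bdcd62d48394817b9ac5a92830c0f7358b525073144f7358b520e5205ee6b16a4a0e6289ee6b16a4a0e629041) i1))) (nat_lit 0) (nat_lit 279) List.nil) : List (ℕ × ℕ))
    = ?xq9002 → (List (ℕ × ℕ))) ?hq9002; (case hq9002 => (set_option maxRecDepth 1000000 in set_option simprocs false in conv => lhs; reduce; dsimp only)); intro _; exact ?xq9002 : List (ℕ × ℕ))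

private noncomputable def _root_.Cfsg.Agent.LsF.f1c286a_11 : {f // @Cfsg.Agent.E82.Mach.build = f} := ⟨_, by first | (delta Cfsg.Agent.E82.Mach.build; rewrite [Cfsg.Agent.LsF.f1c286a_8.2]; exact rfl) | exact rfl⟩
private noncomputable def _root_.Cfsg.Agent.LsF.f1c286a_12 : {f // @Cfsg.Agent.E82.Mach.prepK = f} := ⟨_, by first | (delta Cfsg.Agent.E82.Mach.prepK; rewrite [Cfsg.Agent.LsF.f1c286a_11.2, Cfsg.Agent.LsF.f1c286a_9.2]; exact rfl) | exact rfl⟩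
private noncomputable def _root_.Cfsg.Agent.LsF.f1c286a_13 : {f // @Cfsg.Agent.E82.Mach.bigRk = f} := ⟨_, by first | (delta Cfsg.Agent.E82.Mach.bigRk; rewrite [Cfsg.Agent.LsF.f1c286a_12.2, Cfsg.Agent.LsF.length_eq]; exact rfl) | exact rfl⟩
theorem rk6 : Nat.blt 248 (bigRk 48 [G2, G4] pc6 pv6) = true := by ((try (rewrite [Cfsg.Agent.LsF.f1c286a_13.2])); decide +kernel)

theorem ent6 (C : Cls) (row : List ℕ) (z : ℕ) : Ent ty C 248 6 row z :=
  ent_big syn C (s := 48) (2, G2) [(4, G4)]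
    ((Bool.and_eq_true _ _).mpr ⟨pad2, (Bool.and_eq_true _ _).mpr ⟨pad4, rfl⟩⟩)
    (by decide) (by decide) rk6 row z

/-- a tree of words -/
noncomputable def pc7 : List (ℕ × ℕ) :=
  (by
  refine (?fq9003 : ((pk61l (fun i1 => (_root_.Prod.mk (pk61d (nat_lit 8) 
    (nat_lit 0x9998989797959393939191918f8c8b8a89898989898887878786858484848484838281807f7e7d7c7b7a7a7a7978787876767574747473727272727271706f6e6e6e6e6d6c6b6a6a6868686766656464636261605f5f5f5e5d5c5c5c5b5a5a5a5957565656555454545352515151504f4e4d4d4c4b4948474645444444434343424241403f3e3d3d3d3c3b3b3a39383837373635343433323131313030302f2e2e2d2c2b2a2a292828272625252424242323222221201f1e1e1d1d1c1c1b1b1b1a1919191818181716151515141413131212111010100f0e0d0d0d0d0c0c0c0b0a0908080807070706060505040404030302020101000000) i1) (pk61d (nat_lit 5) 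
    (nat_lit 0x8ce338c27114a20842339c462042500c633894629465194e501ce059ce229c65388a52835018c6338a45294a718a45294a2294a53944101ce059ce2294a7114a500c63388a528c45294e5394e500ce2290e5394e2914a439ce4390e7390e739403388a5324e5388a521ce521ce509c6718ca7394e121ce059ce229c45194e209c2439c27388a529ca019c45294a700ce2290271940338ca128ca30) i1))) (nat_lit 0) (nat_lit 248) List.nil) : List (ℕ × ℕ))
    = ?xq9003 → (List (ℕ × ℕ))) ?hq9003; (case hq9003 => (set_option maxRecDepth 1000000 in set_option simprocs false in conv => lhs; reduce; dsimp only)); intro _; exact ?xq9003 : List (ℕ × ℕ))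

/-- a tree of words -/
noncomputable def pv7 : List (ℕ × ℕ) :=
  (by
  refine (?fq9004 : ((pk61l (fun i1 => (_root_.Prod.mk (pk61d (nat_lit 6) 
    (nat_lit 0x238e38e38e28a28a28a28a286186186186186082082082082082081f7df7df7df7df7df7de79e79e79e79e79e79c6db6da69a6996596586186186175d75d75d75d65965965965955555555555555545145145145145144d34d34d34d34d349249249249249249245145145145145145041041041041041040f38d34d34c30c30b2cb2cb2ca28a28a28a2492492492492082082082082071c71c71c71c71c61861861861861861451451451451451451041041041041041040c30c30c30c30c30c2082082082082082082081041041041041041041040000000000000000000000) i1) (pk61d (nat_lit 5) 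
    (nat_lit 0x2d494186f7358b51ca47b98b524e603dcd62d4941cc513dcd62d4941cc41bdcd62d4941cc513e2f73dcd0bdcd239ac5944f7358b5102f7358b49c4f7358b525061bdcd62d48394817b9ac5a92830dee6b16a4a0e6289ee6b16a41ca40bdcd62d4941cc5141f17b80f7342f7358403dcd62ca27b9ac5a8817b98b524e203dcd62d494186f7358b520e5205ee6b16a4a0e6181ee6b16a4a0e6289ee6b16a41ca40bdcd62d4941cc52080f7358b52507314820bdcd62d4941cc520820) i1))) (nat_lit 0) (nat_lit 299) List.nil) : List (ℕ × ℕ))
    = ?xq9004 → (List (ℕ × ℕ))) ?hq9004; (case hq9004 => (set_option maxRecDepth 1000000 in set_option simprocs false in conv => lhs; reduce; dsimp only)); intro _; exact ?xq9004 : List (ℕ × ℕ))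

theorem rk7 : Nat.blt 248 (bigRk 48 [G1, G2, G4] pc7 pv7) = true := by ((try (rewrite [Cfsg.Agent.LsF.f1c286a_13.2])); decide +kernel)

theorem ent7 (C : Cls) (row : List ℕ) (z : ℕ) : Ent ty C 248 7 row z :=
  ent_big syn C (s := 48) (1, G1) [(2, G2), (4, G4)]
    ((Bool.and_eq_true _ _).mpr ⟨pad1, (Bool.and_eq_true _ _).mpr ⟨pad2, (Bool.and_eq_true _ _).mpr ⟨pad4, rfl⟩⟩⟩)
    (by decide) (by decide) rk7 row z

/-- a tree of words -/
noncomputable def pc10 : List (ℕ × ℕ) :=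
  (by
  refine (?fq9005 : ((pk61l (fun i1 => (_root_.Prod.mk (pk61d (nat_lit 8) 
    (nat_lit 0xb5b4b4b4b4b2b1b1b0afaeacacaba9a9a8a6a5a4a3a1a19e9e9e9e9d9c9c9b9b9b989897969594928f8f8e8e8e8d8c8b8b8b8a89898787868686858584838281807d7c7b767676757373727271716d6c6c6b6b6a6a6a68686564646463626261605f5f5f5e5c5c5b59585858575656555554535252515150504f4f4d4d4d4d4c4b4b4a4a494948484847464545454443424141403f3f3e3d3c3c3c3b3b3a383835353433312f2f2f2f2e2d2d2d2c2c2c2b2a2a29282726242423232020201f1e1e1e1d1c1c1c1b1b1a1a1a191818171616151514131312111111100f0f0f0e0e0d0b0b0b0a0a0a0909080707060605040303020101010000) i1) (pk61d (nat_lit 5) 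
    (nat_lit 0x94e2914a4394e321ce439cc739cc33940319c67114e329ce5330e702ce7388a5314c5328a439ca729ca73918739c2439c0730ce3388a719ce229487394e449cc009ce22948721ca532ce53840339403130e709c67110e7388a5394c5290e729c4138427090e739ce500c67114e2294c529ca721cc138063388873806719c45290e5304e039c27388a5388a439ce019c4521ca719c6539ca5394271) i1))) (nat_lit 0) (nat_lit 248) List.nil) : List (ℕ × ℕ))
    = ?xq9005 → (List (ℕ × ℕ))) ?hq9005; (case hq9005 => (set_option maxRecDepth 1000000 in set_option simprocs false in conv => lhs; reduce; dsimp only)); intro _; exact ?xq9005 : List (ℕ × ℕ))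

/-- a tree of words -/
noncomputable def pv10 : List (ℕ × ℕ) :=
  (by
  refine (?fq9006 : ((pk61l (fun i1 => (_root_.Prod.mk (pk61d (nat_lit 6) 
    (nat_lit 0x38df7df7d74d33cf3cb2cb2cb1c71c30c30c2fbefbefbaebaebadb6db6daa9a68a279e79a69a69a596596596592492492286186082081f7df7de79e79e79d75d75d71c71c71c71b6db6db6da69a69a6175d75965555555145145145134d34d34d249249249249145145145145145041041041040f3cf3cf3cf34c30c2cb2cb28a28a2892492492492082082082081c71c71c71c71c61861861861861851451451451451451041041041041040c30c30c30c30c2082082082082081041041041041041000000000000000000000) i1) (pk61d (nat_lit 5) 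
    (nat_lit 0x57b9877bdcf685ee6100f6adee6288f628e07b94723dcc51dcd0bdad595cd62c2f6b169389ee6acaf7b80f7342f7100e6b16513dcc59dee6ad4833dcc5180e6b1697bdc07b5ec2026f6b16513dcc5a88f731493880f7358b525061bdcd624e523dcc5a9277bdc07b9a17b9a404dee6aca27b9ac5a8819bdcd624e203dcd62d494186f7358b520e5205ee6b16a4a0c37b9ac5a92833dcd62d483948f7358b5250730dee6b16a4a0e629061) i1))) (nat_lit 0) (nat_lit 273) List.nil) : List (ℕ × ℕ))
    = ?xq9006 → (List (ℕ × ℕ))) ?hq9006; (case hq9006 => (set_option maxRecDepth 1000000 in set_option simprocs false in conv => lhs; reduce; dsimp only)); intro _; exact ?xq9006 : List (ℕ × ℕ))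

theorem rk10 : Nat.blt 248 (bigRk 48 [G2, G8] pc10 pv10) = true := by ((try (rewrite [Cfsg.Agent.LsF.f1c286a_13.2])); decide +kernel)

theorem ent10 (C : Cls) (row : List ℕ) (z : ℕ) : Ent ty C 248 10 row z :=
  ent_big syn C (s := 48) (2, G2) [(8, G8)]
    ((Bool.and_eq_true _ _).mpr ⟨pad2, (Bool.and_eq_true _ _).mpr ⟨pad8, rfl⟩⟩)
    (by decide) (by decide) rk10 row z

/-- a tree of words -/
noncomputable def pc11 : List (ℕ × ℕ) :=
  (by
  refine (?fq9007 : ((pk61l (fun i1 => (_root_.Prod.mk (pk61d (nat_lit 8) 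
    (nat_lit 0x9d9c9c9a9696969695949392919191908e8d8c8c8b8b8a898988878685858584848381817e7e7c7b7a79777777777675757574747474737271706f6f6e6e6d6c6b686867666463636363626261616060605f5f5f5e5e5d5c5c5c5b5a5958575756555555545353525151504f4e4c4c4b4b4b484848474646464544444444434342424241403f3e3d3c3b3a393938383736363635343434343332313130302f2e2d2d2d2c2c2b2a2a2a2929282727262525252423232322222121201f1f1d1d1d1d1c1c1c1b1b1a19181818171614141413131312121110100f0f0e0e0d0c0c0b0b0a0a090908070606060504040404030202020101000000) i1) (pk61d (nat_lit 5) 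
    (nat_lit 0x144529ca018cc739c45294e4098a521ce729c4138427090e7304e728063388a7118a538ca6290e539487399a70686719c67114e2218a7388a5290e709ce2294c52992729c873882700c67110e72806719c45294e329ca7394e039c0b39c52294a7190e739c4521ca7104e039c27388a5388a43986538ce500ce2290e729c4529ce019c4521ca719ca7194c5394e538ca7390253940329ca138ce30) i1))) (nat_lit 0) (nat_lit 248) List.nil) : List (ℕ × ℕ))
    = ?xq9007 → (List (ℕ × ℕ))) ?hq9007; (case hq9007 => (set_option maxRecDepth 1000000 in set_option simprocs false in conv => lhs; reduce; dsimp only)); intro _; exact ?xq9007 : List (ℕ × ℕ))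

/-- a tree of words -/
noncomputable def pv11 : List (ℕ × ℕ) :=
  (by
  refine (?fq9008 : ((pk61l (fun i1 => (_root_.Prod.mk (pk61d (nat_lit 6) 
    (nat_lit 0x9249248e38e38e38e38a28a28a28a28a28618618618618608208208208207df7df7df7df79e79e79e79e79e79c6db6da69a6996596586186186185d75d75d75d75965965965965555555555555555145145145145145134d34d34d34d34d24924924924924514514514514514104104104104104103ce34d34c30c30b2cb2cb2ca28a28a28a2492492492492082082082082081c71c71c71c71c71861861861861861851451451451451451441041041041041040c30c30c30c30c3082082082082082082081041041041041041041040000000000000000000000) i1) (pk61d (nat_lit 5) 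
    (nat_lit 0x62d447b98a49c407b9ac5a92830dee6b1493948f7358b525067b98b524e47b9ac5a9283146f8bdcf7342f734937b9ab289ee6b16a2066f73589389ee6b16a4a0c37b9ac5a9072902f7358b525061bdcd62d49419ee6b16a41ca47b9ac5a9283986283dee03dcd0bdcd610137b9ab289ee6b16a2066f7358a49c407b9ac5a92830dee6b16a41ca40bdcd62d4941cc303dcd62d49418a27b9ac5a907291ee6b16a4a0e620c0f7358b52507314830bdcd62d4941cc520c20) i1))) (nat_lit 0) (nat_lit 292) List.nil) : List (ℕ × ℕ))
    = ?xq9008 → (List (ℕ × ℕ))) ?hq9008; (case hq9008 => (set_option maxRecDepth 1000000 in set_option simprocs false in conv => lhs; reduce; dsimp only)); intro _; exact ?xq9008 : List (ℕ × ℕ))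

theorem rk11 : Nat.blt 248 (bigRk 48 [G1, G2, G8] pc11 pv11) = true := by decide +kernel

theorem ent11 (C : Cls) (row : List ℕ) (z : ℕ) : Ent ty C 248 11 row z :=
  ent_big syn C (s := 48) (1, G1) [(2, G2), (8, G8)]
    ((Bool.and_eq_true _ _).mpr ⟨pad1, (Bool.and_eq_true _ _).mpr ⟨pad2, (Bool.and_eq_true _ _).mpr ⟨pad8, rfl⟩⟩⟩)
    (by decide) (by decide) rk11 row z

/-- a tree of words -/
noncomputable def pc12 : List (ℕ × ℕ) :=
  (by
  refine (?fq9009 : ((pk61l (fun i1 => (_root_.Prod.mk (pk61d (nat_lit 8) 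
    (nat_lit 0xafaaa9a8a7a7a7a7a7a6a5a4a4a3a3a2a1a09f9d9d9c9b969696959392929191919190908f8f8e8d8a8a8a8686867f7f7f7f7e7e7d7c7b7a78737271706d6d6d6d6b6a6a6a6969686666666563636262625f5f5f5e5d5b5b5b5a5a595959585757565656555453535352515150504e4e4d4d4c4b4b4b4a4a49484747474646454444434241403f3f3f3e3d3a3a3a393939373736363535333332323231313030302f2f2f2e2d2d2c2b2b2a29282726262525252424232321212121201f1f1e1e1d1d1c1c1c1b1b1b1a181817171616141412121212111010100f0f0f0e0d0d0c0b0b0b0a0a09090908070706050505040403030201010000) i1) (pk61d (nat_lit 5) 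
    (nat_lit 0x98e739c52514a521c8729ce321ce738820330e70286719c6329c45388a7128a439ce5390e539cd2514a461cc939c41190e71048c39ce700c873806261ce059ce7114a4398a4398a5328a439ca712ce529801094e720421230e7104e121ce061ce019c67114e229487390e729ca659c813840339403130e709c67114e229487304e1384e500c67114e22948639c0338ce22948739c4521ce129c672) i1))) (nat_lit 0) (nat_lit 248) List.nil) : List (ℕ × ℕ))
    = ?xq9009 → (List (ℕ × ℕ))) ?hq9009; (case hq9009 => (set_option maxRecDepth 1000000 in set_option simprocs false in conv => lhs; reduce; dsimp only)); intro _; exact ?xq9009 : List (ℕ × ℕ))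

/-- a tree of words -/
noncomputable def pv12 : List (ℕ × ℕ) :=
  (by
  refine (?fq9010 : ((pk61l (fun i1 => (_root_.Prod.mk (pk61d (nat_lit 6) 
    (nat_lit 0xc70c30c30c30c2fbefbefbefbefbeebaebaebaebadb2baeaaa9a69a69a28a289e79e79e79e69a69a69a69659659659249249249249228618608207df7df79e79e79e79d75d75d75d75c71c71c71c71b6db6db6db6db69a69a69a6996596596596596586186186185955555545145134d34d34924924514514514514104104103cf3cf3cf3cf3ce38e38e38e38e38e30b2cb28a2892492482082082082071c71c71c71c71861861861861861451451451451451041041041041041030c30c30c30c30c2082082082082082081041041041041040000000000000000000) i1) (pk61d (nat_lit 5) 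
    (nat_lit 0x6f7358a48c137b9ac5a4e513dcd624e5141ef73daf6b0807b5627b9ac5a88f62927101ee6a4e47b98b524e613dee03da17b4807b9ac5944f7358b5102f7358b49c4f7358b525067b9ac59caf7358b5250603dcd62d487c5ee03dcd0bdcd201ed595ee6b16a205ed624e07b9aa41ca40bdcd62d4941cc57bdc07b42f690137b9ac594527b9ac5a8819bdcd62d27101ee6b16a4a0c39bdcd62d272902f7358b525061bdcd62d4941cc513dcd62d494186f7358b5250731462) i1))) (nat_lit 0) (nat_lit 294) List.nil) : List (ℕ × ℕ))
    = ?xq9010 → (List (ℕ × ℕ))) ?hq9010; (case hq9010 => (set_option maxRecDepth 1000000 in set_option simprocs false in conv => lhs; reduce; dsimp only)); intro _; exact ?xq9010 : List (ℕ × ℕ))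

theorem rk12 : Nat.blt 248 (bigRk 48 [G4, G8] pc12 pv12) = true := by decide +kernel

theorem ent12 (C : Cls) (row : List ℕ) (z : ℕ) : Ent ty C 248 12 row z :=
  ent_big syn C (s := 48) (4, G4) [(8, G8)]
    ((Bool.and_eq_true _ _).mpr ⟨pad4, (Bool.and_eq_true _ _).mpr ⟨pad8, rfl⟩⟩)
    (by decide) (by decide) rk12 row z

/-- a tree of words -/
noncomputable def pc13 : List (ℕ × ℕ) :=
  (by
  refine (?fq9011 : ((pk61l (fun i1 => (_root_.Prod.mk (pk61d (nat_lit 8) 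
    (nat_lit 0xa09b9a959494949392918d8c8787878685848281818181807f7f7f7e7c7b7a7a79777675757474737170706f6f6f6f6e6e6d6d6c6c6c6c6b6b6b69696866666564646464636362626161616060605f5e5d5d5d5b5a5959585858565555545353525151505050504f4e4c4c4c4c4b4a4a49494847474746464645434342424141403e3e3d3d3c3b3b3a3a3a393837363535343433333333323131302f2f2d2d2c2c2c2b2b2929272727272625252524242423222221202020201f1f1e1e1d1c1c1b1a19191918181717161514141413131212121110100f0e0e0e0d0d0c0c0c0b0a0a0a090909080807070605050404030202010101000000) i1) (pk61d (nat_lit 5) 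
    (nat_lit 0x9ce529c4b2900109c4101c073940319c45394e439ca732c83081873814338ce3388c5388a439ce069ca019c6299c45388a529c451948739125304a6094cb39441084e500c4c39c23388a7114a439967284e12846719c4529487384e338a45290e721c873882709c2728063388a7114a431ce500ce3114a439ce711487384c73806719c45290e7388a439c0329c45388a439c2538ce529c6728ce50) i1))) (nat_lit 0) (nat_lit 248) List.nil) : List (ℕ × ℕ))
    = ?xq9011 → (List (ℕ × ℕ))) ?hq9011; (case hq9011 => (set_option maxRecDepth 1000000 in set_option simprocs false in conv => lhs; reduce; dsimp only)); intro _; exact ?xq9011 : List (ℕ × ℕ))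

/-- a tree of words -/
noncomputable def pv13 : List (ℕ × ℕ) :=
  (by
  refine (?fq9012 : ((pk61l (fun i1 => (_root_.Prod.mk (pk61d (nat_lit 6) 
    (nat_lit 0x249249249238e38e38a28a28a28a28618618618618208208208208207df7df7df7df7df79e79e79e79e79d75d75d75d75d75d75b69a6996596586185d75d75d75d75965965965965955555555555555145145145145144d34d34d34d34d34d34924924924924924514514514514514514104104104104103ce34d34c30c2cb2cb2cb28a28a28a28a2492492492492482082082082082081c71c71c71c71c71861861861861861861451451451451451441041041041041041030c30c30c30c30c30c3082082082082082082041041041041041041040000000000000000000000) i1) (pk61d (nat_lit 5) 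
    (nat_lit 0x3dcd610137b5657b9ac5a8817b9ac524e07b9ac5a92830dee6b148394817b9ac5a92833dcd62d4941cc523e2f73dcd0bda49bdcd62ca293dcd62d440cdee6b169389ee6b16a4a0c39bdcd62d28394817b9ac5a92830dee6b16a4a0e6289ee6b16a4a0c383dee03da17b9ac2026f7358b28a4f7358b510337b9ac5a927101ee6b16a4a0c39bdcd62d49394817b9ac5a92830c0f7358b525073144f7358b52507314827b9ac5a928398837b9ac5a928398a313dcd62d4941cc520c40) i1))) (nat_lit 0) (nat_lit 299) List.nil) : List (ℕ × ℕ))
    = ?xq9012 → (List (ℕ × ℕ))) ?hq9012; (case hq9012 => (set_option maxRecDepth 1000000 in set_option simprocs false in conv => lhs; reduce; dsimp only)); intro _; exact ?xq9012 : List (ℕ × ℕ))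

theorem rk13 : Nat.blt 248 (bigRk 48 [G1, G4, G8] pc13 pv13) = true := by decide +kernel

theorem ent13 (C : Cls) (row : List ℕ) (z : ℕ) : Ent ty C 248 13 row z :=
  ent_big syn C (s := 48) (1, G1) [(4, G4), (8, G8)]
    ((Bool.and_eq_true _ _).mpr ⟨pad1, (Bool.and_eq_true _ _).mpr ⟨pad4, (Bool.and_eq_true _ _).mpr ⟨pad8, rfl⟩⟩⟩)
    (by decide) (by decide) rk13 row z

/-- a tree of words -/
noncomputable def pc14 : List (ℕ × ℕ) :=
  (by
  refine (?fq9013 : ((pk61l (fun i1 => (_root_.Prod.mk (pk61d (nat_lit 8) 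
    (nat_lit 0x9f9d9d99999898979491919191908e8c898682828282817f7c7c7b7a787876767676757574747373727272727271706f6f6f6d68686767676664646262615e5e5e5d5c5c5a5a5a59585857575757565655555554545453525151514f4f4d4d4c4c4c4b4a4a484848484747464646454545444444444342414040403e3d3d3d3c3c3b3b3b3b3a3938373636353333323231313130302e2e2e2c2c2c2c2b2a2a2a292929282727262525242322222121202020201f1e1e1d1d1c1c1b1b1b1a1a191919181817161616161515141414131212111110100f0f0f0e0e0d0d0c0b0a0a0a0909090808070707060505050404030202010101000000) i1) (pk61d (nat_lit 5) 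
    (nat_lit 0x84e321cc939ce51042108427118a5090e739c272806718a6229c52314a5388a521ce2594c1304272042019403130e70286719c45388a529c4521c8738807384e500ce338a67114e2914a539c4439c0338ce2914a539c87390e659c81384e019ca018ce229c45290e721cc7384e338a45290e6090e7114873806711ce500ce3388a521cc1384e2290e709ca7114e2290e700ca7114e529c67284e51) i1))) (nat_lit 0) (nat_lit 248) List.nil) : List (ℕ × ℕ))
    = ?xq9013 → (List (ℕ × ℕ))) ?hq9013; (case hq9013 => (set_option maxRecDepth 1000000 in set_option simprocs false in conv => lhs; reduce; dsimp only)); intro _; exact ?xq9013 : List (ℕ × ℕ))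

/-- a tree of words -/
noncomputable def pv14 : List (ℕ × ℕ) :=
  (by
  refine (?fq9014 : ((pk61l (fun i1 => (_root_.Prod.mk (pk61d (nat_lit 6) 
    (nat_lit 0x238a28a28a28a28a286186186186186186082082082082081f7df7df7df7df79e79e79e79e79e79e75d75d75d75d75d71b69a6996586186185d75d75d75d75965965965965555555555555555545145145145145134d34d34d34d34d249249249249249249145145145145145145041041041041041038d34d34c30c30b2cb2cb28a28a28a28a2492492492492482082082082082071c71c71c71c71c61861861861861861861451451451451451441041041041041041030c30c30c30c30c30c3082082082082082082082041041041041041041040000000000000000000000) i1) (pk61d (nat_lit 5) 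
    (nat_lit 0x1ee6b16a4a0c37b9ac5a9072902f7358b525061bdcd62d49419ee6b16a4a0e6291ee6b16a4a0c383dee03daf6b0809bdcd62ca293dcd62d449bdcd62d493880f7358b525061cdee6b1693948f7358b5250730c0f7358b525073144f7358b5250620df17b80f7342f734809bdcd62ca293dcd62d440cdee6b1693880f7358b525061cdee6b16a4a0e5205ee6b16a4a0c303dcd62d4941cc513dcd62d4941cc5209ee6b16a4a0e6290617b9ac5a928398a313dcd62d4941cc520c41) i1))) (nat_lit 0) (nat_lit 299) List.nil) : List (ℕ × ℕ))
    = ?xq9014 → (List (ℕ × ℕ))) ?hq9014; (case hq9014 => (set_option maxRecDepth 1000000 in set_option simprocs false in conv => lhs; reduce; dsimp only)); intro _; exact ?xq9014 : List (ℕ × ℕ))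

theorem rk14 : Nat.blt 248 (bigRk 48 [G2, G4, G8] pc14 pv14) = true := by decide +kernel

theorem ent14 (C : Cls) (row : List ℕ) (z : ℕ) : Ent ty C 248 14 row z :=
  ent_big syn C (s := 48) (2, G2) [(4, G4), (8, G8)]
    ((Bool.and_eq_true _ _).mpr ⟨pad2, (Bool.and_eq_true _ _).mpr ⟨pad4, (Bool.and_eq_true _ _).mpr ⟨pad8, rfl⟩⟩⟩)
    (by decide) (by decide) rk14 row z

/-- a tree of words -/
noncomputable def pc15 : List (ℕ × ℕ) :=
  (by
  refine (?fq9015 : ((pk61l (fun i1 => (_root_.Prod.mk (pk61d (nat_lit 8) 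
    (nat_lit 0xa4a4a4a4a3a2a1a0a0a09f9d9d9c9c9b9a9a99989898989796948e8c8c8c8b898785858584837f7d7978777676757574747474737271706f6d6c6c6b6b6a68686767666565646464636261605f5e5e5d5d5d5d5c5c5c5c5b5a595857565554545352514f4d4d4d4d4c4a4a494948474746464645444341403f3f3e3e3e3e3d3c3b3a39393838373635343332323232313130302f2e2e2d2c2b2b2a2a2929282828272626252424242322222222212120201f1e1d1d1d1c1c1b1b1a1a191918171616161515141414131312121212111010100f0e0e0d0d0d0c0c0b0b0b0a0909090808080706060505050504030302020201010100000000) i1) (pk61d (nat_lit 5) 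
    (nat_lit 0x835018c63388a511445218a7148c5294a728821084e23948109ca2314e538a45294a3294cb394270942338ce2294a5298c53808338a45294e7294e7194e729ca2084e12846719c4729ce629c27148a529ca7190e7394c73940338c45290e739c27190e702ce7194e221ce500ce3114a53882709c6439c2729c45394e2290e728065388a5394e2290e700ca7114e4094e33940329c67284e519ca30) i1))) (nat_lit 0) (nat_lit 248) List.nil) : List (ℕ × ℕ))
    = ?xq9015 → (List (ℕ × ℕ))) ?hq9015; (case hq9015 => (set_option maxRecDepth 1000000 in set_option simprocs false in conv => lhs; reduce; dsimp only)); intro _; exact ?xq9015 : List (ℕ × ℕ))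

/-- a tree of words -/
noncomputable def pv15 : List (ℕ × ℕ) :=
  (by
  refine (?fq9016 : ((pk61l (fun i1 => (_root_.Prod.mk (pk61d (nat_lit 6) 
    (nat_lit 0x82082082082082081e75d75c71c71b6db6da69a69a69a6996596596596596186186186186175d75d75d75d75d65965965965965965965555555555555555145145145145145144d34d34d34d34d34d34d249249249249249249249145145145145145145140f38e38e34d34d30c30c30c2cb2cb2cb2cb28a28a28a28a2892492492492492492082082082082081c71c71c71c71c71c71c61861861861861861851451451451451451441041041041041041040c30c30c30c30c30c30c3082082082082082082082081041041041041041041041000000000000000000000000) i1) (pk61d (nat_lit 5) 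
    (nat_lit 0x1ac5a928398a313e2f73dcd0bdcd24dee6b165149ee6b16a2066f7358b49c4f7358b525061cdee6b16a4a0e5205ee6b16a4a0c37b9ac5a928398a27b9ac5a928398a413dcd62d4941cc520c2f7358b525073146283e2f701ee685ee6b0809bdcd62ca293dcd62d440cdee6b16a49c407b9ac5a92830e6f7358b525072902f7358b5250730c0f7358b525073144f7358b52507314827b9ac5a928398a4185ee6b16a4a0e62906203dcd62d4941cc520c417b9ac5a928398a418820) i1))) (nat_lit 0) (nat_lit 298) List.nil) : List (ℕ × ℕ))
    = ?xq9016 → (List (ℕ × ℕ))) ?hq9016; (case hq9016 => (set_option maxRecDepth 1000000 in set_option simprocs false in conv => lhs; reduce; dsimp only)); intro _; exact ?xq9016 : List (ℕ × ℕ))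

theorem rk15 : Nat.blt 248 (bigRk 48 [G1, G2, G4, G8] pc15 pv15) = true := by ((try (rewrite [Cfsg.Agent.LsF.f1c286a_13.2])); decide +kernel)

theorem ent15 (C : Cls) (row : List ℕ) (z : ℕ) : Ent ty C 248 15 row z :=
  ent_big syn C (s := 48) (1, G1) [(2, G2), (4, G4), (8, G8)]
    ((Bool.and_eq_true _ _).mpr ⟨pad1, (Bool.and_eq_true _ _).mpr ⟨pad2, (Bool.and_eq_true _ _).mpr ⟨pad4, (Bool.and_eq_true _ _).mpr ⟨pad8, rfl⟩⟩⟩⟩)
    (by decide) (by decide) rk15 row z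

end Cfsg.Agent.E82.Mach.C4
end

-- part: E82/O8/Main
section
set_option linter.all false
open scoped Cfsg.Agent.FastGrp
private noncomputable def lq26092fbbe6 {T : Sort _} (f :
    type_of% (@_root_.List.cons.{0}) →
    type_of% (@_root_.List.nil.{0}) →
    type_of% (@_root_.Prod.mk.{0, 0}) →
    type_of% (@_root_.List.cons.{0} (Nat)) →
    type_of% (@_root_.Cfsg.Agent.E82.Mach.okG) → T) : T :=
  f (@_root_.List.cons.{0}) (@_root_.List.nil.{0}) (@_root_.Prod.mk.{0, 0}) (@_root_.List.cons.{0} (Nat)) (@_root_.Cfsg.Agent.E82.Mach.okG)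

/-- decoders of the packed data (elaboration time only) -/
private noncomputable def pk61d_v1 (b S i : Nat) : Nat := Nat.mod (Nat.shiftRight S (Nat.mul b i)) (Nat.shiftLeft (nat_lit 1) b)
private noncomputable def pk61c {α : Type} (t : Nat) (a : α) (f : Nat → α) : α := Nat.rec a (fun k _ => f k) t
private noncomputable def pk61f_v1 {α : Type} (t : Nat) (f : Nat → α) : α := Nat.rec (f Nat.zero) (fun k _ => f (Nat.succ k)) t
private noncomputable def pk61l_v1 {α : Type} (f : Nat → α) (s e : Nat) (tl : List α) : List α :=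
  pk61f_v1 e fun e => Nat.rec tl (fun k ih => List.cons (pk61f_v1 (Nat.sub e (Nat.succ k)) f) ih) (Nat.sub e s)

-- part: E82/O8/Lin
section
/-!
# S3369, the row `Ω₈⁺(2)`: linear algebra (helper94)

Involutions which preserve a symmetric nondegenerate form in characteristic two.
-/

set_option autoImplicit false
set_option linter.unusedSectionVars false

namespace Cfsg.Agent.E82.O8

open Module
open Cfsg.Agent.H175.LD (Fk mem_Fk)

variable {K V : Type*} [Field K] [AddCommGroup V] [Module K V] [FiniteDimensional K V]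

/-- a symmetric nondegenerate form -/
structure Frm (B : LinearMap.BilinForm K V) : Prop where
  symm : ∀ v w, B v w = B w v
  nd : ∀ v, (∀ w, B v w = 0) → v = 0

/-- an isometric involution -/
structure Inv2 (B : LinearMap.BilinForm K V) (s : V →ₗ[K] V) : Prop where
  sq : ∀ v, s (s v) = v
  iso : ∀ v w, B (s v) (s w) = B v w

/-- the commutator space -/
def Nr (s : V →ₗ[K] V) : Submodule K V := LinearMap.range (s - LinearMap.id)

theorem mem_Nr {s : V →ₗ[K] V} {x : V} : x ∈ Nr s ↔ ∃ v, s v - v = x := Iff.rfl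

theorem Nr_add_Fk (s : V →ₗ[K] V) : finrank K (Nr s) + finrank K (Fk s) = finrank K V := by
  have h : LinearMap.ker (s - LinearMap.id) = Fk s := by
    ext v
    rw [LinearMap.mem_ker, mem_Fk]
    exact sub_eq_zero
  rw [← h]
  exact LinearMap.finrank_range_add_finrank_ker _

theorem dim_sup {P Q : Submodule K V} (h : ∀ v ∈ P, v ∈ Q → v = 0) :
    finrank K ↥(P ⊔ Q) = finrank K P + finrank K Q := by
  have e : P ⊓ Q = ⊥ := (Submodule.eq_bot_iff _).2 fun v hv => h v hv.1 hv.2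
  rw [← Submodule.finrank_sup_add_finrank_inf_eq, e, finrank_bot, add_zero]

theorem zero_of_dim {P Q : Submodule K V} (h : finrank K P + finrank K Q ≤ finrank K ↥(P ⊔ Q)) {v : V} (h1 : v ∈ P)
    (h2 : v ∈ Q) : v = 0 := by
  have e := Submodule.finrank_sup_add_finrank_inf_eq P Q
  have e1 : P ⊓ Q = ⊥ := Submodule.finrank_eq_zero.1 (by omega)
  exact (Submodule.eq_bot_iff _).1 e1 v ⟨h1, h2⟩

variable {B : LinearMap.BilinForm K V}

theorem Frm.perp (h : Frm B) (W : Submodule K V) : finrank K W + finrank K (B.orthogonal W) = finrank K V := by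
  have e := LinearMap.BilinForm.finrank_add_finrank_orthogonal' (B := B) W
  have e1 : LinearMap.ker B = ⊥ := (Submodule.eq_bot_iff _).2 fun v hv => h.nd v fun w => by
    rw [LinearMap.mem_ker.1 hv]; rfl
  rwa [e1, inf_bot_eq, finrank_bot, add_zero] at e

theorem Frm.le (h : Frm B) {P Q : Submodule K V} (e : ∀ v ∈ P, (∀ w ∈ Q, B w v = 0) → v = 0) :
    finrank K P ≤ finrank K Q := by
  have e1 := dim_sup (P := P) (Q := B.orthogonal Q) e
  have e2 := h.perp Q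
  have e3 := Submodule.finrank_le (P ⊔ B.orthogonal Q)
  omega

theorem Frm.pp (h : Frm B) {Y : Submodule K V} {v : V} (e : ∀ w ∈ B.orthogonal Y, B w v = 0) : v ∈ Y := by
  have e1 : Y = B.orthogonal (B.orthogonal Y) := by
    refine Submodule.eq_of_le_of_finrank_le (fun y hy w hw => (h.symm _ _).trans (hw y hy)) ?_
    have e2 := h.perp Y
    have e3 := h.perp (B.orthogonal Y)
    omega
  rw [e1]
  exact e

theorem Inv2.adj {s : V →ₗ[K] V} (h : Inv2 B s) (v w : V) : B (s v - v) w = B v (s w - w) := by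
  rw [map_sub, LinearMap.sub_apply, map_sub, ← h.iso (s v) w, h.sq]

theorem Inv2.fix_of_perp (hB : Frm B) {s : V →ₗ[K] V} (h : Inv2 B s) {w : V} (e : ∀ n ∈ Nr s, B n w = 0) : s w = w :=
  sub_eq_zero.1 (hB.nd _ fun v => by rw [hB.symm, ← h.adj]; exact e _ ⟨v, rfl⟩)

theorem Inv2.perp_fix {s : V →ₗ[K] V} (h : Inv2 B s) {n w : V} (hn : n ∈ Nr s) (e : s w = w) : B n w = 0 := by
  obtain ⟨v, rfl⟩ := mem_Nr.1 hn
  rw [h.adj, e, sub_self, map_zero]

theorem two_v (h2 : (2 : K) = 0) (v : V) : v + v = 0 := by rw [← two_smul K, h2, zero_smul]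

theorem fix_Nr (h2 : (2 : K) = 0) {s : V →ₗ[K] V} (h : ∀ v, s (s v) = v) {n : V} (hn : n ∈ Nr s) : s n = n := by
  obtain ⟨v, rfl⟩ := mem_Nr.1 hn
  rw [map_sub, h]
  linear_combination (norm := abel_nf) two_v h2 v - two_v h2 (s v)

theorem comm_Nr {s t : V →ₗ[K] V} (h : ∀ v, s (t v) = t (s v)) {n : V} (hn : n ∈ Nr s) : t n ∈ Nr s := by
  obtain ⟨v, rfl⟩ := mem_Nr.1 hn
  exact ⟨t v, by rw [map_sub, ← h]; rfl⟩

/-- two commuting involutions with independent commutator spaces -/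
theorem Inv2.orth {s t : V →ₗ[K] V} (hs : Inv2 B s) (h : ∀ v, s (t v) = t (s v)) (e : ∀ v ∈ Nr s, v ∈ Nr t → v = 0) {n m : V}
    (hn : n ∈ Nr s) (hm : m ∈ Nr t) : B n m = 0 := by
  refine hs.perp_fix hn (sub_eq_zero.1 (e _ ⟨m, rfl⟩ ?_))
  exact (Nr t).sub_mem (comm_Nr (fun v => (h v).symm) hm) hm

section three

variable (h2 : (2 : K) = 0) {r s : V →ₗ[K] V} (hr : ∀ v, r (r (r v)) = v) (hc : ∀ v, s (r v) = r (r (s v)))
  (hf : ∀ v, r v = v → s v = v)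

include hr hc hf in
theorem av_Nr {n : V} (hn : n ∈ Nr s) : n + r n + r (r n) = 0 := by
  obtain ⟨v, rfl⟩ := mem_Nr.1 hn
  have e := hf (v + r v + r (r v)) (by rw [map_add, map_add, hr]; abel)
  rw [map_add, map_add, hc, hc, hc, hr] at e
  rw [map_sub, map_sub]
  linear_combination (norm := abel_nf) e

include h2 hr hc hf in
theorem Nr_Fk {n : V} (hn : n ∈ Nr s) (e : r n = n) : n = 0 := by
  have e1 := av_Nr hr hc hf hn
  rwa [e, e, two_v h2, zero_add] at e1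

include h2 hr hc hf in
/-- the rank of an involution that fixes the fixed space of an element of order three which it inverts -/
theorem rank_le (hs : ∀ v, s (s v) = v) : finrank K (Fk r) + 2 * finrank K (Nr s) ≤ finrank K V := by
  have e1 := dim_sup (P := Nr s) (Q := Fk r) fun v h1 h3 => Nr_Fk h2 hr hc hf h1 h3
  have e2 : finrank K ↥(Nr s ⊔ Fk r) ≤ finrank K (Fk s) :=
    Submodule.finrank_mono (sup_le (fun v hv => fix_Nr h2 hs hv) hf)
  have e3 := Nr_add_Fk s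
  omega

include h2 hr hc hf in
theorem dim_three (hs : ∀ v, s (s v) = v) {t : V →ₗ[K] V} (hrt : ∀ v, r (t v) = t (r v)) :
    finrank K ↥(Fk t ⊓ Fk r) + 2 * finrank K ↥(Nr s ⊓ Fk t) ≤ finrank K (Fk t) := by
  have hinj : Function.Injective r := fun a b h => by rw [← hr a, h, hr]
  have e0 : finrank K ((Nr s ⊓ Fk t).map r) = finrank K ↥(Nr s ⊓ Fk t) :=
    (LinearEquiv.finrank_eq (Submodule.equivMapOfInjective r hinj _)).symm
  have e1 := dim_sup (P := Nr s ⊓ Fk t) (Q := (Nr s ⊓ Fk t).map r) (by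
    rintro v h1 ⟨n, h3, rfl⟩
    have a1 := fix_Nr h2 hs h1.1
    rw [hc, fix_Nr h2 hs h3.1] at a1
    rw [Nr_Fk h2 hr hc hf h3.1 (hinj a1), map_zero])
  have e2 := dim_sup (P := Fk t ⊓ Fk r) (Q := (Nr s ⊓ Fk t) ⊔ (Nr s ⊓ Fk t).map r) (by
    intro v h1 h3
    obtain ⟨a, ha, _, ⟨b, hb, rfl⟩, rfl⟩ := Submodule.mem_sup.1 h3
    have a1 := av_Nr hr hc hf ha.1
    have a2 := av_Nr hr hc hf hb.1
    have a3 : r (a + r b) = a + r b := h1.2
    have a4 : (a + r b) + r (a + r b) + r (r (a + r b)) = 0 := by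
      rw [map_add, map_add, hr]
      linear_combination (norm := abel_nf) a1 + a2
    rwa [a3, a3, two_v h2, zero_add] at a4)
  have e3 : finrank K ↥((Fk t ⊓ Fk r) ⊔ ((Nr s ⊓ Fk t) ⊔ (Nr s ⊓ Fk t).map r)) ≤ finrank K (Fk t) := by
    refine Submodule.finrank_mono (sup_le inf_le_left (sup_le inf_le_right ?_))
    rintro _ ⟨n, hn, rfl⟩
    rw [mem_Fk, ← hrt, mem_Fk.1 hn.2]
  omega

end three

/-- **three commuting involutions** -/
theorem fix_a (h2 : (2 : K) = 0) (hB : Frm B) {s1 s3 s4 : V →ₗ[K] V} (h1 : Inv2 B s1) (h3 : Inv2 B s3) (h4 : Inv2 B s4)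
    (c13 : ∀ v, s1 (s3 v) = s3 (s1 v)) (c14 : ∀ v, s1 (s4 v) = s4 (s1 v)) (c34 : ∀ v, s3 (s4 v) = s4 (s3 v))
    {Y : Submodule K V} (hY : ∀ v ∈ Y, s1 v = v) (dV : finrank K V = 32) (dY : finrank K Y = 16)
    (d3 : finrank K (Nr s3) ≤ 8) (d4 : finrank K (Nr s4) ≤ 8) (d1 : finrank K (Nr s1) = finrank K (Nr s3)) :
    ∃ v ∈ Y, v ≠ 0 ∧ s3 v = v ∧ s4 v = v := by
  by_contra hc
  have a1 : finrank K (⊤ : Submodule K V) ≤ finrank K ↥(B.orthogonal Y ⊔ (Nr s3 ⊔ Nr s4)) := hB.le fun v _ hv => by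
    by_contra h0
    exact hc ⟨v, hB.pp fun w hw => hv w (Submodule.mem_sup_left hw), h0,
      h3.fix_of_perp hB fun n hn => hv n (Submodule.mem_sup_right (Submodule.mem_sup_left hn)),
      h4.fix_of_perp hB fun n hn => hv n (Submodule.mem_sup_right (Submodule.mem_sup_right hn))⟩
  rw [finrank_top] at a1
  have a2 := hB.perp Y
  have a3 := Submodule.finrank_add_le_finrank_add_finrank (B.orthogonal Y) (Nr s3 ⊔ Nr s4)
  have a4 := Submodule.finrank_add_le_finrank_add_finrank (Nr s3) (Nr s4)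
  have b1 : ∀ v ∈ Nr s1, v ∈ Nr s3 ⊔ Nr s4 → v = 0 := fun v hv h =>
    zero_of_dim (P := B.orthogonal Y) (by omega) (fun y hy => (hB.symm _ _).trans (h1.perp_fix hv (hY y hy))) h
  have b2 : ∀ v ∈ Nr s3, v ∈ Nr s4 → v = 0 := fun v => zero_of_dim (by omega)
  have b3 : Nr s1 ⊔ (Nr s3 ⊔ Nr s4) ≤ B.orthogonal (Nr s3 ⊔ Nr s4) := by
    have k : ∀ x, (∀ n ∈ Nr s3, B n x = 0) → (∀ n ∈ Nr s4, B n x = 0) → x ∈ B.orthogonal (Nr s3 ⊔ Nr s4) := by
      intro x k3 k4 n hn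
      obtain ⟨a, ha, b, hb, rfl⟩ := Submodule.mem_sup.1 hn
      show B (a + b) x = 0
      rw [map_add, LinearMap.add_apply, k3 a ha, k4 b hb, add_zero]
    refine sup_le (fun x hx => k x (fun n hn => ?_) fun n hn => ?_) (sup_le (fun x hx => k x (fun n hn => ?_) fun n hn => ?_)
      fun x hx => k x (fun n hn => ?_) fun n hn => ?_)
    · exact (hB.symm _ _).trans (h1.orth c13 (fun v a b => b1 v a (Submodule.mem_sup_left b)) hx hn)
    · exact (hB.symm _ _).trans (h1.orth c14 (fun v a b => b1 v a (Submodule.mem_sup_right b)) hx hn)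
    · exact h3.perp_fix hn (fix_Nr h2 h3.sq hx)
    · exact (hB.symm _ _).trans (h3.orth c34 b2 hx hn)
    · exact h3.orth c34 b2 hn hx
    · exact h4.perp_fix hn (fix_Nr h2 h4.sq hx)
  have b4 := Submodule.finrank_mono b3
  have b5 := hB.perp (Nr s3 ⊔ Nr s4)
  rw [dim_sup b1] at b4
  omega

/-- **three involutions permuted by an element of order three** -/
theorem fix_b (h2 : (2 : K) = 0) (hB : Frm B) {t s1 s3 s2 r : V →ₗ[K] V} (ht : ∀ v, t (t (t v)) = v)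
    (hti : ∀ v w, B (t v) (t w) = B v w) (h1 : Inv2 B s1) (h3 : Inv2 B s3) (h0 : Inv2 B s2) (e3 : ∀ v, s3 (t v) = t (s1 v))
    (c13 : ∀ v, s1 (s3 v) = s3 (s1 v)) (e2 : ∀ v, s2 (t v) = t (s2 v)) (hr : ∀ v, r (r (r v)) = v)
    (hc : ∀ v, s2 (r v) = r (r (s2 v))) (hf : ∀ v, r v = v → s2 v = v) (hrt : ∀ v, r (t v) = t (r v))
    (d1 : finrank K (Nr s1) ≤ 8) (dm : 11 ≤ finrank K (Fk t)) (da : finrank K (Fk t) ≤ 3 * finrank K ↥(Fk t ⊓ Fk r)) :
    ∃ v, v ≠ 0 ∧ t v = v ∧ s1 v = v ∧ s2 v = v := by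
  by_contra hc0
  obtain ⟨p, hp⟩ : ∃ p : V →ₗ[K] V, ∀ v, p v = v + t v + t (t v) := ⟨LinearMap.id + t + t ∘ₗ t, fun _ => rfl⟩
  have p1 : ∀ v, t (p v) = p v := fun v => by rw [hp, map_add, map_add, ht]; abel
  have p2 : ∀ v, p (t v) = p v := fun v => by rw [hp, hp, ht]; abel
  have p3 : ∀ x v, t v = v → B (p x) v = B x v := fun x v hv => by
    have k : ∀ y, B (t y) v = B y v := fun y => by conv_lhs => rw [← hv, hti]
    rw [hp, map_add, map_add, LinearMap.add_apply, LinearMap.add_apply, k (t x), k x]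
    linear_combination B x v * h2
  have a1 : finrank K (Fk t) ≤ finrank K ↥((Nr s2 ⊓ Fk t) ⊔ (Nr s1).map p) := hB.le fun v hv h => by
    by_contra h4
    refine hc0 ⟨v, h4, hv, h1.fix_of_perp hB fun n hn => ?_, h0.fix_of_perp hB fun n hn => ?_⟩
    · rw [← p3 n v hv]
      exact h _ (Submodule.mem_sup_right ⟨n, hn, rfl⟩)
    · rw [← p3 n v hv]
      refine h _ (Submodule.mem_sup_left ⟨?_, p1 n⟩)
      rw [hp]
      exact (Nr s2).add_mem ((Nr s2).add_mem hn (comm_Nr e2 hn)) (comm_Nr e2 (comm_Nr e2 hn))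
  have a2 := Submodule.finrank_add_le_finrank_add_finrank (Nr s2 ⊓ Fk t) ((Nr s1).map p)
  have a3 := dim_three h2 hr hc hf h0.sq hrt
  have a4 := LinearMap.finrank_range_add_finrank_ker (p.domRestrict (Nr s1))
  rw [LinearMap.range_domRestrict] at a4
  have a5 : LinearMap.ker (p.domRestrict (Nr s1)) = ⊥ := Submodule.finrank_eq_zero.1 (by omega)
  have b1 : ∀ n ∈ Nr s1, p n = 0 → n = 0 := fun n hn h =>
    congrArg Subtype.val ((Submodule.eq_bot_iff _).1 a5 ⟨n, hn⟩ h)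
  obtain ⟨m, hm⟩ : ∃ m : V → V, ∀ v, m v = s1 (s3 v - v) - (s3 v - v) := ⟨_, fun _ => rfl⟩
  have m1 : ∀ v, m v = s3 (s1 v - v) - (s1 v - v) := fun v => by rw [hm, map_sub, map_sub, c13]; abel
  have m2 : ∀ v, t (m v) = m v := fun v => by
    have k1 : m v = t (s1 (t (t (s1 v - v))) - t (t (s1 v - v))) := by rw [map_sub t, ← e3, ht, m1]
    have k2 := b1 (m v - (s1 (t (t (s1 v - v))) - t (t (s1 v - v)))) ((Nr s1).sub_mem ⟨_, (hm v).symm⟩ ⟨_, rfl⟩)
      (by rw [map_sub p, k1, p2, sub_self])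
    rw [sub_eq_zero] at k2
    exact (congrArg t k2).trans k1.symm
  have m3 : ∀ x y, B (m x) y = B x (m y) := fun x y => by rw [hm, h1.adj, h3.adj, m1]
  have m4 : ∀ x y, B (m x) (t y) = B (m x) y := fun x y => by conv_lhs => rw [← m2, hti]
  have b2 : ∀ x ∈ (Nr s1).map p, ∀ y ∈ (Nr s1).map p, B x y = 0 := by
    rintro _ ⟨n, hn, rfl⟩ _ ⟨n', hn', rfl⟩
    have k0 := h1.perp_fix hn (fix_Nr h2 h1.sq hn')
    obtain ⟨v, rfl⟩ := mem_Nr.1 hn
    obtain ⟨w, rfl⟩ := mem_Nr.1 hn'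
    have k1 : B (s1 v - v) (t (s1 w - w)) = B (m v) w := by
      rw [map_sub t, ← e3, h1.adj, ← hm, ← m3, m4]
    have k2 : B (s1 v - v) (t (t (s1 w - w))) = B (m v) w := by
      rw [← hti, ht, map_sub t, ← e3, ← h1.adj, ← hm, m3, hB.symm, m4, m3 w v, hB.symm w]
    rw [p3 _ _ (p1 _), hp, map_add, map_add, k0, k1, k2]
    linear_combination B (m v) w * h2
  have b3 : (Nr s1).map p ⊔ Nr t ≤ B.orthogonal ((Nr s1).map p) := by
    refine sup_le (fun x hx y hy => b2 y hy x hx) ?_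
    rintro _ ⟨x, rfl⟩ _ ⟨n, -, rfl⟩
    show B (p n) (t x - x) = 0
    rw [map_sub, ← p1, hti, p1, sub_self]
  have b4 := Submodule.finrank_mono b3
  rw [dim_sup (by
    rintro _ ⟨n, -, rfl⟩ ⟨x, hx⟩
    have k1 : p (p n) = p n := by rw [hp (p n), p1, p1, two_v h2, zero_add]
    have k2 : t x - x = p n := hx
    rw [← k1, ← k2, map_sub, p2, sub_self])] at b4
  have b5 := hB.perp ((Nr s1).map p)
  have b6 := Nr_add_Fk t
  omega

end Cfsg.Agent.E82.O8
end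

-- part: E82/O8/Cnt
section
/-!
# S3369, the row `Ω₈⁺(2)`: fixed spaces of lists of words (helper94)

* `Fz g Z`, `dz g Z` : the fixed space of the words in `Z` and its dimension;
* `mapOk`, `eqOk`, `pairOk` : certificates for inclusions, conjugation and the relation of a group of order nine.
-/

set_option autoImplicit false
set_option maxRecDepth 100000

namespace Cfsg.Agent.E82.O8

open Module Cfsg Cfsg.Lie
open Cfsg.Agent.H175.LD (Fk mem_Fk)
open Cfsg.Agent.H939.L64 (KK E2 LK em aK rE rE_apply rE_mul rE_one rE_inv_self rE_self_inv rEq rEq_apply finrank_LK)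
open Cfsg.Agent.E82.Mach (pw pw_nil pw_cons pw_append pw_single flat)

/-- the relations accepted by `ok` hold -/
def Sd {G : Type} [Group G] (ok : List ℕ → List ℕ → Bool) (g : ℕ → G) : Prop := ∀ w w', ok w w' = true → pw g w = pw g w'

/-- the vectors fixed by a list of words -/
def Fz (g : ℕ → E2) (Z : List (List ℕ)) : Submodule KK LK where
  carrier := {v | ∀ w ∈ Z, rE (pw g w) v = v}
  zero_mem' := fun _ _ => map_zero _
  add_mem' := fun {x y} hx hy w hw => by rw [map_add, hx w hw, hy w hw]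
  smul_mem' := fun c x hx w hw => by rw [map_smul, hx w hw]

/-- the dimension -/
noncomputable def dz (g : ℕ → E2) (Z : List (List ℕ)) : ℕ := finrank KK (Fz g Z)

variable {ok : List ℕ → List ℕ → Bool} {g : ℕ → E2}

theorem mem_Fz {Z : List (List ℕ)} {v : LK} : v ∈ Fz g Z ↔ ∀ w ∈ Z, rE (pw g w) v = v := Iff.rfl

theorem Fz_cons (w : List ℕ) (Z : List (List ℕ)) : Fz g (w :: Z) = Fz g Z ⊓ Fk (rE (pw g w)) := by
  ext v
  rw [Submodule.mem_inf, mem_Fz, mem_Fz, List.forall_mem_cons, and_comm]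
  rfl

theorem Fz_app {Z Z' : List (List ℕ)} {v : LK} (h : v ∈ Fz g Z) (h' : v ∈ Fz g Z') : v ∈ Fz g (Z ++ Z') := fun w hw =>
  (List.mem_append.1 hw).elim (h w) (h' w)

theorem dz_nil : dz g [] = 248 := by
  have h : Fz g [] = ⊤ := eq_top_iff.2 fun v _ w hw => absurd hw List.not_mem_nil
  rw [dz, h, finrank_top, finrank_LK]

theorem dz_one (w : List ℕ) : dz g [w] = cf (pw g w) := by
  have h : Fz g [w] = Cfsg.Agent.H943.RepAdd.eig rE (pw g w) 1 := by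
    ext v
    rw [mem_eig1, mem_Fz, List.forall_mem_singleton]
  rw [dz, h, cf]

theorem rE_app (w w' : List ℕ) (v : LK) : rE (pw g (w ++ w')) v = rE (pw g w) (rE (pw g w') v) := by
  rw [pw_append, rE_mul]

theorem fix_flat {Z : List (List ℕ)} {v : LK} (hv : v ∈ Fz g Z) (c : List ℕ) : rE (pw g (flat Z c)) v = v := by
  induction c with
  | nil => exact rE_one v
  | cons i c ih =>
    rw [flat, List.flatMap_cons, rE_app]
    rw [flat] at ih
    rw [ih]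
    by_cases hi : i < Z.length
    · rw [List.getD_eq_getElem _ _ hi]; exact hv _ (List.getElem_mem hi)
    · rw [List.getD_eq_default _ _ (not_lt.1 hi)]; exact rE_one v

/-- a relation modulo the words of `Z` -/
theorem Sd.act (h : Sd ok g) {Z : List (List ℕ)} {w w' c : List ℕ} (e : ok w (w' ++ flat Z c) = true) {v : LK}
    (hv : v ∈ Fz g Z) : rE (pw g w) v = rE (pw g w') v := by
  rw [h _ _ e, rE_app, fix_flat hv]

/-- the word `c` conjugates the words of `Z'` into the group generated by `Z` -/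
def mapOk (ok : List ℕ → List ℕ → Bool) (c : List ℕ) (Z Z' cs : List (List ℕ)) : Bool :=
  (List.range Z'.length).all fun i => ok (Z'.getD i [] ++ c) (c ++ flat Z (cs.getD i []))

theorem Sd.map_mem (h : Sd ok g) {c : List ℕ} {Z Z' cs : List (List ℕ)} (e : mapOk ok c Z Z' cs = true) {v : LK}
    (hv : v ∈ Fz g Z) : rE (pw g c) v ∈ Fz g Z' := by
  intro w hw
  obtain ⟨i, hi, rfl⟩ := List.getElem_of_mem hw
  have e1 := h.act (List.all_eq_true.1 e i (List.mem_range.2 hi)) hv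
  rwa [List.getD_eq_getElem _ _ hi, rE_app] at e1

theorem Sd.le (h : Sd ok g) {Z Z' cs : List (List ℕ)} (e : mapOk ok [] Z Z' cs = true) : Fz g Z ≤ Fz g Z' := fun v hv => by
  have := h.map_mem e hv
  rwa [pw_nil, rE_one] at this

theorem Sd.dle (h : Sd ok g) {c : List ℕ} {Z Z' cs : List (List ℕ)} (e : mapOk ok c Z Z' cs = true) : dz g Z ≤ dz g Z' := by
  rw [dz, dz, ← LinearEquiv.finrank_map_eq (rEq (pw g c)) (Fz g Z)]
  refine Submodule.finrank_mono ?_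
  rintro _ ⟨v, hv, rfl⟩
  exact h.map_mem e hv

/-- the certificates for an equality of dimensions -/
abbrev EC : Type := (List ℕ × List (List ℕ)) × List ℕ × List (List ℕ)

/-- two lists generate conjugate groups -/
def eqOk (ok : List ℕ → List ℕ → Bool) (Z Z' : List (List ℕ)) (e : EC) : Bool :=
  mapOk ok e.1.1 Z Z' e.1.2 && mapOk ok e.2.1 Z' Z e.2.2

theorem Sd.deq (h : Sd ok g) {Z Z' : List (List ℕ)} {e : EC} (k : eqOk ok Z Z' e = true) : dz g Z = dz g Z' := by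
  rw [eqOk, Bool.and_eq_true] at k
  exact le_antisymm (h.dle k.1) (h.dle k.2)

theorem Sd.cfq (h : Sd ok g) {w w' : List ℕ} {e : EC} (k : eqOk ok [w] [w'] e = true) : cf (pw g w) = dz g [w'] :=
  (dz_one w).symm.trans (h.deq k)

theorem Fz_eq {Z Z' : List (List ℕ)} (h : Fz g Z ≤ Fz g Z') (e : dz g Z' ≤ dz g Z) : Fz g Z' ≤ Fz g Z :=
  (Submodule.eq_of_le_of_finrank_le h e).ge

/-- the words `a`, `b` act on the fixed space of `Z` as commuting elements of order three -/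
def pairOk (ok : List ℕ → List ℕ → Bool) (Z : List (List ℕ)) (a b : List ℕ) (ca cb : List (List ℕ)) (c1 c2 c3 : List ℕ)
    (Z0 Z1 Z2 Z3 Z4 : List (List ℕ)) (e0 e1 e2 e3 e4 : EC) : Bool :=
  mapOk ok a Z Z ca && mapOk ok b Z Z cb && ok (b ++ a) ((a ++ b) ++ flat Z c1) && ok (a ++ (a ++ a)) ([] ++ flat Z c2) &&
    ok (b ++ (b ++ b)) ([] ++ flat Z c3) && eqOk ok (b :: a :: Z) Z0 e0 && eqOk ok (a :: Z) Z1 e1 && eqOk ok (b :: Z) Z2 e2 &&
    eqOk ok ((a ++ b) :: Z) Z3 e3 && eqOk ok ((a ++ (b ++ b)) :: Z) Z4 e4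

theorem three_ne : (3 : KK) ≠ 0 := by
  have h : (3 : KK) = 1 := by linear_combination (CharTwo.two_eq_zero : (2 : KK) = 0)
  rw [h]; exact one_ne_zero

theorem Sd.cube' (h : Sd ok g) {Z : List (List ℕ)} {a c : List ℕ} (e : ok (a ++ (a ++ a)) ([] ++ flat Z c) = true) {v : LK}
    (hv : v ∈ Fz g Z) : rE (pw g a) (rE (pw g a) (rE (pw g a) v)) = v := by
  have e1 := h.act e hv
  rwa [rE_app, rE_app, pw_nil, rE_one] at e1

/-- **the relation of a group of order nine** -/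
theorem Sd.pair (h : Sd ok g) {Z : List (List ℕ)} {a b : List ℕ} {ca cb : List (List ℕ)} {c1 c2 c3 : List ℕ}
    {Z0 Z1 Z2 Z3 Z4 : List (List ℕ)} {e0 e1 e2 e3 e4 : EC} (k : pairOk ok Z a b ca cb c1 c2 c3 Z0 Z1 Z2 Z3 Z4 e0 e1 e2 e3 e4 = true) :
    dz g Z + 3 * dz g Z0 = dz g Z1 + dz g Z2 + dz g Z3 + dz g Z4 := by
  simp only [pairOk, Bool.and_eq_true] at k
  obtain ⟨⟨⟨⟨⟨⟨⟨⟨⟨k1, k2⟩, k3⟩, k4⟩, k5⟩, k6⟩, k7⟩, k8⟩, k9⟩, k10⟩ := k
  have e := Cfsg.Agent.H175.LD.four_rel_on three_ne (Fz g Z) (R := rE (pw g a)) (S := rE (pw g b))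
    (fun y hy => h.map_mem k1 hy) (fun y hy => h.map_mem k2 hy)
    (fun y hy => (rE_app b a y).symm.trans ((h.act k3 hy).trans (rE_app a b y))) (fun y hy => h.cube' k4 hy)
    (fun y hy => h.cube' k5 hy)
  have a1 : rE (pw g a) ∘ₗ rE (pw g b) = rE (pw g (a ++ b)) := LinearMap.ext fun v => by
    rw [LinearMap.comp_apply, rE_app]
  have a2 : rE (pw g a) ∘ₗ rE (pw g b) ∘ₗ rE (pw g b) = rE (pw g (a ++ (b ++ b))) :=
    LinearMap.ext fun v => by rw [LinearMap.comp_apply, LinearMap.comp_apply, rE_app, rE_app]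
  rw [a1, a2, ← inf_assoc, ← Fz_cons, ← Fz_cons, ← Fz_cons, ← Fz_cons, ← Fz_cons] at e
  rw [← h.deq k6, ← h.deq k7, ← h.deq k8, ← h.deq k9, ← h.deq k10]
  exact e

theorem Sd.cube (h : Sd ok g) {a : List ℕ} (k : ok (a ++ (a ++ a)) [] = true) : pw g a ^ 3 = 1 := by
  rw [pow_succ', pow_two, ← pw_append, ← pw_append]
  exact h _ _ k

theorem Sd.comm (h : Sd ok g) {a b : List ℕ} (k : ok (a ++ b) (b ++ a) = true) : Commute (pw g a) (pw g b) := by
  have := h _ _ k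
  rwa [pw_append, pw_append] at this

theorem Sd.inv (h : Sd ok g) {a b : List ℕ} (k : ok (a ++ b) [] = true) : (pw g a)⁻¹ = pw g b :=
  inv_eq_of_mul_eq_one_right ((pw_append g a b).symm.trans (h _ _ k))

theorem Sd.conj (h : Sd ok g) {c a b : List ℕ} (k : ok (c ++ a) (b ++ c) = true) : pw g c * pw g a * (pw g c)⁻¹ = pw g b := by
  rw [← pw_append, h _ _ k, pw_append, mul_inv_cancel_right]

theorem fd3' {x : E2} (hx : x ^ 3 = 1) : cf x = 248 ∨ cf x = 134 ∨ cf x = 92 ∨ cf x = 86 ∨ cf x = 80 := by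
  by_cases h : x = 1
  · exact Or.inl (h ▸ fd_one)
  · exact Or.inr (fd3 hx h)

theorem Sd.val (h : Sd ok g) {a : List ℕ} (k : ok (a ++ (a ++ a)) [] = true) :
    dz g [a] = 248 ∨ dz g [a] = 134 ∨ dz g [a] = 92 ∨ dz g [a] = 86 ∨ dz g [a] = 80 := by
  rw [dz_one]; exact fd3' (h.cube k)

/-- the check for the parallelogram law -/
def parOk (ok : List ℕ → List ℕ → Bool) (a b a1 b1 p q : List ℕ) (e1 e2 e3 e4 : EC) : Bool :=
  ok (a ++ (a ++ a)) [] && ok (b ++ (b ++ b)) [] && ok (a ++ b) (b ++ a) && eqOk ok [a] [a1] e1 && eqOk ok [b] [b1] e2 &&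
    eqOk ok [a ++ b] [p] e3 && eqOk ok [a ++ (b ++ b)] [q] e4

theorem Sd.par (h : Sd ok g) {a b a1 b1 p q : List ℕ} {e1 e2 e3 e4 : EC} (k : parOk ok a b a1 b1 p q e1 e2 e3 e4 = true) :
    qe (dz g [p]) + qe (dz g [q]) = 2 * (qe (dz g [a1]) + qe (dz g [b1])) := by
  simp only [parOk, Bool.and_eq_true] at k
  obtain ⟨⟨⟨⟨⟨⟨k1, k2⟩, k3⟩, k4⟩, k5⟩, k6⟩, k7⟩ := k
  have e := Cfsg.Agent.E82.par (h.cube k1) (h.cube k2) (h.comm k3)
  rwa [h.inv k2, ← pw_append, ← pw_append, h.cfq k4, h.cfq k5, h.cfq k6, h.cfq k7] at e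

/-- a letter is not trivial -/
theorem Sd.ne_one (h : Sd ok g) {j : ℕ} {w w' : List ℕ} (k1 : ok w w' = true) (k2 : ok (w.filter (· != j)) [] = true)
    (h0 : pw g w' ≠ 1) : g j ≠ 1 := by
  intro e
  have key : ∀ w : List ℕ, pw g (w.filter (· != j)) = pw g w := by
    intro w
    induction w with
    | nil => rfl
    | cons i w ih =>
      by_cases hi : i = j
      · rw [List.filter_cons_of_neg (by simp [hi]), ih, pw_cons, hi, e, one_mul]
      · rw [List.filter_cons_of_pos (by simp [hi]), pw_cons, pw_cons, ih]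
  exact h0 (by rw [← h _ _ k1, ← key, h _ _ k2, pw_nil])

theorem dz_ne {j : ℕ} (h : g j ≠ 1) : dz g [[j]] ≠ 248 := by
  intro e
  have e1 : Fz g [[j]] = ⊤ := Submodule.eq_top_of_finrank_eq (e.trans finrank_LK.symm)
  refine h (Cfsg.Agent.H939.L64.rE_inj fun v => ?_)
  have := (e1 ▸ Submodule.mem_top : v ∈ Fz g [[j]]) [j] List.mem_cons_self
  rwa [pw_single] at this

/-! ### the form on the fixed space of an elementary abelian group -/

/-- the words are commuting elements of order three -/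
def abOk (ok : List ℕ → List ℕ → Bool) (Z : List (List ℕ)) : Bool :=
  Z.all fun a => ok (a ++ (a ++ a)) [] && Z.all fun b => ok (a ++ b) (b ++ a)

theorem exists_proj {B : LK →ₗ[KK] LK →ₗ[KK] KK} (hB : ∀ (x : E2) v w, B (rE x v) (rE x w) = B v w) {Z : List (List ℕ)}
    (h1 : ∀ a ∈ Z, pw g a ^ 3 = 1) (h2 : ∀ a ∈ Z, ∀ b ∈ Z, Commute (pw g a) (pw g b)) (x : LK) :
    ∃ y ∈ Fz g Z, ∀ v ∈ Fz g Z, B v y = B v x := by
  induction Z with
  | nil => exact ⟨x, fun _ hw => absurd hw List.not_mem_nil, fun _ _ => rfl⟩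
  | cons a Z ih =>
    obtain ⟨y, hy, e⟩ := ih (fun b hb => h1 b (List.mem_cons_of_mem _ hb)) fun b hb c hc =>
      h2 b (List.mem_cons_of_mem _ hb) c (List.mem_cons_of_mem _ hc)
    have k : ∀ u ∈ Fz g Z, rE (pw g a) u ∈ Fz g Z := fun u hu b hb => by
      rw [← rE_mul, (h2 b (List.mem_cons_of_mem _ hb) a List.mem_cons_self).eq, rE_mul, hu b hb]
    refine ⟨y + rE (pw g a) y + rE (pw g a) (rE (pw g a) y), ?_, fun v hv => ?_⟩
    · rw [Fz_cons]
      refine ⟨(Fz g Z).add_mem ((Fz g Z).add_mem hy (k _ hy)) (k _ (k _ hy)), ?_⟩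
      have e3 : rE (pw g a) (rE (pw g a) (rE (pw g a) y)) = y := by
        rw [← rE_mul, ← rE_mul, ← pow_two, ← pow_succ, h1 a List.mem_cons_self, rE_one]
      rw [SetLike.mem_coe, mem_Fk, map_add, map_add, e3]
      abel
    · have k1 : ∀ u, B v (rE (pw g a) u) = B v u := fun u => by
        conv_lhs => rw [← hv a List.mem_cons_self, hB]
      rw [map_add, map_add, k1, k1 (rE (pw g a) y), k1, e v fun b hb => hv b (List.mem_cons_of_mem _ hb)]
      linear_combination B v x * (CharTwo.two_eq_zero : (2 : KK) = 0)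

/-- the operator of a word on a fixed space -/
noncomputable def Sd.op (h : Sd ok g) {c : List ℕ} {Z cs : List (List ℕ)} (e : mapOk ok c Z Z cs = true) :
    Fz g Z →ₗ[KK] Fz g Z := (rE (pw g c)).restrict fun _ hv => h.map_mem e hv

theorem Sd.op_apply (h : Sd ok g) {c : List ℕ} {Z cs : List (List ℕ)} (e : mapOk ok c Z Z cs = true) (v : Fz g Z) :
    (h.op e v : LK) = rE (pw g c) v := rfl

theorem Sd.op_fk (h : Sd ok g) {c : List ℕ} {Z cs : List (List ℕ)} (e : mapOk ok c Z Z cs = true) :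
    finrank KK (Fk (h.op e)) = dz g (c :: Z) := by
  rw [dz, Fz_cons]
  exact Cfsg.Agent.H175.LD.finrank_restrict _ _ fun _ => Subtype.ext_iff

theorem Sd.op_fk2 (h : Sd ok g) {c c' : List ℕ} {Z cs cs' : List (List ℕ)} (e : mapOk ok c Z Z cs = true)
    (e' : mapOk ok c' Z Z cs' = true) : finrank KK ↥(Fk (h.op e) ⊓ Fk (h.op e')) = dz g (c' :: c :: Z) := by
  rw [dz, Fz_cons, Fz_cons, inf_assoc]
  exact Cfsg.Agent.H175.LD.finrank_restrict _ _ fun _ => and_congr Subtype.ext_iff Subtype.ext_iff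

theorem Sd.form (h : Sd ok g) {Z : List (List ℕ)} (k : abOk ok Z = true) : ∃ B : LinearMap.BilinForm KK (Fz g Z), Frm B ∧
    ∀ {c : List ℕ} {cs : List (List ℕ)} (e : mapOk ok c Z Z cs = true) (v w : Fz g Z), B (h.op e v) (h.op e w) = B v w := by
  obtain ⟨B, h1, h2, h3⟩ := Cfsg.Agent.H939.L64.exists_form
  have hB : ∀ (x : E2) v w, B (rE x v) (rE x w) = B v w := fun x => h1 (_root_.Cfsg.Agent.H939.L64.em x)
  simp only [abOk, List.all_eq_true, Bool.and_eq_true] at k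
  refine ⟨LinearMap.BilinForm.restrict B (Fz g Z), ⟨fun v w => h2 v w, fun v hv => Subtype.ext (h3 v fun x => ?_)⟩,
    fun e v w => hB _ _ _⟩
  obtain ⟨y, hy, e⟩ := exists_proj hB (fun a ha => h.cube (k a ha).1) (fun a ha b hb => h.comm ((k a ha).2 b hb)) x
  exact (e v v.2).symm.trans (hv ⟨y, hy⟩)

end Cfsg.Agent.E82.O8
end

-- part: E82/O8/Model
section
/-!
# S3369, the row `Ω₈⁺(2)`: the model `D₄(2)`, words in the root elements, the triality (helper94)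
-/

set_option autoImplicit false
set_option maxRecDepth 100000

namespace Cfsg.Agent.E82.O8

open Module Cfsg Cfsg.Lie Matrix
open Cfsg.Agent.H939.L64 (KK E2 LK rE rE_mul)
open Cfsg.Agent.E82.Mach
open Cfsg.Agent.ChevalleyStructure Cfsg.Agent.H79.SimpleGen Cfsg.Agent.H79.GraphD4
open Cfsg.Agent.ChevalleyStructure.OrthLie Cfsg.Agent.ChevalleyStructure.OrthHyp
open Cfsg.Agent.ChevalleyStructure.OrthD4Def (tab)

/-- the model -/
abbrev D4 : Type := ↥(chevD4.group (ZMod 2))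

/-- the root elements -/
def x0 (r : ℕ) : D4 := xS memD4 r 1

/-- the root elements in the natural module -/
noncomputable def v0 (r : ℕ) : GL (Fin 4 ⊕ Fin 4) (ZMod 2) :=
  if h : r < chevD4.nroots then Tab.rootV (OrthD4Tab.compat (ZMod 2)) ⟨r, h⟩ 1 else 1

theorem rel0 (w : List ℕ) : tab.Rel (plusForm 4 (ZMod 2)) (pw v0 w)
    (((pw x0 w : D4) : GL chevD4.Idx (ZMod 2)) : Matrix chevD4.Idx chevD4.Idx (ZMod 2)) := by
  induction w with
  | nil => exact Tab.Rel.one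
  | cons r w ih =>
    rw [pw_cons, pw_cons, Subgroup.coe_mul, Units.val_mul]
    refine Tab.Rel.mul ?_ ih
    rw [x0, mat_xS, v0]
    by_cases h : r < chevD4.nroots
    · rw [dif_pos h, Elts.x_of_lt h]
      exact Tab.rel_rootV _ OrthD4Tab.ok _ _
    · rw [dif_neg h, Elts.x_of_not_lt h]
      exact Tab.Rel.one

theorem x0_eq {w w' : List ℕ} (h : pw v0 w = pw v0 w') : pw x0 w = pw x0 w' :=
  Subtype.ext (Units.ext (Tab.Rel.unique (OrthD4Tab.compat (ZMod 2)) OrthD4Tab.span (h ▸ rel0 w) (rel0 w')))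

/-- the natural module -/
noncomputable def rho8 : GL (Fin 4 ⊕ Fin 4) (ZMod 2) →* End F2 (X 8) where
  toFun A := Matrix.toLin' (Matrix.reindex finSumFinEquiv finSumFinEquiv (A : Matrix (Fin 4 ⊕ Fin 4) (Fin 4 ⊕ Fin 4) (ZMod 2)))
  map_one' := by rw [Units.val_one, Matrix.reindex_apply, Matrix.submatrix_one_equiv, Matrix.toLin'_one]; rfl
  map_mul' A B := by
    rw [Units.val_mul, Matrix.reindex_apply, Matrix.reindex_apply, Matrix.reindex_apply, ← Matrix.submatrix_mul_equiv _ _ _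
      finSumFinEquiv.symm, Matrix.toLin'_mul]
    rfl

theorem rho8_inj : Function.Injective rho8 := fun _ _ h =>
  Units.ext ((Matrix.reindex finSumFinEquiv finSumFinEquiv).injective (Matrix.toLin'.injective h))

/-- the tables of the root elements -/
noncomputable def G24 : List (List (ℕ × ℕ)) :=
  (by
  refine (?fq9001 : ((pk61l_v1 (fun i1 => (pk61l_v1 (fun i2 => (_root_.Prod.mk (pk61d_v1 (nat_lit 3) 
    (nat_lit 0xb348fc8a1d6bf6acfe6bac59e51a30638408) i2) (pk61d_v1 (nat_lit 3) 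
    (nat_lit 0x42e03c282b92f1e93df3aafaee8629e39a5) i2))) (Nat.mul (nat_lit 2) i1) (Nat.mul (nat_lit 2) (Nat.succ i1)) List.nil)) (nat_lit 0) (nat_lit 24) List.nil) : List (List (ℕ × ℕ)))
    = ?xq9001 → (List (List (ℕ × ℕ)))) ?hq9001; (case hq9001 => (set_option maxRecDepth 1000000 in set_option simprocs false in conv => lhs; reduce; dsimp only)); intro _; exact ?xq9001 : List (List (ℕ × ℕ)))

theorem G24_spec : ∀ (r : Fin chevD4.nroots) (i j : Fin 8), Tab.pvec (F := ZMod 2) (tab.tv r (finSumFinEquiv.symm i)) 1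
    ((finSumFinEquiv (m := 4) (n := 4)).symm j) = bt (actJ G24 r (2 ^ (i : ℕ))) j := by decide +kernel

theorem nat24 : Nat0 8 G24 v0 rho8 := by
  have hw : wfG 8 G24 = true := by decide +kernel
  refine ⟨hw, rho8_inj, fun r hr => x_ext fun i => ?_⟩
  have h : r < chevD4.nroots := hr
  rw [← bv_two_pow, ← (actJ_spec hw r (sm_two_pow i.2)).2, bv_two_pow]
  funext j
  have e := G24_spec ⟨r, h⟩ i j
  rw [← Tab.sgl_single (OrthD4Tab.compat (ZMod 2)), ← HypForm.sieg_act _ (HypForm.Q_single _ _ (Set.mem_univ _))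
    (Tab.B_smul_single_rt (OrthD4Tab.compat (ZMod 2)) _ _), Matrix.mulVec_single_one] at e
  show (Matrix.reindex finSumFinEquiv finSumFinEquiv (v0 r : Matrix (Fin 4 ⊕ Fin 4) (Fin 4 ⊕ Fin 4) (ZMod 2)) *ᵥ
    Pi.single i 1) j = _
  rw [Matrix.mulVec_single_one, v0, dif_pos h]
  exact e

theorem pw_flat {S : Type} [Group S] (σ : ℕ → S) (dw : ℕ → List ℕ) (w : List ℕ) :
    pw (fun j => pw σ (dw j)) w = pw σ (w.flatMap dw) := by
  induction w with
  | nil => rfl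
  | cons j w ih => rw [pw_cons, List.flatMap_cons, pw_append, ih]

theorem pw_hom {S T : Type} [Group S] [Group T] (f : S →* T) (σ : ℕ → S) (w : List ℕ) :
    pw (fun j => f (σ j)) w = f (pw σ w) := by
  induction w with
  | nil => exact (map_one f).symm
  | cons j w ih => rw [pw_cons, pw_cons, map_mul, ih]

/-- the tables `G` are those of the words `dw` -/
noncomputable def subOk (G : List (List (ℕ × ℕ))) (dw : ℕ → List ℕ) : Bool :=
  wfG 8 G && (List.range G.length).all fun j => inR 24 (dw j) && Nat.beq (evW 8 G [j]) (evW 8 G24 (dw j))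

theorem sd_sub {G : List (List (ℕ × ℕ))} {dw : ℕ → List ℕ} (h : subOk G dw = true) :
    Sd (okG 8 G) fun j => pw x0 (dw j) := by
  simp only [subOk, Bool.and_eq_true, List.all_eq_true, List.mem_range, Nat.beq_eq] at h
  have h1 : Nat0 8 G (fun j => pw v0 (dw j)) rho8 := ⟨h.1, rho8_inj, fun j hj => by
    rw [nat24.wd (inR_lt (h.2 j hj).1), ← lin_evW nat24.wf, ← (h.2 j hj).2, lin_evW h.1, wd_single]⟩
  intro w w' e
  have e1 := h1.pw_eq e
  rw [pw_flat, pw_flat] at e1 ⊢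
  exact x0_eq e1

theorem sd_24 : Sd (okG 8 G24) x0 := fun _ _ e => x0_eq (nat24.pw_eq e)

theorem Sd.hom {S T : Type} [Group S] [Group T] {ok : List ℕ → List ℕ → Bool} {σ : ℕ → S} (h : Sd ok σ) (f : S →* T) :
    Sd ok fun j => f (σ j) := fun w w' e => by rw [pw_hom, pw_hom, h w w' e]

theorem Sd.congr {S : Type} [Group S] {G : List (List (ℕ × ℕ))} {σ τ : ℕ → S} (h : Sd (okG 8 G) σ)
    (e : ∀ j < G.length, τ j = σ j) : Sd (okG 8 G) τ := by
  have key : ∀ w : List ℕ, (∀ j ∈ w, j < G.length) → pw τ w = pw σ w := fun w hw =>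
    congrArg List.prod (List.map_congr_left fun j hj => e j (hw j hj))
  intro w w' k
  have k1 := h w w' k
  rw [okG, Bool.and_eq_true, Bool.and_eq_true] at k
  rw [key w (inR_lt k.1.1), key w' (inR_lt k.1.2), k1]

theorem x0_ne : x0 18 ≠ 1 := fun h =>
  one_ne_zero (xS_injective (F := ZMod 2) memD4 (r := 18) (by decide) (h.trans (xS_zero memD4 18).symm))

/-- a subgroup which contains the eight generators -/
theorem top_of (K : Subgroup D4) (h : ∀ r ∈ [18, 14, 13, 12, 5, 9, 10, 11], x0 r ∈ K) : K = ⊤ := by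
  have k : ∀ r ∈ [18, 14, 13, 12, 5, 9, 10, 11], ∀ t : ZMod 2, xS memD4 r t ∈ K := fun r hr t => by
    rcases f2_cases t with rfl | rfl
    · rw [xS_zero]; exact K.one_mem
    · exact h r hr
  exact eq_top_of_simple memD4 K (fun i hi => k _ (by revert i; decide)) fun i hi => k _ (by revert i; decide)

/-! ### the triality -/

/-- the triality -/
noncomputable def gam : MulAut D4 := gammaD4 (ZMod 2) H79.OutAbs.c3

/-- the permutation of the roots -/
def tr (r : ℕ) : ℕ := (beta% delta% lq26092fbbe6 fun a b _ _ _ =>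
 (a 0<|a 1<|a 6<|a 2<|a 7<|a 10<|a 3<|a 8<|a 4<|a 9<|a 11<|a 5<|a 18<|a 12<|a 14<|a 19<|a 15<|a 20<|a 13<|a 16<|a 21<|a 17<|a 22<|a 23<|b).getD r r)

theorem gam_x0 (r : ℕ) : gam (x0 r) = x0 (tr r) := by
  have e : gam = GraphSymm.symmD4a.aut (ZMod 2) :=
    (gammaD4_spec _ _).unique (isG_of_symm GraphSymm.symmD4a _ _ extD4_c3 S1081.specD4a)
  by_cases h : r < chevD4.nroots
  · have k : ∀ r : Fin chevD4.nroots, (GraphSymm.symmD4a.σ r).val = tr r ∧ ((GraphSymm.symmD4a.ε r : ℤ) : ZMod 2) = 1 := by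
      decide +kernel
    have e1 := GraphSymm.symmD4a.aut_x (ZMod 2) (x0 r) ⟨r, h⟩ 1 rfl
    rw [(k _).1, (k _).2, one_mul] at e1
    rw [e]
    exact (eq_xS_iff memD4 _ _ _).2 e1
  · have e1 : x0 r = 1 := Subtype.ext (Units.ext (Elts.x_of_not_lt h 1))
    have e2 : tr r = r := List.getD_eq_default _ _ (not_lt.1 h)
    rw [e2, e1, map_one]

theorem gam_pw (w : List ℕ) : gam (pw x0 w) = pw x0 (w.map tr) := by
  induction w with
  | nil => exact map_one gam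
  | cons j w ih => rw [List.map_cons, pw_cons, pw_cons, map_mul, ih, gam_x0]

theorem fld_id {F : Type} [Field F] {D : ChevalleyDatum} (hD : Elts.InList D) {f : ↥(D.group F) ≃* ↥(D.group F)}
    (hf : D.IsFieldAut f) (h : ∀ (σ : F ≃+* F) t, σ t = t) (y : ↥(D.group F)) : f y = y := by
  obtain ⟨σ, hf⟩ := hf
  have e : f = MulEquiv.refl _ :=
    equiv_ext hD _ _ (fun i hi t => by rw [field_apply hD hf (simple_lt hD hi), h, MulEquiv.refl_apply])
      fun i hi t => by rw [field_apply hD hf (neg_simple_lt hD hi), h, MulEquiv.refl_apply]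
  rw [e, MulEquiv.refl_apply]

theorem aut_fac (θ : D4 ≃* D4) : ∃ (s : D4) (τ : Equiv.Perm (Fin 3)), ∀ y, θ y = s * gammaD4 (ZMod 2) τ y * s⁻¹ := by
  obtain ⟨s, d, g, f, ⟨χ, -, hd⟩, hg, hf, h⟩ := S2156.result chevD4 (by simp) θ
  obtain ⟨τ, rfl⟩ := exists_gamma_eq hg
  have e1 : ∀ y, d y = y := fun y => by
    have k : ∀ ψ : ℕ → (ZMod 2)ˣ, chevD4.charDiag (ZMod 2) ψ = 1 := fun ψ => by
      rw [ChevalleyDatum.charDiag, ← Matrix.diagonal_one]
      congr 1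
      funext i
      rcases i with i | i
      · rfl
      · exact congrArg Units.val (Subsingleton.elim (ψ i) 1)
    refine Subtype.ext (Units.ext ?_)
    rw [hd, k, k, one_mul, mul_one]
  have e2 : ∀ y, f y = y := fld_id memD4 hf fun σ t => by
    rcases f2_cases t with rfl | rfl
    · exact map_zero σ
    · exact map_one σ
  exact ⟨s, τ, fun y => by rw [h, e1, e2]⟩

section sub

variable {G G' : Type} [Group G] [Group G'] {H : Subgroup G} {K : Subgroup G'}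

theorem sub_simple (e : H ≃* K) (h : IsSimpleGroup K) : IsSimpleGroup H := e.isSimpleGroup

theorem sub_aut (e : H ≃* K) : Nat.card (MulAut H) = Nat.card (MulAut K) := card_aut_congr e

theorem sub_row (e : H ≃* K) (h : ROW H) : ROW K := ROW.of_equiv e h

end sub

theorem two_zero : (2 : ZMod 2) = 0 := rfl

theorem exists_iso : Nonempty (D4 ≃* O8) := H857.OE8.d4_omega two_zero

theorem aut_D4 : Nat.card (MulAut D4) = Nat.card D4 * 6 := by
  obtain ⟨e⟩ := exists_iso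
  rw [sub_aut e, Nat.card_congr e.toEquiv, aut_O8]

theorem card_D4 : Nat.card D4 = 174182400 := by
  obtain ⟨e⟩ := exists_iso
  rw [Nat.card_congr e.toEquiv, card_O8]

theorem small_D4 : Small D4 := by
  obtain ⟨e⟩ := exists_iso
  exact small_of (sub_simple e simple_O8) card_D4 aut_D4 (by norm_num) (by norm_num) (by norm_num) (by norm_num) (by norm_num)

/-- **the socle has index at most two, or there is a triality** -/
theorem tri_cases {f : D4 →* E2} {H : Subgroup E2} (hS : Sit f H) : (Fixd f → False) ∨ ∃ t : E2, t ^ 3 = 1 ∧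
    (∀ s, t * f s = f (gam s) * t) ∧ ∀ v : LK, v ≠ 0 → (∀ s, rE (f s) v = v) → rE t v = v → False := by
  have hfin := finite_E2
  have hN := hS.soc_normal
  have hl : hS.soc.index ∣ 2 → Fixd f → False := fun h1 ⟨v, hv, h2⟩ =>
    hS.end_norm small_D4 hS.soc hN (k := 1) h1 hv fun g hg => by
      obtain ⟨s, h3⟩ := hS.mem_soc.1 hg
      rw [← h3, h2]
  rcases exists_three hS.soc (hS.index_soc small_D4 aut_D4) with h1 | ⟨t0, K, h1, h2, h3, h4⟩
  · exact Or.inl (hl h1)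
  obtain ⟨θ, hθ⟩ := hS.nor t0 t0.2
  obtain ⟨s, τ, hτ⟩ := aut_fac θ
  obtain ⟨t, ht⟩ : ∃ t : E2, t = (f s)⁻¹ * t0 := ⟨_, rfl⟩
  have a0 : (t0 : E2) = f s * t := by rw [ht, mul_inv_cancel_left]
  have a1 : t ∈ H := ht ▸ H.mul_mem (H.inv_mem (hS.le s)) t0.2
  have a2 : ∀ y, t * f y = f (gammaD4 (ZMod 2) τ y) * t := fun y => by
    have k := hθ y
    rw [hτ, map_mul, map_mul, map_inv, a0] at k
    calc t * f y = (f s)⁻¹ * (f s * t * f y * (f s * t)⁻¹) * (f s * t) := by group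
      _ = _ := by rw [← k]; group
  have a3 : ∀ (n : ℕ) y, t ^ n * f y = f (gammaD4 (ZMod 2) (τ ^ n) y) * t ^ n := fun n => by
    induction n with
    | zero => intro y; rw [pow_zero, pow_zero, map_one, one_mul, mul_one]; rfl
    | succ n ih => intro y; rw [pow_succ, mul_assoc, a2, ← mul_assoc, ih, mul_assoc, pow_succ τ, map_mul (gammaD4 _)]; rfl
  have a4 : ∀ n : ℕ, τ ^ n = 1 → t ^ n = 1 := fun n hn => hS.tri _ (H.pow_mem a1 n) fun y => by
    have k := a3 n y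
    rwa [hn, map_one] at k
  have a5 : ∀ v : LK, v ≠ 0 → (∀ s, rE (f s) v = v) → rE t v = v → False := fun v hv k1 k2 =>
    hS.end_norm small_D4 K h2 (k := 1) h3 hv fun g hg => by
      obtain ⟨n, s', hs', rfl⟩ := h4 g hg
      obtain ⟨y, hy⟩ := hS.mem_soc.1 hs'
      have k3 : (t0 : E2) ^ n ∈ stabV v := (stabV v).pow_mem (by rw [mem_stabV, a0, rE_mul, k2, k1]) n
      rw [Subgroup.coe_mul, rE_mul, Subgroup.coe_pow, mem_stabV.1 k3, ← hy, k1]
  have hc : ∀ τ : Equiv.Perm (Fin 3), τ ^ 2 = 1 ∨ (τ ^ 3 = 1 ∧ (τ = H79.OutAbs.c3 ∨ τ ^ 2 = H79.OutAbs.c3)) := by decide +kernel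
  rcases hc τ with k | ⟨k, k1 | k1⟩
  · refine Or.inl (hl (dvd_trans (Subgroup.index_dvd_of_le ?_) h3))
    have k2 : (QuotientGroup.mk t0 : ↥H ⧸ hS.soc) = QuotientGroup.mk ⟨t, a1⟩ := by
      rw [eq_comm, QuotientGroup.eq_iff_div_mem]
      exact hS.mem_soc.2 ⟨s⁻¹, by
        show _ = t * (t0 : E2)⁻¹
        rw [a0, map_inv]; group⟩
    have k3 : (QuotientGroup.mk t0 : ↥H ⧸ hS.soc) ^ 2 = 1 := by
      rw [k2, ← QuotientGroup.mk_pow, show (⟨t, a1⟩ : ↥H) ^ 2 = 1 from Subtype.ext (a4 2 k), QuotientGroup.mk_one]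
    have k4 : (QuotientGroup.mk t0 : ↥H ⧸ hS.soc) ^ 3 = 1 := by
      rw [← QuotientGroup.mk_pow, QuotientGroup.eq_one_iff]; exact h1
    rw [pow_succ, k3, one_mul, QuotientGroup.eq_one_iff] at k4
    intro g hg
    obtain ⟨n, s', hs', rfl⟩ := h4 g hg
    exact hS.soc.mul_mem hs' (hS.soc.pow_mem k4 n)
  · exact Or.inr ⟨t, a4 3 k, fun y => by rw [a2, k1]; rfl, a5⟩
  · refine Or.inr ⟨t ^ 2, by rw [← pow_mul, mul_comm, pow_mul, a4 3 k, one_pow], fun y => by rw [a3, k1]; rfl,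
      fun v hv k2 k3 => a5 v hv k2 ?_⟩
    have k4 : t = t ^ 2 * t ^ 2 := by rw [← pow_add, show 2 + 2 = 3 + 1 from rfl, pow_succ, a4 3 k, one_mul]
    rw [k4, rE_mul, k3, k3]

/-- the normal form of a word with the letter `99` for the triality -/
noncomputable def nf (dw : ℕ → List ℕ) (w : List ℕ) : List ℕ × ℕ :=
  List.rec (motive := fun _ => List ℕ × ℕ) ([], 0)
    (fun j _ ih => cond (Nat.beq j 99) (ih.1.map tr, ih.2 + 1) (dw j ++ ih.1, ih.2)) w

/-- the oracle with the triality -/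
noncomputable def okK (dw : ℕ → List ℕ) (w w' : List ℕ) : Bool :=
  okG 8 G24 (nf dw w).1 (nf dw w').1 && Nat.beq ((nf dw w).2 % 3) ((nf dw w').2 % 3)

theorem sd_K (dw : ℕ → List ℕ) (f : D4 →* E2) {t : E2} (h3 : t ^ 3 = 1) (h : ∀ s, t * f s = f (gam s) * t) :
    Sd (okK dw) fun j => if j = 99 then t else f (pw x0 (dw j)) := by
  have key : ∀ w, pw (fun j => if j = 99 then t else f (pw x0 (dw j))) w = f (pw x0 (nf dw w).1) * t ^ (nf dw w).2 := by
    intro w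
    induction w with
    | nil => exact ((mul_one _).trans (map_one f)).symm
    | cons j w ih =>
      have e : nf dw (j :: w) = cond (Nat.beq j 99) ((nf dw w).1.map tr, (nf dw w).2 + 1) (dw j ++ (nf dw w).1, (nf dw w).2) :=
        rfl
      rw [pw_cons, ih, e]
      by_cases hj : j = 99
      · rw [if_pos hj, hj, Nat.beq_refl, cond_true, ← mul_assoc, h, gam_pw, mul_assoc, ← pow_succ']
      · rw [if_neg hj, Bool.eq_false_iff.2 fun k => hj (Nat.eq_of_beq_eq_true k), cond_false, pw_append, map_mul, mul_assoc]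
  intro w w' e
  rw [okK, Bool.and_eq_true] at e
  rw [key, key, sd_24 _ _ e.1, pow_eq_pow_mod _ h3, Nat.eq_of_beq_eq_true e.2, ← pow_eq_pow_mod _ h3]

end Cfsg.Agent.E82.O8
end

-- part: E82/O8/Wd
section
/-!
# S3369, the row `Ω₈⁺(2)`: more tools for words (helper94)
-/

set_option autoImplicit false
set_option maxRecDepth 100000

namespace Cfsg.Agent.E82.O8

open Module Cfsg Cfsg.Lie
open Cfsg.Agent.H175.LD (Fk mem_Fk)
open Cfsg.Agent.H939.L64 (KK E2 LK rE rE_mul rE_one)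
open Cfsg.Agent.E82.Mach

variable {ok : List ℕ → List ℕ → Bool} {g : ℕ → E2}

theorem Sd.nine (h : Sd ok g) {a w : List ℕ} (k1 : ok (a ++ (a ++ a)) w = true) (k2 : ok (w ++ (w ++ w)) [] = true)
    (h0 : pw g w ≠ 1) : dz g [w] = 86 ∧ (dz g [a] = 28 ∨ dz g [a] = 48 ∨ dz g [a] = 34 ∨ dz g [a] = 30) := by
  have e : pw g a ^ 3 = pw g w := by
    rw [pow_succ', pow_two, ← pw_append, ← pw_append]
    exact h _ _ k1
  have e1 := fd9 (x := pw g a) (by rw [show 9 = 3 * 3 from rfl, pow_mul, e, h.cube k2]) (e ▸ h0)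
  rwa [e, ← dz_one, ← dz_one] at e1

/-- the words of a list are conjugate to a given word -/
def cfOk (ok : List ℕ → List ℕ → Bool) (L : List (List ℕ)) (w : List ℕ) (cs : List EC) : Bool :=
  (List.range L.length).all fun i => eqOk ok [L.getD i []] [w] (cs.getD i (([], []), [], []))

theorem Sd.cfl (h : Sd ok g) {L : List (List ℕ)} {w : List ℕ} {cs : List EC} (k : cfOk ok L w cs = true) :
    ∀ w' ∈ L, cf (pw g w') = dz g [w] := by
  intro w' hw
  obtain ⟨i, hi, rfl⟩ := List.getElem_of_mem hw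
  have e := h.cfq (List.all_eq_true.1 k i (List.mem_range.2 hi))
  rwa [List.getD_eq_getElem _ _ hi] at e

theorem dz_le {Z Z' : List (List ℕ)} (h : Fz g Z ≤ Fz g Z') : dz g Z ≤ dz g Z' := Submodule.finrank_mono h

theorem Fz_mk {w : List ℕ} {Z : List (List ℕ)} {v : LK} (h : rE (pw g w) v = v) (h' : v ∈ Fz g Z) : v ∈ Fz g (w :: Z) :=
  List.forall_mem_cons.2 ⟨h, h'⟩

theorem Fz_hd {w : List ℕ} {Z : List (List ℕ)} {v : LK} (h : v ∈ Fz g (w :: Z)) : rE (pw g w) v = v := h w List.mem_cons_self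

theorem Fz_tl {w : List ℕ} {Z : List (List ℕ)} {v : LK} (h : v ∈ Fz g (w :: Z)) : v ∈ Fz g Z := fun a ha =>
  h a (List.mem_cons_of_mem _ ha)

theorem dim_inf {V P Q : Submodule KK LK} (hP : P ≤ V) (hQ : Q ≤ V) :
    finrank KK P + finrank KK Q ≤ finrank KK V + finrank KK ↥(P ⊓ Q) := by
  have e := Submodule.finrank_sup_add_finrank_inf_eq P Q
  have e1 := Submodule.finrank_mono (sup_le hP hQ)
  omega

theorem exists_ne {P : Submodule KK LK} (h : 0 < finrank KK P) : ∃ v ∈ P, v ≠ 0 :=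
  (Submodule.ne_bot_iff _).1 fun e => by rw [e, finrank_bot] at h; omega

theorem two_KK : (2 : KK) = 0 := CharTwo.two_eq_zero

section op

variable (h : Sd ok g) {Z : List (List ℕ)} {a b c d : List ℕ} {ca cb cc cd : List (List ℕ)}

theorem Sd.op_rel (ea : mapOk ok a Z Z ca = true) (eb : mapOk ok b Z Z cb = true) (ec : mapOk ok c Z Z cc = true)
    (ed : mapOk ok d Z Z cd = true) (k : ok (a ++ b) (c ++ d) = true) (v : Fz g Z) :
    h.op ea (h.op eb v) = h.op ec (h.op ed v) :=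
  Subtype.ext (by rw [h.op_apply, h.op_apply, h.op_apply, h.op_apply, ← rE_app, ← rE_app, h _ _ k])

theorem Sd.op_sq (ea : mapOk ok a Z Z ca = true) (k : ok (a ++ a) [] = true) (v : Fz g Z) : h.op ea (h.op ea v) = v :=
  Subtype.ext (by rw [h.op_apply, h.op_apply, ← rE_app, h _ _ k, pw_nil, rE_one])

theorem Sd.op_cube (ea : mapOk ok a Z Z ca = true) (k : ok (a ++ (a ++ a)) [] = true) (v : Fz g Z) :
    h.op ea (h.op ea (h.op ea v)) = v :=
  Subtype.ext (by rw [h.op_apply, h.op_apply, h.op_apply, ← rE_app, ← rE_app, List.append_assoc, h _ _ k, pw_nil, rE_one])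

theorem Sd.op_hc (ea : mapOk ok a Z Z ca = true) (eb : mapOk ok b Z Z cb = true) (k : ok (a ++ b) (b ++ (b ++ a)) = true)
    (v : Fz g Z) : h.op ea (h.op eb v) = h.op eb (h.op eb (h.op ea v)) :=
  Subtype.ext (by
    rw [h.op_apply, h.op_apply, h.op_apply, h.op_apply, h.op_apply, ← rE_app, h _ _ k, rE_app, rE_app])

theorem Sd.op_fix (ea : mapOk ok a Z Z ca = true) (v : Fz g Z) : h.op ea v = v ↔ rE (pw g a) v = v := Subtype.ext_iff

theorem Sd.op_nr (ea : mapOk ok a Z Z ca = true) : finrank KK (Nr (h.op ea)) + dz g (a :: Z) = dz g Z := by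
  rw [← h.op_fk ea]
  exact Nr_add_Fk _

end op

end Cfsg.Agent.E82.O8
end

-- part: E82/O8/Dat
section
/-!
# S3369, the row `Ω₈⁺(2)`: the letters and the certificates (helper94, generated)

Letters: `0..3` the basis `y₁..y₄` of the elementary abelian group of order 81, `4..7` the reflections of the Weyl group
of type `D₄` in its normaliser, `8` an element of order four, `9, 10, 11, 12` elements of order three, `13..17` root
elements, `18, 19` rotations, `20..31` the letters of `Sp₆(2)`, `32..37` involutions.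
-/

set_option autoImplicit false
set_option maxRecDepth 100000

namespace Cfsg.Agent.E82.O8

open Cfsg.Agent.H939.L64 (KK E2 LK rE)
open Cfsg.Agent.E82.Mach

/-- the letters as words in the root elements -/
noncomputable def DW : List (List ℕ) :=
  (by
  refine (?fq9002 : ((pk61l_v1 (fun i1 => ((fun g1 : Nat → Nat => pk61l_v1 (fun i2 => (pk61d_v1 (nat_lit 5) 
    (nat_lit 0x2dcd8ba36710b20356c6a96c6ba264ba370164c53a264ba32b80b2bb1ae90c4041c26229692a96c7b6063a250b8044849af818e993da0112125a925729a0bad80bb1aa582e5931aa5b5ed818e88c9d6635af818e993da0112126296d6354bb80b295c05) i2)) (g1 i1) (g1 (Nat.succ i1)) List.nil) fun j => (pk61d_v1 (nat_lit 8) 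
    (nat_lit 0x9f9b959391817371706f6d6c6a6968676564635244434241403f3b37312f201f1e11100c080400) j))) (nat_lit 0) (nat_lit 38) List.nil) : List (List ℕ))
    = ?xq9002 → (List (List ℕ))) ?hq9002; (case hq9002 => (set_option maxRecDepth 1000000 in conv => lhs; reduce)); intro _; exact ?xq9002 : List (List ℕ))

/-- the letters as words in the root elements -/
noncomputable def dw (j : ℕ) : List ℕ := DW.getD j []

/-- the tables of the letters -/
noncomputable def GG : List (List (ℕ × ℕ)) :=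
  (by
  refine (?fq9003 : ((pk61l_v1 (fun i1 => ((fun g1 : Nat → Nat => pk61l_v1 (fun i2 => (_root_.Prod.mk (pk61d_v1 (nat_lit 3) 
    (nat_lit 0x6d6dadb696dadb201092336d7f6d923600ffeda44901f6cea87b0011d9250470ed258d1ffff6db5b6db2491b6da492449240000fffdb6dadb649236da49244924900001aeb1a2aff58d2240fac6d2240ffed636d244816c207da491a249fb3ffffb6db5b6d9248db6d2491249200021ff6cdb497ff66da4ad92124016d909200) i2) (pk61d_v1 (nat_lit 3) 
    (nat_lit 0x73f23f23cc42108a36c17fcbf708847708cd66a0cd40bb4b1a24f1cb6fae6ba2dbe7543ac47e8c6b111eb43588fad11f463d688d10fac67443b446887ad11f58c8f5a237cea871fb829a8684c1cfa868ed640f6be70d165045a35428f5a4fad621f4646b10f5a3ac43d68fd191eb468ef35f2cd76b2ed7ce9845821148829161) i2))) (g1 i1) (g1 (Nat.succ i1)) List.nil) fun j => (pk61d_v1 (nat_lit 9) 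
    (nat_lit 0x556933f9d4d6511b8b452250d85c1a0902803edf2f766289409e4e269308c401bcd25c2d1605c2c108581600) j))) (nat_lit 0) (nat_lit 38) List.nil) : List (List (ℕ × ℕ)))
    = ?xq9003 → (List (List (ℕ × ℕ)))) ?hq9003; (case hq9003 => (set_option maxRecDepth 1000000 in conv => lhs; reduce)); intro _; exact ?xq9003 : List (List (ℕ × ℕ)))

/-- the tables of the letters of the symplectic group -/
noncomputable def GB : List (List (ℕ × ℕ)) := (GG.drop 20).take 12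

theorem sub_GG : subOk GG dw = true := by decide +kernel

theorem sub_GB : subOk GB (fun j => dw (20 + j)) = true := by decide +kernel

/-- the oracle -/
noncomputable def okS : List ℕ → List ℕ → Bool := okG 8 GG

/-- the elementary abelian group of order 81 -/
def E4 : List (List ℕ) := [[0], [1], [2], [3]]

/-- an isotropic line -/
def Z2 : List (List ℕ) := [[9, 3], [10]]

/-- a line -/
def Zb : List (List ℕ) := [[9], [10]]

/-- a line -/
def Zy : List (List ℕ) := [[3], [10]]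

/-- the plane orthogonal to an isotropic point -/
def U4 : List (List ℕ) := [[3], [9], [10]]

/-- the extraspecial group -/
def Q3 : List (List ℕ) := [[18], [9], [10]]

/-- the group of order 81 -/
def R4 : List (List ℕ) := [[18], [9], [3], [10]]

/-- a line -/
def Z1 : List (List ℕ) := [[0], [10]]

/-- a plane -/
def E3 : List (List ℕ) := [[0], [9], [10]]

/-- a group of order 27 and exponent 9 -/
def Xb : List (List ℕ) := [[9], [0, 18], [10]]

/-- a Sylow group of the symplectic group -/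
def PP : List (List ℕ) := [[18], [0], [9], [10]]

/-- the generators -/
def GEN : List (List ℕ) := (beta% delta% lq26092fbbe6 fun a b _ _ _ =>
 (a (a 4<|b)<|a (a 13<|b)<|a (a 6<|b)<|a (a 7<|b)<|a (a 14<|b)<|a (a 15<|b)<|a (a 16<|b)<|a (a 17<|b)<|b))

/-- the plane orthogonal to another isotropic point -/
def U5 : List (List ℕ) := [[9, 3], [10], [2]]

/-- the group of order 1944 -/
def PL : List (List ℕ) := (beta% delta% lq26092fbbe6 fun a b _ _ _ =>
 (a (a 18<|b)<|a (a 9<|b)<|a (a 3<|b)<|a (a 10<|b)<|a (a 0<|b)<|a (a 8<|a 0<|a 8<|a 8<|a 8<|b)<|b))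

/-- the generators in the case of type 80 -/
def A8 : List (List ℕ) := (beta% delta% lq26092fbbe6 fun a b _ _ _ =>
 (a (a 0<|b)<|a (a 1<|b)<|a (a 2<|b)<|a (a 32<|b)<|a (a 33<|b)<|a (a 34<|b)<|a (a 35<|b)<|a (a 36<|b)<|a (a 37<|b)<|b))

/-- the letters of the symplectic group -/
def BL : List (List ℕ) := (beta% delta% lq26092fbbe6 fun a b _ _ _ =>
 (a (a 20<|b)<|a (a 21<|b)<|a (a 22<|b)<|a (a 23<|b)<|a (a 24<|b)<|a (a 25<|b)<|a (a 26<|b)<|a (a 27<|b)<|a (a 28<|b)<|a (a 29<|b)<|a (a 30<|b)<|a (a 31<|b)<|b))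

theorem gA : (beta% delta% lq26092fbbe6 fun a b c _ f =>
 eqOk (f 8 G24) (a ((dw 0).map tr)<|b) (a (dw 12)<|b)
 (c (c b (a (a 0<|a 0<|b)<|b)) (c b (a (a 0<|a 0<|b)<|b))) :
 Bool) = true := by
  decide +kernel

theorem gC : (beta% delta% lq26092fbbe6 fun a b c _ f =>
 eqOk (f 8 G24) (a ((dw 12).map tr)<|b) (a (dw 11)<|b)
 (c (c b (a (a 0<|b)<|b)) (c b (a (a 0<|b)<|b))) :
 Bool) = true := by
  decide +kernel

theorem gE : (beta% delta% lq26092fbbe6 fun a b c _ f =>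
 eqOk (f 8 G24) (a ((dw 9).map tr)<|b) (a (dw 9)<|b)
 (c (c (a 16<|a 4<|a 2<|a 0<|a 13<|a 15<|a 18<|a 9<|a 7<|a 6<|a 16<|a 15<|a 13<|a 18<|a 13<|a 16<|a 4<|a 2<|a 0<|a 13<|a 15<|a 18<|a 9<|a 7<|a 6<|a 16<|a 15<|a 13<|b) (a (a 0<|b)<|b)) (c (a 16<|
 a 4<|a 2<|a 0<|a 13<|a 15<|a 18<|a 9<|a 7<|a 6<|a 16<|a 15<|a 13<|a 13<|a 18<|a 16<|a 4<|a 2<|a 0<|a 13<|a 15<|a 18<|a 9<|a 7<|a 6<|a 16<|a 15<|a 13<|b) (a (a 0<|b)<|b))) :
 Bool) = true := by
  decide +kernel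

theorem m4 : (beta% delta% lq26092fbbe6 fun a b _ _ _ =>
 mapOk okS (a 4<|b) E4 E4 (a (a 1<|b)<|a (a 0<|b)<|a (a 2<|b)<|a (a 3<|b)<|b) :
 Bool) = true := by decide +kernel

theorem m6 : (beta% delta% lq26092fbbe6 fun a b _ _ _ =>
 mapOk okS (a 6<|b) E4 E4 (a (a 0<|b)<|a (a 1<|b)<|a (a 3<|b)<|a (a 2<|b)<|b) :
 Bool) = true := by decide +kernel

theorem m7 : (beta% delta% lq26092fbbe6 fun a b _ _ _ =>
 mapOk okS (a 7<|b) E4 E4 (a (a 0<|b)<|a (a 1<|b)<|a (a 3<|a 3<|b)<|a (a 2<|a 2<|b)<|b) :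
 Bool) = true := by decide +kernel

theorem m18 : (beta% delta% lq26092fbbe6 fun a b _ _ _ =>
 mapOk okS (a 18<|b) E4 E4 (a (a 2<|b)<|a (a 0<|b)<|a (a 1<|b)<|a (a 3<|b)<|b) :
 Bool) = true := by decide +kernel

theorem mu : (beta% delta% lq26092fbbe6 fun a b _ _ _ =>
 mapOk okS (a 8<|a 8<|a 8<|b) R4 R4 (a (a 1<|a 1<|b)<|a (a 0<|b)<|a (a 2<|b)<|a (a 3<|b)<|b) :
 Bool) = true := by decide +kernel

variable {g : ℕ → E2} (h : Sd okS g)

include h

theorem ne9 (h0 : g 4 ≠ 1) : g 9 ≠ 1 :=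
  h.ne_one (w := (beta% delta% lq26092fbbe6 fun a b _ _ _ =>
 (a 13<|a 15<|a 13<|a 9<|a 13<|a 15<|a 13<|a 13<|a 15<|a 9<|a 9<|a 15<|a 13<|b))) (w' := [4]) (by decide +kernel) (by decide +kernel)
    (by rw [pw_single]; exact h0)

theorem ne10 (h0 : g 4 ≠ 1) : g 10 ≠ 1 :=
  h.ne_one (w := (beta% delta% lq26092fbbe6 fun a b _ _ _ =>
 (a 4<|a 5<|a 6<|a 10<|a 10<|a 6<|a 5<|a 4<|a 5<|a 6<|a 10<|a 6<|a 5<|b))) (w' := [9]) (by decide +kernel) (by decide +kernel)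
    (by rw [pw_single]; exact ne9 h h0)

theorem ne0 (h0 : g 4 ≠ 1) : g 0 ≠ 1 :=
  h.ne_one (w := [4, 0, 0, 4, 0]) (w' := [9]) (by decide +kernel) (by decide +kernel)
    (by rw [pw_single]; exact ne9 h h0)

theorem ne11 (h0 : g 4 ≠ 1) : g 11 ≠ 1 :=
  h.ne_one (w := (beta% delta% lq26092fbbe6 fun a b _ _ _ =>
 (a 5<|a 7<|a 11<|a 11<|a 7<|a 5<|a 4<|a 5<|a 7<|a 11<|a 7<|a 5<|a 4<|b))) (w' := [9]) (by decide +kernel) (by decide +kernel)
    (by rw [pw_single]; exact ne9 h h0)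

theorem ne12 (h0 : g 4 ≠ 1) : g 12 ≠ 1 :=
  h.ne_one (w := (beta% delta% lq26092fbbe6 fun a b _ _ _ =>
 (a 5<|a 6<|a 12<|a 12<|a 6<|a 5<|a 4<|a 5<|a 6<|a 12<|a 6<|a 5<|a 4<|b))) (w' := [9]) (by decide +kernel) (by decide +kernel)
    (by rw [pw_single]; exact ne9 h h0)

theorem p1 : qe (dz g [[9]]) + qe (dz g [[9]]) = 2 * (qe (dz g [[0]]) + qe (dz g [[0]])) :=
  h.par (a := [0]) (b := [1]) (e1 := (([], [[0]]), ([], [[0]]))) (e2 := (beta% delta% lq26092fbbe6 fun a b c _ _ =>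
 (c (c (a 4<|b) (a (a 0<|b)<|b)) (c (a 4<|b) (a (a 0<|b)<|b))))) (e3 := (beta% delta% lq26092fbbe6 fun a b c _ _ =>
 (c (c (a 5<|a 6<|a 7<|
 a 5<|b) (a (a 0<|b)<|b)) (c (a 5<|a 7<|a 6<|a 5<|b) (a (a 0<|b)<|b))))) (e4 := (([], [[0]]), ([], [[0]]))) (by decide +kernel)

theorem p2 : qe (dz g [[9]]) + qe (dz g [[9]]) = 2 * (qe (dz g [[11]]) + qe (dz g [[11]])) :=
  h.par (a := [11]) (b := [0, 1, 2, 2, 3, 3]) (e1 := (([], [[0]]), ([], [[0]]))) (e2 := (beta% delta% lq26092fbbe6 fun a b c _ _ =>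
 (c (c (a 7<|b) (a (a 0<|b)<|b)) (c (a 7<|b) (a (a 0<|b)<|b)))))
    (e3 := (beta% delta% lq26092fbbe6 fun a b c _ _ =>
 (c (c (a 5<|a 6<|a 7<|a 5<|b) (a (a 0<|a 0<|b)<|b)) (c (a 5<|a 7<|a 6<|a 5<|b) (a (a 0<|a 0<|b)<|b))))) (e4 := (beta% delta% lq26092fbbe6 fun a b c _ _ =>
 (c (c (a 5<|a 4<|a 7<|a 5<|b) (a (a 0<|a 0<|b)<|b)) (c (a 5<|a 7<|a 4<|a 5<|b) (a (a 0<|
 a 0<|b)<|b))))) (by decide +kernel)

theorem p3 : qe (dz g [[11]]) + qe (dz g [[12]]) = 2 * (qe (dz g [[10]]) + qe (dz g [[0]])) :=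
  h.par (a := [10]) (b := [3]) (e1 := (([], [[0]]), ([], [[0]]))) (e2 := (beta% delta% lq26092fbbe6 fun a b c _ _ =>
 (c (c (a 4<|a 5<|a 6<|b) (a (a 0<|b)<|b)) (c (a 6<|a 5<|a 4<|b) (a (a 0<|b)<|b))))) (e3
    := (([], [[0]]), ([], [[0]]))) (e4 := (([], [[0]]), ([], [[0]]))) (by decide +kernel)

theorem f1 : dz g [] + 3 * dz g Z2 = dz g [[10]] + dz g [[10]] + dz g [[10]] + dz g [[10]] :=
  h.pair (a := [10]) (b := [9, 3]) (ca := []) (cb := []) (c1 := []) (c2 := []) (c3 := []) (e0 := (beta% delta% lq26092fbbe6 fun a b c _ _ =>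
 (c (c b (a (a 0<|b)<|a (a 1<|b)<|b)) (c b
 (a (a 0<|b)<|a (a 1<|b)<|b))))) (e1 := (([], [[0]]), ([], [[0]]))) (e2 := (beta% delta% lq26092fbbe6 fun a b c _ _ =>
 (c (c (a 6<|a 7<|a 5<|a 6<|b) (a (a 0<|b)<|b)) (c (a 6<|a 5<|a 7<|a 6<|b) (a (a 0<|b)<|b))))) (e3 :=
    (beta% delta% lq26092fbbe6 fun a b c _ _ =>
 (c (c (a 6<|a 5<|a 7<|b) (a (a 0<|a 0<|b)<|b)) (c (a 7<|a 5<|a 6<|b) (a (a 0<|a 0<|b)<|b))))) (e4 := (beta% delta% lq26092fbbe6 fun a b c _ _ =>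
 (c (c (a 7<|a 5<|a 4<|a 6<|b) (a (a 0<|a 0<|b)<|b)) (c (a 6<|a 4<|a 5<|a 7<|b) (a (a 0<|a 0<|b)<|b)))))
    (by decide +kernel)

theorem f2 : dz g [] + 3 * dz g Zb = dz g [[10]] + dz g [[9]] + dz g [[9]] + dz g [[9]] :=
  h.pair (a := [10]) (b := [9]) (ca := []) (cb := []) (c1 := []) (c2 := []) (c3 := []) (e0 := (beta% delta% lq26092fbbe6 fun a b c _ _ =>
 (c (c b (a (a 0<|b)<|a (a 1<|b)<|b)) (c b
 (a (a 0<|b)<|a (a 1<|b)<|b))))) (e1 := (([], [[0]]), ([], [[0]]))) (e2 := (([], [[0]]), ([], [[0]]))) (e3 := (beta% delta% lq26092fbbe6 fun a b c _ _ =>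
 (c (c (a 5<|b) (a (a 0<|a 0<|b)<|b)) (c (a 5<|b)
 (a (a 0<|a 0<|b)<|b))))) (e4 := (beta% delta% lq26092fbbe6 fun a b c _ _ =>
 (c (c (a 5<|a 4<|b) (a (a 0<|a 0<|b)<|b)) (c (a 4<|a 5<|b) (a (a 0<|a 0<|b)<|b))))) (by decide +kernel)

theorem f3 : dz g [] + 3 * dz g Zy = dz g [[10]] + dz g [[0]] + dz g [[11]] + dz g [[12]] :=
  h.pair (a := [10]) (b := [3]) (ca := []) (cb := []) (c1 := []) (c2 := []) (c3 := []) (e0 := (beta% delta% lq26092fbbe6 fun a b c _ _ =>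
 (c (c b (a (a 0<|b)<|a (a 1<|b)<|b)) (c b
 (a (a 0<|b)<|a (a 1<|b)<|b))))) (e1 := (([], [[0]]), ([], [[0]]))) (e2 := (beta% delta% lq26092fbbe6 fun a b c _ _ =>
 (c (c (a 4<|a 5<|a 6<|b) (a (a 0<|b)<|b)) (c (a 6<|a 5<|a 4<|b) (a (a 0<|b)<|b))))) (e3 := (([],
    [[0]]), ([], [[0]]))) (e4 := (([], [[0]]), ([], [[0]]))) (by decide +kernel)

theorem f4 : dz g [[10]] + 3 * dz g U4 = dz g Zb + dz g Zy + dz g Z2 + dz g Z2 :=
  h.pair (a := [9]) (b := [3]) (ca := [[0]]) (cb := [[0]]) (c1 := []) (c2 := []) (c3 := []) (e0 := (beta% delta% lq26092fbbe6 fun a b c _ _ =>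
 (c (c b (a (a 0<|b)<|a (a 1<|b)<|
 a (a 2<|b)<|b)) (c b (a (a 0<|b)<|a (a 1<|b)<|a (a 2<|b)<|b))))) (e1 := (beta% delta% lq26092fbbe6 fun a b c _ _ =>
 (c (c b (a (a 0<|b)<|a (a 1<|b)<|b)) (c b (a (a 0<|b)<|a (a 1<|b)<|b))))) (e2 := (beta% delta% lq26092fbbe6 fun a b c _ _ =>
 (c (c b (a (a 0<|b)<|a (a 1<|b)<|b)) (c b (a (a 0<|b)<|
 a (a 1<|b)<|b))))) (e3 := (beta% delta% lq26092fbbe6 fun a b c _ _ =>
 (c (c b (a (a 0<|b)<|a (a 1<|b)<|b)) (c b (a (a 0<|b)<|a (a 1<|b)<|b))))) (e4 := (beta% delta% lq26092fbbe6 fun a b c _ _ =>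
 (c (c (a 4<|b) (a (a 0<|a 0<|b)<|a (a 1<|b)<|b)) (c (a 4<|b) (a (a 0<|a 0<|b)<|a (a 1<|b)<|b)))))
    (by decide +kernel)

theorem f5 : dz g [[10]] + 3 * dz g Q3 = dz g Zb + dz g Zb + dz g Zb + dz g Zb :=
  h.pair (a := [9]) (b := [18]) (ca := [[0]]) (cb := [[0]]) (c1 := [0, 0]) (c2 := []) (c3 := []) (e0 := (beta% delta% lq26092fbbe6 fun a b c _ _ =>
 (c (c b (a (a 0<|b)<|a (a 1<|b)<|
 a (a 2<|b)<|b)) (c b (a (a 0<|b)<|a (a 1<|b)<|a (a 2<|b)<|b))))) (e1 := (beta% delta% lq26092fbbe6 fun a b c _ _ =>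
 (c (c b (a (a 0<|b)<|a (a 1<|b)<|b)) (c b (a (a 0<|b)<|a (a 1<|b)<|b))))) (e2 := (beta% delta% lq26092fbbe6 fun a b c _ _ =>
 (c (c (a 8<|b) (a (a 0<|a 0<|b)<|a (a 1<|b)<|b)) (c (a 8<|a 8<|
 a 8<|b) (a (a 0<|a 0<|b)<|a (a 1<|b)<|b))))) (e3 := (beta% delta% lq26092fbbe6 fun a b c _ _ =>
 (c (c (a 8<|a 0<|a 8<|b) (a (a 0<|a 0<|a 1<|b)<|a (a 1<|b)<|b)) (c (a 8<|a 8<|a 8<|a 0<|a 0<|a 8<|a 8<|a 8<|b) (a (a 0<|a 0<|a 1<|b)<|a (a 1<|b)<|b))))) (e4 :=
    (beta% delta% lq26092fbbe6 fun a b c _ _ =>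
 (c (c (a 8<|a 0<|b) (a (a 0<|a 1<|b)<|a (a 1<|b)<|b)) (c (a 0<|a 0<|a 8<|a 8<|a 8<|b) (a (a 0<|a 1<|a 1<|b)<|a (a 1<|b)<|b))))) (by decide +kernel)

theorem f6 : dz g Zy + 3 * dz g R4 = dz g U4 + dz g U4 + dz g U4 + dz g U4 :=
  h.pair (a := [9]) (b := [18]) (ca := [[0], [1]]) (cb := [[0], [1]]) (c1 := [1, 1]) (c2 := []) (c3 := []) (e0 := (beta% delta% lq26092fbbe6 fun a b c _ _ =>
 (c (c b
 (a (a 0<|b)<|a (a 1<|b)<|a (a 2<|b)<|a (a 3<|b)<|b)) (c b (a (a 0<|b)<|a (a 1<|b)<|a (a 2<|b)<|a (a 3<|b)<|b))))) (e1 := (beta% delta% lq26092fbbe6 fun a b c _ _ =>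
 (c (c b (a (a 1<|b)<|a (a 0<|b)<|a (a 2<|b)<|b)) (c b (a (a 1<|b)<|a (a 0<|b)<|a (a 2<|b)<|b))))) (e2 :=
    (beta% delta% lq26092fbbe6 fun a b c _ _ =>
 (c (c (a 8<|b) (a (a 1<|b)<|a (a 0<|a 0<|b)<|a (a 2<|b)<|b)) (c (a 8<|a 8<|a 8<|b) (a (a 1<|a 1<|b)<|a (a 0<|b)<|a (a 2<|b)<|b))))) (e3 := (beta% delta% lq26092fbbe6 fun a b c _ _ =>
 (c (c (a 8<|a 0<|a 8<|b) (a (a 1<|b)<|a (a 0<|a 0<|a 2<|b)<|a (a 2<|b)<|b)) (c (a 8<|a 8<|
 a 8<|a 0<|a 0<|a 8<|a 8<|a 8<|b) (a (a 1<|a 1<|a 2<|b)<|a (a 0<|b)<|a (a 2<|b)<|b))))) (e4 := (beta% delta% lq26092fbbe6 fun a b c _ _ =>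
 (c (c (a 8<|a 0<|b) (a (a 1<|b)<|a (a 0<|a 2<|b)<|a (a 2<|b)<|b)) (c (a 0<|a 0<|a 8<|a 8<|a 8<|b) (a (a 1<|a 2<|a 2<|b)<|
 a (a 0<|b)<|a (a 2<|b)<|b))))) (by decide +kernel)

theorem f7 : dz g [] + 3 * dz g Z1 = dz g [[10]] + dz g [[0]] + dz g [[10]] + dz g [[9]] :=
  h.pair (a := [10]) (b := [0]) (ca := []) (cb := []) (c1 := []) (c2 := []) (c3 := []) (e0 := (beta% delta% lq26092fbbe6 fun a b c _ _ =>
 (c (c b (a (a 0<|b)<|a (a 1<|b)<|b)) (c b
 (a (a 0<|b)<|a (a 1<|b)<|b))))) (e1 := (([], [[0]]), ([], [[0]]))) (e2 := (([], [[0]]), ([], [[0]]))) (e3 := (beta% delta% lq26092fbbe6 fun a b c _ _ =>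
 (c (c (a 6<|a 7<|a 5<|a 4<|b) (a (a 0<|b)<|b))
 (c (a 4<|a 5<|a 7<|a 6<|b) (a (a 0<|b)<|b))))) (e4 := (beta% delta% lq26092fbbe6 fun a b c _ _ =>
 (c (c (a 5<|a 4<|a 6<|a 7<|b) (a (a 0<|b)<|b)) (c (a 7<|a 6<|a 4<|a 5<|b) (a (a 0<|b)<|b))))) (by decide +kernel)

theorem f8 : dz g [[10]] + 3 * dz g E3 = dz g Zb + dz g Z1 + dz g Z1 + dz g Z1 :=
  h.pair (a := [9]) (b := [0]) (ca := [[0]]) (cb := [[0]]) (c1 := []) (c2 := []) (c3 := []) (e0 := (beta% delta% lq26092fbbe6 fun a b c _ _ =>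
 (c (c b (a (a 0<|b)<|a (a 1<|b)<|
 a (a 2<|b)<|b)) (c b (a (a 0<|b)<|a (a 1<|b)<|a (a 2<|b)<|b))))) (e1 := (beta% delta% lq26092fbbe6 fun a b c _ _ =>
 (c (c b (a (a 0<|b)<|a (a 1<|b)<|b)) (c b (a (a 0<|b)<|a (a 1<|b)<|b))))) (e2 := (beta% delta% lq26092fbbe6 fun a b c _ _ =>
 (c (c b (a (a 0<|b)<|a (a 1<|b)<|b)) (c b (a (a 0<|b)<|
 a (a 1<|b)<|b))))) (e3 := (beta% delta% lq26092fbbe6 fun a b c _ _ =>
 (c (c (a 4<|a 5<|b) (a (a 0<|a 1<|b)<|a (a 1<|b)<|b)) (c (a 5<|a 4<|b) (a (a 0<|a 1<|a 1<|b)<|a (a 1<|b)<|b))))) (e4 := (beta% delta% lq26092fbbe6 fun a b c _ _ =>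
 (c (c (a 4<|b) (a (a 0<|a 0<|b)<|a (a 1<|b)<|b)) (c (a 4<|b) (a (a 0<|a 0<|b)<|
 a (a 1<|b)<|b))))) (by decide +kernel)

theorem f9 : dz g [[10]] + 3 * dz g Xb = dz g [[0, 18]] + dz g Zb + dz g [[0, 18]] + dz g [[0, 18]] :=
  h.pair (a := [0, 18]) (b := [9]) (ca := [[0]]) (cb := [[0]]) (c1 := [0]) (c2 := [0]) (c3 := []) (e0 := (beta% delta% lq26092fbbe6 fun a b c _ _ =>
 (c (c b (a (a 0<|b)<|
 a (a 1<|b)<|a (a 2<|b)<|b)) (c b (a (a 0<|b)<|a (a 1<|b)<|a (a 2<|b)<|b))))) (e1 := (beta% delta% lq26092fbbe6 fun a b c _ _ =>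
 (c (c b (a (a 0<|b)<|b)) (c b (a (a 0<|b)<|a (a 0<|a 0<|a 0<|b)<|b))))) (e2 := (beta% delta% lq26092fbbe6 fun a b c _ _ =>
 (c (c b (a (a 0<|b)<|a (a 1<|b)<|b)) (c b
 (a (a 0<|b)<|a (a 1<|b)<|b))))) (e3 := (beta% delta% lq26092fbbe6 fun a b c _ _ =>
 (c (c (a 4<|a 5<|b) (a (a 0<|a 1<|a 1<|b)<|b)) (c (a 5<|a 4<|b) (a (a 0<|a 0<|a 0<|a 0<|b)<|a (a 0<|a 0<|a 0<|b)<|b))))) (e4 := (beta% delta% lq26092fbbe6 fun a b c _ _ =>
 (c (c (a 0<|b) (a (a 0<|a 1<|a 1<|b)<|b))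
 (c (a 0<|a 0<|b) (a (a 0<|a 0<|a 0<|a 0<|b)<|a (a 0<|a 0<|a 0<|b)<|b))))) (by decide +kernel)

theorem f10 : dz g Zb + 3 * dz g PP = dz g E3 + dz g Q3 + dz g Xb + dz g Xb :=
  h.pair (a := [0]) (b := [18]) (ca := [[0], [1]]) (cb := [[0, 1], [1]]) (c1 := [0, 0, 1, 1]) (c2 := []) (c3 := []) (e0
    := (beta% delta% lq26092fbbe6 fun a b c _ _ =>
 (c (c b (a (a 0<|b)<|a (a 1<|b)<|a (a 2<|b)<|a (a 3<|b)<|b)) (c b (a (a 0<|b)<|a (a 1<|b)<|a (a 2<|b)<|a (a 3<|b)<|b))))) (e1 := (beta% delta% lq26092fbbe6 fun a b c _ _ =>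
 (c (c b (a (a 0<|b)<|a (a 1<|b)<|a (a 2<|b)<|b)) (c b (a (a 0<|b)<|a (a 1<|b)<|
 a (a 2<|b)<|b))))) (e2 := (beta% delta% lq26092fbbe6 fun a b c _ _ =>
 (c (c b (a (a 0<|b)<|a (a 1<|b)<|a (a 2<|b)<|b)) (c b (a (a 0<|b)<|a (a 1<|b)<|a (a 2<|b)<|b))))) (e3 := (beta% delta% lq26092fbbe6 fun a b c _ _ =>
 (c (c b (a (a 1<|b)<|a (a 0<|b)<|a (a 2<|b)<|b)) (c b (a (a 1<|b)<|a (a 0<|b)<|
 a (a 2<|b)<|b))))) (e4 := (beta% delta% lq26092fbbe6 fun a b c _ _ =>
 (c (c (a 4<|b) (a (a 1<|a 1<|b)<|a (a 1<|a 1<|a 0<|b)<|a (a 2<|b)<|b)) (c (a 4<|b) (a (a 0<|a 0<|a 1<|b)<|a (a 0<|a 0<|b)<|a (a 2<|b)<|b))))) (by decide +kernel)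

theorem d1 : dz g U5 = dz g U4 :=
  h.deq (e := (beta% delta% lq26092fbbe6 fun a b c _ _ =>
 (c (c (a 6<|a 7<|a 5<|a 6<|b) (a (a 2<|a 2<|b)<|a (a 0<|a 0<|a 1<|a 1<|a 2<|b)<|a (a 0<|b)<|b)) (c (a 6<|a 5<|a 7<|a 6<|b) (a (a 2<|b)<|a (a 0<|a 0<|a 1<|a 1<|a 2<|a 2<|b)<|a (a 0<|a 0<|b)<|b)))))
    (by decide +kernel)

theorem l1 : Fz g U4 ≤ Fz g Z2 :=
  h.le (cs := [[0, 1], [2]]) (by decide +kernel)

theorem l2 : Fz g U5 ≤ Fz g Z2 :=
  h.le (cs := [[0], [1]]) (by decide +kernel)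

theorem l3 : Fz g (U4 ++ U5) ≤ Fz g E4 :=
  h.le (cs := (beta% delta% lq26092fbbe6 fun a b _ _ _ =>
 (a (a 1<|a 1<|a 2<|a 2<|a 5<|b)<|a (a 1<|a 2<|a 2<|a 5<|b)<|a (a 5<|b)<|a (a 0<|b)<|b))) (by decide +kernel)

theorem l4 : Fz g E4 ≤ Fz g U4 :=
  h.le (cs := [[3], [0, 1, 1], [0, 1, 2]]) (by decide +kernel)

theorem l5 : Fz g R4 ≤ Fz g U4 :=
  h.le (cs := [[2], [1], [3]]) (by decide +kernel)

theorem l6 : Fz g PL ≤ Fz g [[4], [5]] :=
  h.le (cs := (beta% delta% lq26092fbbe6 fun a b _ _ _ =>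
 (a (a 4<|a 0<|a 1<|a 4<|a 5<|a 4<|a 4<|a 5<|b)<|a (a 4<|a 5<|a 1<|a 5<|a 1<|a 4<|a 5<|a 5<|b)<|b))) (by decide +kernel)

theorem l7 : Fz g (PL ++ [[6], [7]]) ≤ Fz g GEN :=
  h.le (cs := (beta% delta% lq26092fbbe6 fun a b _ _ _ =>
 (a (a 6<|a 0<|a 6<|a 0<|a 0<|a 6<|a 0<|b)<|a (a 0<|a 0<|a 5<|a 4<|a 7<|a 3<|a 5<|a 6<|a 5<|a 7<|a 5<|a 6<|a 2<|a 1<|b)<|a (a 6<|b)<|a (a 7<|b)<|a (a 5<|a 4<|a 4<|a 5<|a 4<|a 0<|a 4<|a 0<|b)<|
 a (a 1<|a 5<|a 6<|a 5<|a 1<|a 4<|a 7<|a 5<|a 6<|a 5<|a 7<|a 4<|a 4<|a 1<|b)<|a (a 2<|a 6<|a 2<|a 2<|b)<|a (a 2<|a 2<|a 7<|a 2<|b)<|b))) (by decide +kernel)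

theorem l8 : Fz g ([18] :: E4) ≤ Fz g R4 :=
  h.le (cs := (beta% delta% lq26092fbbe6 fun a b _ _ _ =>
 (a (a 0<|b)<|a (a 1<|a 2<|a 2<|b)<|a (a 4<|b)<|a (a 1<|a 2<|a 3<|b)<|b))) (by decide +kernel)

theorem d3 : dz g ([6] :: E4) = dz g ([4] :: E4) :=
  h.deq (e := (beta% delta% lq26092fbbe6 fun a b c _ _ =>
 (c (c (a 5<|a 4<|a 6<|a 5<|b) (a (a 0<|b)<|a (a 3<|b)<|a (a 4<|b)<|a (a 1<|b)<|a (a 2<|b)<|b)) (c (a 5<|a 6<|a 4<|a 5<|b) (a (a 0<|b)<|a (a 3<|b)<|a (a 4<|b)<|a (a 1<|b)<|a (a 2<|b)<|b)))))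
    (by decide +kernel)

theorem d4 : dz g ([7] :: E4) = dz g ([4] :: E4) :=
  h.deq (e := (beta% delta% lq26092fbbe6 fun a b c _ _ =>
 (c (c (a 5<|a 4<|a 7<|a 5<|b) (a (a 0<|b)<|a (a 3<|b)<|a (a 4<|a 4<|b)<|a (a 1<|b)<|a (a 2<|a 2<|b)<|b)) (c (a 5<|a 7<|a 4<|a 5<|b) (a (a 0<|b)<|a (a 3<|b)<|a (a 4<|a 4<|b)<|a (a 1<|b)<|a (a 2<|a 2<|b)<|b)))))
    (by decide +kernel)

theorem d5 : dz g ([19] :: E4) = dz g ([18] :: E4) :=
  h.deq (e := (beta% delta% lq26092fbbe6 fun a b c _ _ =>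
 (c (c (a 6<|a 7<|a 5<|a 4<|b) (a (a 0<|b)<|a (a 2<|b)<|a (a 3<|b)<|a (a 1<|a 1<|b)<|a (a 4<|a 4<|b)<|b)) (c (a 4<|a 5<|a 7<|a 6<|b) (a (a 0<|b)<|a (a 3<|a 3<|b)<|a (a 1<|b)<|a (a 2<|b)<|a (a 4<|a 4<|b)<|b)))))
    (by decide +kernel)

theorem d6 : dz g ([5] :: [19] :: E4) = dz g ([4] :: [18] :: E4) :=
  h.deq (e := (beta% delta% lq26092fbbe6 fun a b c _ _ =>
 (c (c (a 6<|a 7<|a 5<|a 4<|b) (a (a 0<|b)<|a (a 1<|b)<|a (a 3<|b)<|a (a 4<|b)<|a (a 2<|a 2<|b)<|a (a 5<|a 5<|b)<|b)) (c (a 4<|a 5<|a 7<|a 6<|b) (a (a 0<|b)<|a (a 1<|b)<|a (a 4<|a 4<|b)<|a (a 2<|b)<|a (a 3<|b)<|a (a 5<|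
 a 5<|b)<|b))))) (by decide +kernel)

theorem l9 : Fz g A8 ≤ Fz g GEN :=
  h.le (cs := (beta% delta% lq26092fbbe6 fun a b _ _ _ =>
 (a (a 5<|a 8<|a 1<|a 0<|a 8<|a 0<|a 6<|a 8<|a 6<|b)<|a (a 5<|a 7<|a 8<|a 5<|a 7<|a 6<|a 5<|a 1<|b)<|a (a 2<|a 7<|a 3<|a 2<|a 7<|a 5<|a 7<|a 2<|a 7<|b)<|a (a 2<|a 7<|a 5<|a 7<|a 2<|a 7<|a 3<|
 a 7<|a 2<|b)<|a (a 0<|a 1<|a 8<|a 1<|a 0<|a 8<|a 1<|a 0<|a 8<|a 5<|b)<|a (a 7<|a 6<|a 8<|a 5<|a 7<|a 8<|a 5<|a 1<|b)<|a (a 7<|a 4<|a 3<|a 2<|a 7<|a 5<|a 2<|a 7<|b)<|a (a 7<|a 3<|a 2<|a 7<|a 5<|a 2<|a 7<|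
 a 4<|b)<|b))) (by decide +kernel)

theorem l10 : Fz g R4 ≤ Fz g Q3 :=
  h.le (cs := [[0], [1], [3]]) (by decide +kernel)

theorem l13 : Fz g GEN ≤ Fz g [[19]] :=
  h.le (cs := (beta% delta% lq26092fbbe6 fun a b _ d _ =>
 (a (let e:=(let e:=(let e:=(let e:=(d 1<|d 3<|d 7<|d 3<|d 7<|d 6<|b);
 (d 1<|d 2<|d 6<|d 2<|d 7<|d 3<|e));
 (let e:=(d 6<|d 2<|d 7<|d 3<|d 6<|d 2<|e);
 (d 2<|d 3<|d 7<|d 2<|
 d 6<|d 5<|e)));
 (let e:=(let e:=(d 7<|d 3<|d 2<|d 6<|d 5<|d 6<|e);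
 (d 2<|d 6<|d 0<|d 3<|d 7<|d 5<|e));
 (let e:=(d 6<|d 7<|d 5<|d 6<|d 2<|d 1<|e);
 (d 1<|d 2<|d 3<|d 5<|d 1<|e))));
 (let e:=(let e:=(let e:=(d 1<|d 5<|d 3<|d 2<|d 1<|d 0<|e);
 (d 3<|
 d 5<|d 1<|d 5<|d 7<|d 6<|e));
 (let e:=(d 4<|d 5<|d 1<|d 6<|d 2<|d 7<|e);
 (d 7<|d 2<|d 6<|d 1<|d 5<|e)));
 (let e:=(let e:=(d 1<|d 6<|d 2<|d 1<|d 5<|d 3<|e);
 (d 2<|d 6<|d 1<|d 5<|d 4<|d 5<|e));
 (let e:=(d 6<|d 1<|d 5<|d 4<|d 5<|d 1<|e);
 (a 0<|a 6<|a 2<|a 1<|a 2<|e)))))<|b))) (by decide +kernel)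

theorem l11 : Fz g BL ≤ Fz g Q3 :=
  h.le (cs := (beta% delta% lq26092fbbe6 fun a b _ _ _ =>
 (a (a 9<|a 3<|a 10<|a 11<|a 10<|a 9<|a 10<|a 4<|a 11<|a 10<|a 3<|b)<|a (a 9<|a 0<|b)<|a (a 1<|a 2<|a 10<|a 9<|a 11<|a 10<|a 11<|a 9<|a 10<|a 11<|a 10<|a 7<|a 4<|b)<|b)))
    (by decide +kernel)

theorem l12 : Fz g ([3] :: BL) ≤ Fz g GEN :=
  h.le (cs := (beta% delta% lq26092fbbe6 fun a b _ _ _ =>
 (a (a 10<|b)<|a (a 11<|b)<|a (a 11<|a 2<|a 0<|a 12<|a 11<|a 0<|a 12<|a 2<|a 11<|b)<|a (a 11<|a 2<|a 12<|a 0<|a 11<|a 12<|a 0<|a 2<|a 11<|b)<|a (a 1<|b)<|a (a 2<|b)<|a (a 2<|a 3<|a 11<|a 0<|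
 a 2<|a 3<|a 0<|a 11<|a 2<|b)<|a (a 2<|a 5<|a 11<|a 0<|a 0<|a 2<|a 0<|a 11<|a 2<|b)<|b))) (by decide +kernel)

theorem b0 : dz g [[20, 21, 29, 30, 31, 30, 21, 29, 20, 28]] = dz g [[0]] :=
  h.deq (e := (beta% delta% lq26092fbbe6 fun a b c _ _ =>
 (c (c (a 21<|a 28<|a 30<|a 31<|a 30<|a 29<|b) (a (a 0<|b)<|b)) (c (a 29<|a 30<|a 31<|a 30<|a 28<|a 21<|b) (a (a 0<|b)<|b))))) (by decide +kernel)

theorem b3 : (beta% delta% lq26092fbbe6 fun a b _ _ _ =>
 dz g (a (a 20<|a 21<|a 29<|a 30<|a 31<|a 30<|a 27<|a 29<|a 30<|a 31<|a 30<|a 21<|a 26<|a 27<|b)<|b) :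
 ℕ) = dz g [[9]] :=
  h.deq (e := (beta% delta% lq26092fbbe6 fun a b c _ _ =>
 (c (c (a 21<|a 28<|a 30<|a 31<|a 30<|a 21<|a 26<|a 29<|b) (a (a 0<|b)<|b)) (c (a 29<|a 26<|a 21<|a 30<|a 31<|a 30<|a 28<|a 21<|b) (a (a 0<|b)<|b)))))
    (by decide +kernel)

theorem b9 : (beta% delta% lq26092fbbe6 fun a b _ _ _ =>
 dz g (a (a 31<|a 24<|a 23<|a 30<|a 29<|a 31<|a 24<|a 23<|a 30<|a 29<|a 31<|a 24<|a 23<|a 30<|a 29<|b)<|b) :
 ℕ) = dz g [[10]] :=
  h.deq (e := (beta% delta% lq26092fbbe6 fun a b c _ _ =>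
 (c (c (a 26<|a 30<|a 29<|a 20<|a 31<|b) (a (a 0<|a 0<|b)<|b)) (c (a 31<|a 20<|a 29<|a 30<|a 26<|b) (a (a 0<|a 0<|b)<|b))))) (by decide +kernel)

theorem cA : ∀ w ∈ [[0], [1], [2], [3]], cf (pw g w) = dz g [[0]] :=
  h.cfl (cs := (beta% delta% lq26092fbbe6 fun a b c _ _ =>
 (a (c (c b (a (a 0<|b)<|b)) (c b (a (a 0<|b)<|b)))<|a (c (c (a 4<|b) (a (a 0<|b)<|b)) (c (a 4<|b) (a (a 0<|b)<|b)))<|a (c (c (a 4<|a 5<|b) (a (a 0<|b)<|b)) (c (a 5<|a 4<|b) (a (a 0<|b)<|b)))<|a (c (c (a 4<|a 5<|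
 a 6<|b) (a (a 0<|b)<|b)) (c (a 6<|a 5<|a 4<|b) (a (a 0<|b)<|b)))<|b))) (by decide +kernel)

theorem cE : ∀ w ∈ (beta% delta% lq26092fbbe6 fun a b _ _ _ =>
 (a (a 0<|a 1<|b)<|a (a 0<|a 2<|b)<|a (a 0<|a 3<|b)<|a (a 1<|a 2<|b)<|a (a 1<|a 3<|b)<|a (a 2<|a 3<|b)<|a (a 0<|a 1<|a 1<|b)<|a (a 0<|a 2<|a 2<|b)<|a (a 0<|a 3<|a 3<|b)<|a (a 1<|a 2<|a 2<|b)<|a (a 1<|a 3<|a 3<|b)<|a (a 2<|a 3<|a 3<|b)<|b) :
 List (List ℕ)), cf (pw g w) = dz g [[9]] :=
  h.cfl (cs := (beta% delta% lq26092fbbe6 fun a b c _ _ =>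
 (a (c (c (a 5<|a 6<|a 7<|a 5<|b) (a (a 0<|b)<|b)) (c (a 5<|a 7<|a 6<|a 5<|b) (a (a 0<|b)<|b)))<|a (c (c (a 5<|a 6<|a 7<|b) (a (a 0<|b)<|b)) (c (a 7<|a 6<|a 5<|b) (a (a 0<|b)<|b)))<|a (c (c (a 5<|a 7<|b)
 (a (a 0<|b)<|b)) (c (a 7<|a 5<|b) (a (a 0<|b)<|b)))<|a (c (c (a 5<|a 4<|a 6<|a 7<|b) (a (a 0<|b)<|b)) (c (a 7<|a 6<|a 4<|a 5<|b) (a (a 0<|b)<|b)))<|a (c (c (a 5<|a 4<|a 7<|b) (a (a 0<|b)<|b)) (c (a 7<|a 4<|a 5<|b)
 (a (a 0<|b)<|b)))<|a (c (c (a 5<|a 4<|a 7<|a 5<|b) (a (a 0<|b)<|b)) (c (a 5<|a 7<|a 4<|a 5<|b) (a (a 0<|b)<|b)))<|a (c (c b (a (a 0<|b)<|b)) (c b (a (a 0<|b)<|b)))<|a (c (c (a 5<|b) (a (a 0<|b)<|b)) (c (a 5<|b) (a (a 0<|b)<|b)))<|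
 a (c (c (a 5<|a 6<|b) (a (a 0<|b)<|b)) (c (a 6<|a 5<|b) (a (a 0<|b)<|b)))<|a (c (c (a 5<|a 4<|b) (a (a 0<|b)<|b)) (c (a 4<|a 5<|b) (a (a 0<|b)<|b)))<|a (c (c (a 5<|a 4<|a 6<|b) (a (a 0<|b)<|b)) (c (a 6<|a 4<|a 5<|b) (a (a 0<|b)<|b)))<|
 a (c (c (a 5<|a 4<|a 6<|a 5<|b) (a (a 0<|b)<|b)) (c (a 5<|a 6<|a 4<|a 5<|b) (a (a 0<|b)<|b)))<|b))) (by decide +kernel)

theorem cB : ∀ w ∈ (beta% delta% lq26092fbbe6 fun a b _ _ _ =>
 (a (a 0<|a 1<|a 2<|a 3<|b)<|a (a 0<|a 1<|a 2<|a 2<|a 3<|a 3<|b)<|a (a 0<|a 1<|a 1<|a 2<|a 3<|a 3<|b)<|a (a 0<|a 1<|a 1<|a 2<|a 2<|a 3<|b)<|b) :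
 List (List ℕ)), cf (pw g w) = dz g [[11]] :=
  h.cfl (cs := (beta% delta% lq26092fbbe6 fun a b c _ _ =>
 (a (c (c b (a (a 0<|b)<|b)) (c b (a (a 0<|b)<|b)))<|a (c (c (a 7<|b) (a (a 0<|b)<|b)) (c (a 7<|b) (a (a 0<|b)<|b)))<|a (c (c (a 7<|a 5<|b) (a (a 0<|b)<|b)) (c (a 5<|a 7<|b) (a (a 0<|b)<|b)))<|a (c (c (a 7<|a 5<|
 a 4<|b) (a (a 0<|a 0<|b)<|b)) (c (a 4<|a 5<|a 7<|b) (a (a 0<|a 0<|b)<|b)))<|b))) (by decide +kernel)

theorem cC : ∀ w ∈ (beta% delta% lq26092fbbe6 fun a b _ _ _ =>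
 (a (a 0<|a 1<|a 2<|a 3<|a 3<|b)<|a (a 0<|a 1<|a 2<|a 2<|a 3<|b)<|a (a 0<|a 1<|a 1<|a 2<|a 3<|b)<|a (a 0<|a 1<|a 1<|a 2<|a 2<|a 3<|a 3<|b)<|b) :
 List (List ℕ)), cf (pw g w) = dz g [[12]] :=
  h.cfl (cs := (beta% delta% lq26092fbbe6 fun a b c _ _ =>
 (a (c (c b (a (a 0<|b)<|b)) (c b (a (a 0<|b)<|b)))<|a (c (c (a 6<|b) (a (a 0<|b)<|b)) (c (a 6<|b) (a (a 0<|b)<|b)))<|a (c (c (a 6<|a 5<|b) (a (a 0<|b)<|b)) (c (a 5<|a 6<|b) (a (a 0<|b)<|b)))<|a (c (c (a 6<|a 5<|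
 a 4<|b) (a (a 0<|a 0<|b)<|b)) (c (a 4<|a 5<|a 6<|b) (a (a 0<|a 0<|b)<|b)))<|b))) (by decide +kernel)

end Cfsg.Agent.E82.O8
end

-- part: E82/O8/DatT
section
/-!
# S3369, the row `Ω₈⁺(2)`: the certificates with the triality (helper94, generated)

The letter `99` is an element of order three that induces the triality.
-/

set_option autoImplicit false
set_option maxRecDepth 100000

namespace Cfsg.Agent.E82.O8

open Cfsg.Agent.H939.L64 (KK E2 LK rE)
open Cfsg.Agent.E82.Mach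

/-- the oracle -/
noncomputable def okU : List ℕ → List ℕ → Bool := okK dw

/-- a `3`-group -/
def KG : List (List ℕ) := [[0, 1, 1, 2, 2], [99, 19]]

/-- a `3`-group -/
def KM : List (List ℕ) := (beta% delta% lq26092fbbe6 fun a b _ _ _ =>
 (a (a 0<|a 1<|a 3<|a 3<|b)<|a (a 99<|a 19<|b)<|a (a 0<|a 1<|a 1<|a 2<|a 2<|b)<|b))

/-- a `3`-group -/
def SS : List (List ℕ) := (beta% delta% lq26092fbbe6 fun a b _ _ _ =>
 (a (a 0<|a 1<|a 3<|a 3<|b)<|a (a 0<|a 1<|a 1<|a 2<|a 2<|b)<|b))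

/-- a `3`-group -/
def BS : List (List ℕ) := (beta% delta% lq26092fbbe6 fun a b _ _ _ =>
 (a (a 0<|a 1<|a 1<|a 2<|a 2<|a 3<|b)<|a (a 0<|a 1<|a 1<|a 2<|a 2<|b)<|b))

/-- a `3`-group -/
def T0 : List (List ℕ) := [[0, 1, 1, 2, 2], [99]]

/-- a `3`-group -/
def T1 : List (List ℕ) := (beta% delta% lq26092fbbe6 fun a b _ _ _ =>
 (a (a 0<|a 1<|a 1<|a 2<|a 2<|b)<|a (a 99<|a 1<|a 2<|a 2<|b)<|b))

/-- a `3`-group -/
def T2 : List (List ℕ) := (beta% delta% lq26092fbbe6 fun a b _ _ _ =>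
 (a (a 0<|a 1<|a 1<|a 2<|a 2<|b)<|a (a 99<|a 1<|a 2<|a 2<|a 1<|a 2<|a 2<|b)<|b))

/-- a `3`-group -/
def N0 : List (List ℕ) := (beta% delta% lq26092fbbe6 fun a b _ _ _ =>
 (a (a 0<|a 1<|a 1<|a 2<|a 2<|a 3<|b)<|a (a 99<|b)<|a (a 0<|a 1<|a 1<|a 2<|a 2<|b)<|b))

/-- a `3`-group -/
def N1 : List (List ℕ) := (beta% delta% lq26092fbbe6 fun a b _ _ _ =>
 (a (a 0<|a 1<|a 1<|a 2<|a 2<|a 3<|b)<|a (a 99<|a 1<|a 2<|a 2<|b)<|a (a 0<|a 1<|a 1<|a 2<|a 2<|b)<|b))

/-- a `3`-group -/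
def N2 : List (List ℕ) := (beta% delta% lq26092fbbe6 fun a b _ _ _ =>
 (a (a 0<|a 1<|a 1<|a 2<|a 2<|a 3<|b)<|a (a 99<|a 1<|a 2<|a 2<|a 1<|a 2<|a 2<|b)<|a (a 0<|a 1<|a 1<|a 2<|a 2<|b)<|b))

/-- a `3`-group -/
def M0 : List (List ℕ) := (beta% delta% lq26092fbbe6 fun a b _ _ _ =>
 (a (a 1<|a 2<|a 2<|b)<|a (a 99<|b)<|a (a 0<|a 1<|a 1<|a 2<|a 2<|a 3<|b)<|a (a 0<|a 1<|a 1<|a 2<|a 2<|b)<|b))

theorem n4 : (beta% delta% lq26092fbbe6 fun a b _ _ _ =>
 mapOk okU (a 4<|b) E4 E4 (a (a 1<|b)<|a (a 0<|b)<|a (a 2<|b)<|a (a 3<|b)<|b) :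
 Bool) = true := by decide +kernel

theorem n5 : (beta% delta% lq26092fbbe6 fun a b _ _ _ =>
 mapOk okU (a 5<|b) E4 E4 (a (a 0<|b)<|a (a 2<|b)<|a (a 1<|b)<|a (a 3<|b)<|b) :
 Bool) = true := by decide +kernel

theorem n6 : (beta% delta% lq26092fbbe6 fun a b _ _ _ =>
 mapOk okU (a 6<|b) E4 E4 (a (a 0<|b)<|a (a 1<|b)<|a (a 3<|b)<|a (a 2<|b)<|b) :
 Bool) = true := by decide +kernel

theorem n19 : (beta% delta% lq26092fbbe6 fun a b _ _ _ =>
 mapOk okU (a 19<|b) E4 E4 (a (a 2<|a 2<|b)<|a (a 0<|a 0<|b)<|a (a 1<|b)<|a (a 3<|b)<|b) :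
 Bool) = true := by decide +kernel

theorem n99 : (beta% delta% lq26092fbbe6 fun a b _ _ _ =>
 mapOk okU (a 99<|b) E4 E4 (a (a 0<|a 0<|a 1<|a 1<|a 2<|a 2<|a 3<|a 3<|b)<|a (a 0<|a 0<|a 1<|a 1<|a 2<|a 3<|b)<|a (a 0<|a 0<|a 1<|a 2<|a 2<|a 3<|b)<|a (a 0<|a 1<|a 1<|a 2<|a 2<|a 3<|b)<|b) :
 Bool) = true := by decide +kernel

variable {g : ℕ → E2} (h : Sd okU g)

include h

theorem tB : dz g [[11]] = dz g [[0]] :=
  h.deq (e := (beta% delta% lq26092fbbe6 fun a b c _ _ =>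
 (c (c (a 99<|b) (a (a 0<|a 0<|b)<|b)) (c (a 99<|a 99<|b) (a (a 0<|a 0<|b)<|b))))) (by decide +kernel)

theorem tC : dz g [[12]] = dz g [[0]] :=
  h.deq (e := (beta% delta% lq26092fbbe6 fun a b c _ _ =>
 (c (c (a 99<|a 99<|b) (a (a 0<|a 0<|b)<|b)) (c (a 99<|a 99<|a 99<|a 99<|b) (a (a 0<|a 0<|b)<|b))))) (by decide +kernel)

theorem t1 : dz g [[0, 1, 1, 2, 2]] = dz g [[10]] :=
  h.deq (e := (beta% delta% lq26092fbbe6 fun a b c _ _ =>
 (c (c (a 6<|a 7<|a 5<|a 4<|b) (a (a 0<|a 0<|b)<|b)) (c (a 4<|a 5<|a 7<|a 6<|b) (a (a 0<|a 0<|b)<|b))))) (by decide +kernel)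

theorem t2 : dz g SS = dz g Z2 :=
  h.deq (e := (beta% delta% lq26092fbbe6 fun a b c _ _ =>
 (c (c (a 7<|b) (a (a 1<|b)<|a (a 0<|b)<|b)) (c (a 7<|b) (a (a 1<|b)<|a (a 0<|b)<|b))))) (by decide +kernel)

theorem t3 : dz g BS = dz g Zy :=
  h.deq (e := (beta% delta% lq26092fbbe6 fun a b c _ _ =>
 (c (c (a 6<|a 7<|a 5<|a 4<|b) (a (a 0<|a 0<|a 1<|b)<|a (a 1<|a 1<|b)<|b)) (c (a 4<|a 5<|a 7<|a 6<|b) (a (a 0<|a 0<|a 1<|a 1<|b)<|a (a 1<|a 1<|b)<|b))))) (by decide +kernel)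

theorem k1 : dz g [] + 3 * dz g KG = dz g [[99, 19]] + dz g [[10]] + dz g [[99, 19]] + dz g [[99, 19]] :=
  h.pair (a := [99, 19]) (b := [0, 1, 1, 2, 2]) (ca := []) (cb := []) (c1 := []) (c2 := []) (c3 := []) (e0 := (beta% delta% lq26092fbbe6 fun a b c _ _ =>
 (c (c b
 (a (a 0<|b)<|a (a 1<|b)<|b)) (c b (a (a 0<|b)<|a (a 1<|b)<|b))))) (e1 := (([], [[0]]), ([], [[0]]))) (e2 := (beta% delta% lq26092fbbe6 fun a b c _ _ =>
 (c (c (a 6<|a 7<|a 5<|a 4<|b) (a (a 0<|a 0<|b)<|b)) (c (a 4<|a 5<|a 7<|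
 a 6<|b) (a (a 0<|a 0<|b)<|b))))) (e3 := (beta% delta% lq26092fbbe6 fun a b c _ _ =>
 (c (c (a 0<|a 2<|b) (a (a 0<|b)<|b)) (c (a 2<|a 2<|a 0<|a 0<|b) (a (a 0<|b)<|b))))) (e4 := (beta% delta% lq26092fbbe6 fun a b c _ _ =>
 (c (c (a 3<|b) (a (a 0<|b)<|b)) (c (a 3<|a 3<|b) (a (a 0<|b)<|b)))))
    (by decide +kernel)

theorem k2 : dz g [[0, 1, 1, 2, 2]] + 3 * dz g KM = dz g KG + dz g Z2 + dz g KG + dz g KG :=
  h.pair (a := [99, 19]) (b := [0, 1, 3, 3]) (ca := [[0]]) (cb := [[0]]) (c1 := []) (c2 := []) (c3 := []) (e0 := (beta% delta% lq26092fbbe6 fun a b c _ _ =>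
 (c (c b
 (a (a 0<|b)<|a (a 1<|b)<|a (a 2<|b)<|b)) (c b (a (a 0<|b)<|a (a 1<|b)<|a (a 2<|b)<|b))))) (e1 := (beta% delta% lq26092fbbe6 fun a b c _ _ =>
 (c (c b (a (a 1<|b)<|a (a 0<|b)<|b)) (c b (a (a 1<|b)<|a (a 0<|b)<|b))))) (e2 := (beta% delta% lq26092fbbe6 fun a b c _ _ =>
 (c (c (a 7<|b) (a (a 1<|b)<|a (a 0<|b)<|b))
 (c (a 7<|b) (a (a 1<|b)<|a (a 0<|b)<|b))))) (e3 := (beta% delta% lq26092fbbe6 fun a b c _ _ =>
 (c (c (a 1<|b) (a (a 1<|b)<|a (a 0<|a 1<|b)<|b)) (c (a 1<|a 1<|b) (a (a 0<|a 0<|a 1<|b)<|a (a 0<|b)<|b))))) (e4 := (beta% delta% lq26092fbbe6 fun a b c _ _ =>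
 (c (c (a 0<|b) (a (a 1<|b)<|a (a 0<|a 1<|b)<|b)) (c (a 0<|
 a 0<|b) (a (a 0<|a 0<|a 1<|b)<|a (a 0<|b)<|b))))) (by decide +kernel)

theorem k3a : dz g [] + 3 * dz g T0 = dz g [[99]] + dz g [[10]] + dz g [[99]] + dz g [[99]] :=
  h.pair (a := [99]) (b := [0, 1, 1, 2, 2]) (ca := []) (cb := []) (c1 := []) (c2 := []) (c3 := []) (e0 := (beta% delta% lq26092fbbe6 fun a b c _ _ =>
 (c (c b (a (a 0<|b)<|
 a (a 1<|b)<|b)) (c b (a (a 0<|b)<|a (a 1<|b)<|b))))) (e1 := (([], [[0]]), ([], [[0]]))) (e2 := (beta% delta% lq26092fbbe6 fun a b c _ _ =>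
 (c (c (a 6<|a 7<|a 5<|a 4<|b) (a (a 0<|a 0<|b)<|b)) (c (a 4<|a 5<|a 7<|a 6<|b) (a (a 0<|
 a 0<|b)<|b))))) (e3 := (beta% delta% lq26092fbbe6 fun a b c _ _ =>
 (c (c (a 3<|a 3<|b) (a (a 0<|b)<|b)) (c (a 3<|a 3<|a 3<|a 3<|b) (a (a 0<|b)<|b))))) (e4 := (beta% delta% lq26092fbbe6 fun a b c _ _ =>
 (c (c (a 3<|b) (a (a 0<|b)<|b)) (c (a 3<|a 3<|b) (a (a 0<|b)<|b)))))
    (by decide +kernel)

theorem k4a : dz g [[0, 1, 1, 2, 2]] + 3 * dz g N0 = dz g T0 + dz g Zy + dz g T0 + dz g T0 :=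
  h.pair (a := [99]) (b := [0, 1, 1, 2, 2, 3]) (ca := [[0]]) (cb := [[0]]) (c1 := [0]) (c2 := []) (c3 := []) (e0 :=
    (beta% delta% lq26092fbbe6 fun a b c _ _ =>
 (c (c b (a (a 0<|b)<|a (a 1<|b)<|a (a 2<|b)<|b)) (c b (a (a 0<|b)<|a (a 1<|b)<|a (a 2<|b)<|b))))) (e1 := (beta% delta% lq26092fbbe6 fun a b c _ _ =>
 (c (c b (a (a 1<|b)<|a (a 0<|b)<|b)) (c b (a (a 1<|b)<|a (a 0<|b)<|b))))) (e2 := (beta% delta% lq26092fbbe6 fun a b c _ _ =>
 (c (c (a 6<|a 7<|a 5<|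
 a 4<|b) (a (a 0<|a 0<|a 1<|b)<|a (a 1<|a 1<|b)<|b)) (c (a 4<|a 5<|a 7<|a 6<|b) (a (a 0<|a 0<|a 1<|a 1<|b)<|a (a 1<|a 1<|b)<|b))))) (e3 := (beta% delta% lq26092fbbe6 fun a b c _ _ =>
 (c (c (a 0<|b) (a (a 1<|b)<|a (a 0<|a 1<|b)<|b)) (c (a 0<|a 0<|b) (a (a 0<|a 0<|
 a 1<|b)<|a (a 0<|b)<|b))))) (e4 := (beta% delta% lq26092fbbe6 fun a b c _ _ =>
 (c (c (a 1<|b) (a (a 1<|b)<|a (a 0<|a 1<|a 1<|b)<|b)) (c (a 1<|a 1<|b) (a (a 0<|a 1<|b)<|a (a 0<|b)<|b))))) (by decide +kernel)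

theorem k3b : dz g [] + 3 * dz g T1 = dz g [[99, 1, 2, 2]] + dz g [[10]] + dz g [[99, 1, 2, 2]] + dz g [[99, 1, 2, 2]] :=
  h.pair (a := [99, 1, 2, 2]) (b := [0, 1, 1, 2, 2]) (ca := []) (cb := []) (c1 := []) (c2 := []) (c3 := []) (e0 := (beta% delta% lq26092fbbe6 fun a b c _ _ =>
 (c (c b
 (a (a 0<|b)<|a (a 1<|b)<|b)) (c b (a (a 0<|b)<|a (a 1<|b)<|b))))) (e1 := (([], [[0]]), ([], [[0]]))) (e2 := (beta% delta% lq26092fbbe6 fun a b c _ _ =>
 (c (c (a 6<|a 7<|a 5<|a 4<|b) (a (a 0<|a 0<|b)<|b)) (c (a 4<|a 5<|a 7<|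
 a 6<|b) (a (a 0<|a 0<|b)<|b))))) (e3 := (beta% delta% lq26092fbbe6 fun a b c _ _ =>
 (c (c (a 3<|a 3<|b) (a (a 0<|b)<|b)) (c (a 3<|a 3<|a 3<|a 3<|b) (a (a 0<|b)<|b))))) (e4 := (beta% delta% lq26092fbbe6 fun a b c _ _ =>
 (c (c (a 3<|b) (a (a 0<|b)<|b)) (c (a 3<|a 3<|b) (a (a 0<|b)<|b)))))
    (by decide +kernel)

theorem k4b : dz g [[0, 1, 1, 2, 2]] + 3 * dz g N1 = dz g T1 + dz g Zy + dz g T1 + dz g T1 :=
  h.pair (a := [99, 1, 2, 2]) (b := [0, 1, 1, 2, 2, 3]) (ca := [[0]]) (cb := [[0]]) (c1 := [0]) (c2 := []) (c3 := [])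
    (e0 := (beta% delta% lq26092fbbe6 fun a b c _ _ =>
 (c (c b (a (a 0<|b)<|a (a 1<|b)<|a (a 2<|b)<|b)) (c b (a (a 0<|b)<|a (a 1<|b)<|a (a 2<|b)<|b))))) (e1 := (beta% delta% lq26092fbbe6 fun a b c _ _ =>
 (c (c b (a (a 1<|b)<|a (a 0<|b)<|b)) (c b (a (a 1<|b)<|a (a 0<|b)<|b))))) (e2 := (beta% delta% lq26092fbbe6 fun a b c _ _ =>
 (c (c (a 6<|
 a 7<|a 5<|a 4<|b) (a (a 0<|a 0<|a 1<|b)<|a (a 1<|a 1<|b)<|b)) (c (a 4<|a 5<|a 7<|a 6<|b) (a (a 0<|a 0<|a 1<|a 1<|b)<|a (a 1<|a 1<|b)<|b))))) (e3 := (beta% delta% lq26092fbbe6 fun a b c _ _ =>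
 (c (c (a 0<|b) (a (a 1<|b)<|a (a 0<|a 1<|b)<|b)) (c (a 0<|a 0<|b)
 (a (a 0<|a 0<|a 1<|b)<|a (a 0<|b)<|b))))) (e4 := (beta% delta% lq26092fbbe6 fun a b c _ _ =>
 (c (c (a 1<|b) (a (a 1<|b)<|a (a 0<|a 1<|a 1<|b)<|b)) (c (a 1<|a 1<|b) (a (a 0<|a 1<|b)<|a (a 0<|b)<|b))))) (by decide +kernel)

theorem k3c : dz g [] + 3 * dz g T2 = dz g [[99, 1, 2, 2, 1, 2, 2]] + dz g [[10]] + dz g [[99, 1, 2, 2, 1, 2, 2]] + dz g [[99, 1, 2, 2, 1, 2, 2]] :=
  h.pair (a := [99, 1, 2, 2, 1, 2, 2]) (b := [0, 1, 1, 2, 2]) (ca := []) (cb := []) (c1 := []) (c2 := []) (c3 := []) (e0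
    := (beta% delta% lq26092fbbe6 fun a b c _ _ =>
 (c (c b (a (a 0<|b)<|a (a 1<|b)<|b)) (c b (a (a 0<|b)<|a (a 1<|b)<|b))))) (e1 := (([], [[0]]), ([], [[0]]))) (e2 := (beta% delta% lq26092fbbe6 fun a b c _ _ =>
 (c (c (a 6<|a 7<|a 5<|a 4<|b) (a (a 0<|a 0<|b)<|b)) (c (a 4<|
 a 5<|a 7<|a 6<|b) (a (a 0<|a 0<|b)<|b))))) (e3 := (beta% delta% lq26092fbbe6 fun a b c _ _ =>
 (c (c (a 3<|a 3<|b) (a (a 0<|b)<|b)) (c (a 3<|a 3<|a 3<|a 3<|b) (a (a 0<|b)<|b))))) (e4 := (beta% delta% lq26092fbbe6 fun a b c _ _ =>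
 (c (c (a 3<|b) (a (a 0<|b)<|b)) (c (a 3<|a 3<|b) (a (a 0<|b)<|b)))))
    (by decide +kernel)

theorem k4c : dz g [[0, 1, 1, 2, 2]] + 3 * dz g N2 = dz g T2 + dz g Zy + dz g T2 + dz g T2 :=
  h.pair (a := [99, 1, 2, 2, 1, 2, 2]) (b := [0, 1, 1, 2, 2, 3]) (ca := [[0]]) (cb := [[0]]) (c1 := [0]) (c2 := []) (c3
    := []) (e0 := (beta% delta% lq26092fbbe6 fun a b c _ _ =>
 (c (c b (a (a 0<|b)<|a (a 1<|b)<|a (a 2<|b)<|b)) (c b (a (a 0<|b)<|a (a 1<|b)<|a (a 2<|b)<|b))))) (e1 := (beta% delta% lq26092fbbe6 fun a b c _ _ =>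
 (c (c b (a (a 1<|b)<|a (a 0<|b)<|b)) (c b (a (a 1<|b)<|a (a 0<|b)<|b))))) (e2 :=
    (beta% delta% lq26092fbbe6 fun a b c _ _ =>
 (c (c (a 6<|a 7<|a 5<|a 4<|b) (a (a 0<|a 0<|a 1<|b)<|a (a 1<|a 1<|b)<|b)) (c (a 4<|a 5<|a 7<|a 6<|b) (a (a 0<|a 0<|a 1<|a 1<|b)<|a (a 1<|a 1<|b)<|b))))) (e3 := (beta% delta% lq26092fbbe6 fun a b c _ _ =>
 (c (c (a 0<|b) (a (a 1<|b)<|a (a 0<|a 1<|b)<|b)) (c (a 0<|
 a 0<|b) (a (a 0<|a 0<|a 1<|b)<|a (a 0<|b)<|b))))) (e4 := (beta% delta% lq26092fbbe6 fun a b c _ _ =>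
 (c (c (a 1<|b) (a (a 1<|b)<|a (a 0<|a 1<|a 1<|b)<|b)) (c (a 1<|a 1<|b) (a (a 0<|a 1<|b)<|a (a 0<|b)<|b))))) (by decide +kernel)

theorem k5 : dz g BS + 3 * dz g M0 = dz g N0 + dz g U4 + dz g N1 + dz g N2 :=
  h.pair (a := [99]) (b := [1, 2, 2]) (ca := [[0, 1], [1]]) (cb := [[0], [1]]) (c1 := []) (c2 := []) (c3 := []) (e0 :=
    (beta% delta% lq26092fbbe6 fun a b c _ _ =>
 (c (c b (a (a 0<|b)<|a (a 1<|b)<|a (a 2<|b)<|a (a 3<|b)<|b)) (c b (a (a 0<|b)<|a (a 1<|b)<|a (a 2<|b)<|a (a 3<|b)<|b))))) (e1 := (beta% delta% lq26092fbbe6 fun a b c _ _ =>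
 (c (c b (a (a 1<|b)<|a (a 0<|b)<|a (a 2<|b)<|b)) (c b (a (a 1<|b)<|a (a 0<|b)<|a (a 2<|b)<|b)))))
    (e2 := (beta% delta% lq26092fbbe6 fun a b c _ _ =>
 (c (c (a 6<|a 7<|a 5<|a 4<|b) (a (a 1<|a 1<|a 2<|b)<|a (a 0<|b)<|a (a 2<|a 2<|b)<|b)) (c (a 4<|a 5<|a 7<|a 6<|b) (a (a 1<|b)<|a (a 0<|a 0<|a 2<|a 2<|b)<|a (a 2<|a 2<|b)<|b))))) (e3 := (beta% delta% lq26092fbbe6 fun a b c _ _ =>
 (c (c b (a (a 1<|b)<|
 a (a 0<|b)<|a (a 2<|b)<|b)) (c b (a (a 1<|b)<|a (a 0<|b)<|a (a 2<|b)<|b))))) (e4 := (beta% delta% lq26092fbbe6 fun a b c _ _ =>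
 (c (c b (a (a 1<|b)<|a (a 0<|b)<|a (a 2<|b)<|b)) (c b (a (a 1<|b)<|a (a 0<|b)<|a (a 2<|b)<|b))))) (by decide +kernel)

theorem k6 : qe (dz g [[99, 1, 2, 2]]) + qe (dz g [[99, 1, 2, 2, 1, 2, 2]]) = 2 * (qe (dz g [[99]]) + qe (dz g [[9]])) :=
  h.par (a := [99]) (b := [1, 2, 2]) (e1 := (([], [[0]]), ([], [[0]]))) (e2 := (beta% delta% lq26092fbbe6 fun a b c _ _ =>
 (c (c (a 5<|a 4<|b) (a (a 0<|b)<|b)) (c (a 4<|a 5<|b) (a (a 0<|b)<|b))))) (e3
    := (([], [[0]]), ([], [[0]]))) (e4 := (([], [[0]]), ([], [[0]]))) (by decide +kernel)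

theorem k7 : dz g E4 + 3 * dz g ([19] :: [99] :: E4) = dz g ([99] :: E4) + dz g ([18] :: E4) + dz g ([99, 19] :: E4) + dz g ([99, 19] :: E4) :=
  h.pair (a := [99]) (b := [19]) (ca := (beta% delta% lq26092fbbe6 fun a b _ _ _ =>
 (a (a 0<|a 0<|a 1<|a 1<|a 2<|a 2<|a 3<|a 3<|b)<|a (a 0<|a 0<|a 1<|a 1<|a 2<|a 3<|b)<|a (a 0<|a 0<|a 1<|a 2<|a 2<|a 3<|b)<|a (a 0<|a 1<|a 1<|a 2<|
 a 2<|a 3<|b)<|b))) (cb := [[2, 2], [0, 0], [1], [3]]) (c1 := []) (c2 := []) (c3 := []) (e0 := (beta% delta% lq26092fbbe6 fun a b c _ _ =>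
 (c (c b (a (a 0<|b)<|a (a 1<|b)<|a (a 2<|b)<|a (a 3<|b)<|a (a 4<|b)<|
 a (a 5<|b)<|b)) (c b (a (a 0<|b)<|a (a 1<|b)<|a (a 2<|b)<|a (a 3<|b)<|a (a 4<|b)<|a (a 5<|b)<|b))))) (e1 := (beta% delta% lq26092fbbe6 fun a b c _ _ =>
 (c (c b (a (a 0<|b)<|a (a 1<|b)<|a (a 2<|b)<|a (a 3<|b)<|a (a 4<|b)<|b)) (c b (a (a 0<|b)<|a (a 1<|b)<|a (a 2<|b)<|a (a 3<|b)<|
 a (a 4<|b)<|b))))) (e2 := (beta% delta% lq26092fbbe6 fun a b c _ _ =>
 (c (c (a 6<|a 7<|a 5<|a 4<|b) (a (a 0<|b)<|a (a 2<|b)<|a (a 3<|b)<|a (a 1<|a 1<|b)<|a (a 4<|a 4<|b)<|b)) (c (a 4<|a 5<|a 7<|a 6<|b) (a (a 0<|b)<|a (a 3<|a 3<|b)<|a (a 1<|b)<|a (a 2<|b)<|a (a 4<|a 4<|b)<|b)))))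
    (e3 := (beta% delta% lq26092fbbe6 fun a b c _ _ =>
 (c (c b (a (a 0<|b)<|a (a 1<|b)<|a (a 2<|b)<|a (a 3<|b)<|a (a 4<|b)<|b)) (c b (a (a 0<|b)<|a (a 1<|b)<|a (a 2<|b)<|a (a 3<|b)<|a (a 4<|b)<|b))))) (e4 := (beta% delta% lq26092fbbe6 fun a b c _ _ =>
 (c (c (a 5<|b) (a (a 0<|b)<|a (a 1<|b)<|a (a 3<|b)<|a (a 2<|b)<|
 a (a 4<|b)<|b)) (c (a 5<|b) (a (a 0<|b)<|a (a 1<|b)<|a (a 3<|b)<|a (a 2<|b)<|a (a 4<|b)<|b))))) (by decide +kernel)

theorem q1 : Fz g E4 ≤ Fz g SS :=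
  h.le (cs := (beta% delta% lq26092fbbe6 fun a b _ _ _ =>
 (a (a 0<|a 1<|a 3<|a 3<|b)<|a (a 0<|a 1<|a 1<|a 2<|a 2<|b)<|b))) (by decide +kernel)

theorem q2 : Fz g KM ≤ Fz g SS :=
  h.le (cs := [[0], [2]]) (by decide +kernel)

theorem q3 : Fz g M0 ≤ Fz g SS :=
  h.le (cs := [[0, 0, 2, 2, 3, 3], [3]]) (by decide +kernel)

end Cfsg.Agent.E82.O8
end

-- part: E82/O8/Rows
section
/-!
# S3369, the row `Ω₈⁺(2)`: the types, the two cases with a large fixed space (helper94)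
-/

set_option autoImplicit false
set_option maxRecDepth 100000

namespace Cfsg.Agent.E82.O8

open Module
open Cfsg.Agent.H175.LD (Fk mem_Fk)
open Cfsg.Agent.H939.L64 (KK E2 LK rE rE_mul rE_one)
open Cfsg.Agent.E82.Mach

theorem types_num : ∀ A ∈ [134, 92, 86, 80], ∀ B ∈ [134, 92, 86, 80], ∀ C ∈ [134, 92, 86, 80], ∀ E ∈ [134, 92, 86, 80],
    qe E + qe E = 2 * (qe A + qe A) → qe E + qe E = 2 * (qe B + qe B) → qe B + qe C = 2 * (qe 86 + qe A) →
    (A = 86 ∧ B = 86 ∧ C = 86 ∧ E = 86) ∨ (A = 92 ∧ B = 92 ∧ C = 92 ∧ (E = 134 ∨ E = 80)) ∨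
      (E = 92 ∧ (A = 134 ∨ A = 80) ∧ (B = 134 ∨ B = 80) ∧ (C = 134 ∨ C = 80)) := by decide +kernel

theorem tri_num : ∀ A ∈ [248, 134, 92, 86, 80], ∀ B ∈ [248, 134, 92, 86, 80], ∀ C ∈ [248, 134, 92, 86, 80],
    qe B + qe C = 2 * (qe A + qe 92) → 249 ≤ A + B + C := by decide +kernel

theorem mem4 {n : ℕ} (h : n = 248 ∨ n = 134 ∨ n = 92 ∨ n = 86 ∨ n = 80) (h1 : n ≠ 248) : n ∈ [134, 92, 86, 80] := by
  simp only [List.mem_cons, List.not_mem_nil, or_false]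
  omega

theorem mem5 {n : ℕ} (h : n = 248 ∨ n = 134 ∨ n = 92 ∨ n = 86 ∨ n = 80) : n ∈ [248, 134, 92, 86, 80] := by
  simp only [List.mem_cons, List.not_mem_nil, or_false]
  exact h

variable {g : ℕ → E2}

theorem Fz_nil (v : LK) : v ∈ Fz g [] := fun _ hw => absurd hw List.not_mem_nil

variable (h : Sd okS g)

include h

/-- **the types** -/
theorem types (h0 : g 4 ≠ 1) : dz g [[10]] = 86 ∧
    ((dz g [[0]] = 92 ∧ dz g [[11]] = 92 ∧ dz g [[12]] = 92 ∧ (dz g [[9]] = 134 ∨ dz g [[9]] = 80)) ∨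
      (dz g [[9]] = 92 ∧ (dz g [[0]] = 134 ∨ dz g [[0]] = 80) ∧ (dz g [[11]] = 134 ∨ dz g [[11]] = 80) ∧
        (dz g [[12]] = 134 ∨ dz g [[12]] = 80))) := by
  obtain ⟨hD, hX⟩ := h.nine (a := [0, 18]) (w := [10]) (by decide +kernel) (by decide +kernel)
    (by rw [pw_single]; exact ne10 h h0)
  refine ⟨hD, (types_num _ (mem4 (h.val (by decide +kernel)) (dz_ne (ne0 h h0))) _
    (mem4 (h.val (by decide +kernel)) (dz_ne (ne11 h h0))) _ (mem4 (h.val (by decide +kernel)) (dz_ne (ne12 h h0))) _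
    (mem4 (h.val (by decide +kernel)) (dz_ne (ne9 h h0))) (p1 h) (p2 h) (hD ▸ p3 h)).resolve_left ?_⟩
  rintro ⟨a1, a2, a3, a4⟩
  have e0 := dz_nil (g := g)
  have e1 := f1 h
  have e2 := f2 h
  have e3 := f3 h
  have e4 := f4 h
  have e5 := f5 h
  have e7 := f7 h
  have e8 := f8 h
  have e9 := f9 h
  have e10 := f10 h
  omega

/-- the dimensions -/
theorem dims (hD : dz g [[10]] = 86) : dz g Z2 = 32 ∧ dz g Zb + 54 = dz g [[9]] ∧
    3 * dz g Zy + 162 = dz g [[0]] + dz g [[11]] + dz g [[12]] ∧ 3 * dz g U4 + 22 = dz g Zb + dz g Zy ∧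
      3 * dz g Q3 + 86 = 4 * dz g Zb ∧ dz g Zy + 3 * dz g R4 = 4 * dz g U4 := by
  have e0 := dz_nil (g := g)
  have e1 := f1 h
  have e2 := f2 h
  have e3 := f3 h
  have e4 := f4 h
  have e5 := f5 h
  have e6 := f6 h
  omega

section big

variable (hZ : dz g Z2 = 32) (hU : dz g U4 = 32)

include hZ hU

theorem u_le : Fz g U4 ≤ Fz g E4 := fun _ hv =>
  l3 h (Fz_app hv (Fz_eq (l2 h) (by rw [d1 h, hU, hZ]) (l1 h hv)))

theorem dV : dz g E4 = 32 := le_antisymm (hU ▸ dz_le (l4 h)) (hU ▸ dz_le (u_le h hZ hU))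

theorem y_le : Fz g R4 ≤ Fz g E4 := (l5 h).trans (u_le h hZ hU)

theorem y_pl : Fz g R4 ≤ Fz g PL := fun v hv => by
  have a1 : rE (pw g [0]) v = v := y_le h hZ hU hv [0] (by decide)
  have a2 := y_le h hZ hU (h.map_mem mu hv) [0] (by decide)
  have a3 : rE (pw g ([8] ++ ([0] ++ [8, 8, 8]))) v = v := by
    rw [rE_app, rE_app, a2, ← rE_app, h _ [] (by decide +kernel), pw_nil, rE_one]
  exact Fz_app hv (Fz_mk a1 (Fz_mk a3 (Fz_nil v)))

theorem y_gen {v : LK} (hv : v ∈ Fz g R4) (h6 : rE (pw g [6]) v = v) (h7 : rE (pw g [7]) v = v) : v ∈ Fz g GEN :=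
  l7 h (Fz_app (y_pl h hZ hU hv) (Fz_mk h6 (Fz_mk h7 (Fz_nil v))))

theorem y_s1 : Fz g R4 ≤ Fz g ([4] :: E4) := fun _ hv => Fz_mk (l6 h (y_pl h hZ hU hv) [4] (by decide)) (y_le h hZ hU hv)

theorem y_r : Fz g R4 ≤ Fz g ([18] :: E4) := fun _ hv => Fz_mk (Fz_hd hv) (y_le h hZ hU hv)

theorem d_r : dz g ([18] :: E4) = dz g R4 := le_antisymm (dz_le (l8 h)) (dz_le (y_r h hZ hU))

/-- **the first case** -/
theorem row1 (hR : dz g R4 = 30) {P : Submodule KK LK} (hP : P ≤ Fz g E4) (hd : 8 ≤ finrank KK P) :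
    ∃ v, v ≠ 0 ∧ v ∈ P ∧ v ∈ Fz g GEN := by
  have a0 : finrank KK (Fz g E4) = 32 := dV h hZ hU
  have a1 : finrank KK (Fz g R4) = 30 := hR
  have a2 := dz_le (y_s1 h hZ hU)
  have a3 : finrank KK (Fz g ([6] :: E4)) = _ := d3 h
  have a4 : finrank KK (Fz g ([7] :: E4)) = _ := d4 h
  have b0 := y_le h hZ hU
  have b1 := dim_inf b0 (Q := Fz g ([6] :: E4)) fun _ => Fz_tl
  have b2 := dim_inf (inf_le_left.trans b0 : Fz g R4 ⊓ Fz g ([6] :: E4) ≤ _) (Q := Fz g ([7] :: E4)) fun _ => Fz_tl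
  have b3 := dim_inf (inf_le_left.trans (inf_le_left.trans b0) : (Fz g R4 ⊓ Fz g ([6] :: E4)) ⊓ Fz g ([7] :: E4) ≤ _) hP
  obtain ⟨v, ⟨⟨⟨c1, c2⟩, c3⟩, c4⟩, hv⟩ := exists_ne (P := ((Fz g R4 ⊓ Fz g ([6] :: E4)) ⊓ Fz g ([7] :: E4)) ⊓ P) (by omega)
  exact ⟨v, hv, c4, y_gen h hZ hU c1 (Fz_hd c2) (Fz_hd c3)⟩

theorem s1_rank (hR : dz g R4 = 16) : 24 ≤ dz g ([4] :: E4) := by
  have a1 := rank_le two_KK (r := h.op m18) (s := h.op m4) (h.op_cube m18 (by decide +kernel))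
    (h.op_hc m4 m18 (by decide +kernel))
    (fun v hv => (h.op_fix m4 v).2 (Fz_hd (y_s1 h hZ hU (l8 h (Fz_mk ((h.op_fix m18 v).1 hv) v.2)))))
    (h.op_sq m4 (by decide +kernel))
  rw [h.op_fk, d_r h hZ hU, hR] at a1
  have a0 : finrank KK (Fz g E4) = 32 := dV h hZ hU
  have a2 := h.op_nr m4
  rw [dV h hZ hU] at a2
  omega

/-- **the second case** -/
theorem row2 (hR : dz g R4 = 16) : ∃ v, v ≠ 0 ∧ v ∈ Fz g GEN := by
  obtain ⟨B, hB, hi⟩ := h.form (Z := E4) (by decide +kernel)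
  have a0 := dV h hZ hU
  have a1 := s1_rank h hZ hU hR
  have a2 := h.op_nr m4
  have a3 := h.op_nr m6
  have a4 := h.op_nr m7
  have a5 := d3 h
  have a6 := d4 h
  obtain ⟨v, h1, h2, h3, h4⟩ := fix_a two_KK hB ⟨h.op_sq m4 (by decide +kernel), hi m4⟩ ⟨h.op_sq m6 (by decide +kernel), hi m6⟩
    ⟨h.op_sq m7 (by decide +kernel), hi m7⟩ (h.op_rel m4 m6 m6 m4 (by decide +kernel)) (h.op_rel m4 m7 m7 m4 (by decide +kernel))
    (h.op_rel m6 m7 m7 m6 (by decide +kernel)) (Y := (Fz g R4).comap (Fz g E4).subtype)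
    (fun v hv => (h.op_fix m4 v).2 (Fz_hd (y_s1 h hZ hU hv))) a0
    ((Submodule.comapSubtypeEquivOfLe (y_le h hZ hU)).finrank_eq.trans hR) (by omega) (by omega) (by omega)
  exact ⟨v, fun e => h2 (Subtype.ext e), y_gen h hZ hU h1 ((h.op_fix m6 v).1 h3) ((h.op_fix m7 v).1 h4)⟩

variable (k : Sd okU g) (hD : dz g [[10]] = 86)

include k

theorem ss_le : Fz g SS ≤ Fz g E4 := Fz_eq (q1 k) (by rw [t2 k, hZ, dV h hZ hU])

include hD

theorem km_ge : 8 ≤ dz g ([99, 19] :: E4) := by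
  have a1 : Fz g KM ≤ Fz g ([99, 19] :: E4) := fun _ hv => Fz_mk (hv _ (by decide)) (ss_le h hZ hU k (q2 k hv))
  have a2 := dz_le a1
  have e0 := dz_nil (g := g)
  have e1 := k1 k
  have e2 := k2 k
  have e3 := t1 k
  have e4 := k.val (a := [99, 19]) (by decide +kernel)
  omega

theorem row1t (hR : dz g R4 = 30) : ∃ v, v ≠ 0 ∧ v ∈ Fz g GEN ∧ rE (pw g [99]) v = v := by
  obtain ⟨v, h1, h2, h3⟩ := row1 h hZ hU hR (P := Fz g ([99, 19] :: E4)) (fun _ => Fz_tl) (km_ge h hZ hU k hD)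
  have e : rE (pw g ([99] ++ [19])) v = v := Fz_hd h2
  rw [rE_app, Fz_hd (l13 h h3)] at e
  exact ⟨v, h1, h3, e⟩

theorem row2t (hR : dz g R4 = 16) (hY : dz g Zy = 80) (hE : dz g [[9]] = 92) :
    ∃ v, v ≠ 0 ∧ v ∈ Fz g GEN ∧ rE (pw g [99]) v = v := by
  obtain ⟨B, hB, hi⟩ := k.form (Z := E4) (by decide +kernel)
  have a0 := dV h hZ hU
  have a1 := s1_rank h hZ hU hR
  have a2 := k.op_nr n4
  have a3 := d_r h hZ hU
  have a4 : Fz g ([19] :: E4) ≤ Fz g ([5] :: [19] :: E4) := by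
    have b1 : Fz g R4 ≤ Fz g ([4] :: [18] :: E4) := fun _ hv => Fz_mk (Fz_hd (y_s1 h hZ hU hv)) (y_r h hZ hU hv)
    exact Fz_eq (fun _ => Fz_tl) (by rw [d5 h, d6 h, a3]; exact dz_le b1)
  have a5 : 11 ≤ dz g ([99] :: E4) := by
    have b1 : Fz g M0 ≤ Fz g ([99] :: E4) := fun _ hv => Fz_mk (hv _ (by decide)) (ss_le h hZ hU k (q3 k hv))
    have b2 := dz_le b1
    have b3 := tri_num _ (mem5 (k.val (by decide +kernel))) _ (mem5 (k.val (by decide +kernel))) _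
      (mem5 (k.val (by decide +kernel))) (hE ▸ k6 k)
    have e0 := dz_nil (g := g)
    have e1 := k3a k
    have e2 := k3b k
    have e3 := k3c k
    have e4 := k4a k
    have e5 := k4b k
    have e6 := k4c k
    have e7 := k5 k
    have e8 := t1 k
    have e9 := t3 k
    omega
  have a6 := km_ge h hZ hU k hD
  have a7 := k7 k
  obtain ⟨v, h1, h2, h3, h4⟩ := fix_b two_KK hB (k.op_cube n99 (by decide +kernel)) (hi n99)
    ⟨k.op_sq n4 (by decide +kernel), hi n4⟩ ⟨k.op_sq n6 (by decide +kernel), hi n6⟩ ⟨k.op_sq n5 (by decide +kernel), hi n5⟩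
    (k.op_rel n6 n99 n99 n4 (by decide +kernel)) (k.op_rel n4 n6 n6 n4 (by decide +kernel))
    (k.op_rel n5 n99 n99 n5 (by decide +kernel)) (k.op_cube n19 (by decide +kernel)) (k.op_hc n5 n19 (by decide +kernel))
    (fun v hv => (k.op_fix n5 v).2 (Fz_hd (a4 (Fz_mk ((k.op_fix n19 v).1 hv) v.2))))
    (k.op_rel n19 n99 n99 n19 (by decide +kernel)) (by omega) (by rw [k.op_fk]; exact a5)
    (by rw [k.op_fk, k.op_fk2]; omega)
  rw [k.op_fix] at h2 h3 h4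
  have c6 : rE (pw g [6]) v = v := by
    have e := congrArg (fun x => rE x v) (k ([6] ++ [99]) ([99] ++ [4]) (by decide +kernel))
    rwa [rE_app, rE_app, h2, h3, h2] at e
  have c7 : rE (pw g [7]) v = v := by
    have e := congrArg (fun x => rE x v) (k ([7] ++ [99]) ([99] ++ [6]) (by decide +kernel))
    rwa [rE_app, rE_app, h2, c6, h2] at e
  have c18 : rE (pw g [18]) v = v := by rw [h [18] ([4] ++ [5]) (by decide +kernel), rE_app, h4, h3]
  exact ⟨v, fun e => h1 (Subtype.ext e), y_gen h hZ hU (l8 h (Fz_mk c18 v.2)) c6 c7, h2⟩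

end big

end Cfsg.Agent.E82.O8
end

-- part: E82/Mach/C3Data
section
/-!
# The pressure machine: the data for `Sp₆(2)` (helper38)
-/

set_option autoImplicit false
set_option maxRecDepth 100000

namespace Cfsg.Agent.E82.Mach.C3

/-- the simple module of weight `0`, dimension 1 -/
def G0 : List (List (ℕ × ℕ)) :=
  (beta% delta% lq26092fbbe6 fun a b _ _ _ =>
 (a b<|a b<|a b<|a b<|a b<|a b<|a b<|a b<|a b<|a b<|a b<|a b<|b))

/-- a tree of words -/
def p0 : List (ℕ × ℕ) :=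
  []

/-- a tree of words -/
def q0 : List (ℕ × ℕ) :=
  []

/-- the simple module of weight `1`, dimension 6 -/
def G1 : List (List (ℕ × ℕ)) :=
  (beta% delta% lq26092fbbe6 fun a b c _ _ =>
 (a (a (c 0 1)<|a (c 4 3)<|b)<|a (a (c 1 2)<|a (c 5 4)<|b)<|a (a (c 2 5)<|b)<|a (a (c 0 2)<|a (c 5 3)<|b)<|a (a (c 1 5)<|a (c 2 4)<|b)<|a (a (c 0 5)<|a (c 2 3)<|b)<|a (a (c 1 4)<|b)<|a (a (c 0
 4)<|a (c 1 3)<|b)<|a (a (c 0 3)<|b)<|a (a (c 1 0)<|a (c 3 4)<|b)<|a (a (c 2 1)<|a (c 4 5)<|b)<|a (a (c 5 2)<|b)<|b))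

/-- a tree of words -/
def p1 : List (ℕ × ℕ) :=
  [(0, 0), (0, 3), (0, 5), (0, 7), (0, 8)]

/-- a tree of words -/
def q1 : List (ℕ × ℕ) :=
  [(0, 9), (1, 10), (2, 11), (3, 10), (4, 9)]

/-- the simple module of weight `2`, dimension 14 -/
noncomputable def G2 : List (List (ℕ × ℕ)) :=
  (by
  refine (?fq9004 : ((pk61l_v1 (fun i1 => ((fun g1 : Nat → Nat => pk61l_v1 (fun i2 => (_root_.Prod.mk (pk61d_v1 (nat_lit 4) 
    (nat_lit 0xc952db8766631a984432dcb0dca9800a940ddba760daaa87430ccb9750da63c99987420dcbb865) i2) (pk61d_v1 (nat_lit 4) 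
    (nat_lit 0xda630c9998742dcbb76532146532171651b8254219b8755521c836431ac952b8766631da974432) i2))) (g1 i1) (g1 (Nat.succ i1)) List.nil) fun j => (pk61d_v1 (nat_lit 7) 
    (nat_lit 0x4e9505d365ead21b2840380) j))) (nat_lit 0) (nat_lit 12) List.nil) : List (List (ℕ × ℕ)))
    = ?xq9004 → (List (List (ℕ × ℕ)))) ?hq9004; (case hq9004 => (set_option maxRecDepth 1000000 in set_option simprocs false in conv => lhs; reduce; dsimp only)); intro _; exact ?xq9004 : List (List (ℕ × ℕ)))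

/-- a tree of words -/
def p2 : List (ℕ × ℕ) :=
  (beta% delta% lq26092fbbe6 fun a b c _ _ =>
 (a (c 0 1)<|a (c 0 3)<|a (c 0 4)<|a (c 0 5)<|a (c 0 6)<|a (c 0 7)<|a (c 0 8)<|a (c 1 5)<|a (c 1 7)<|a (c 1 8)<|a (c 2 4)<|a (c 3 3)<|a (c 3 7)<|b))

/-- a tree of words -/
def q2 : List (ℕ × ℕ) :=
  (beta% delta% lq26092fbbe6 fun a b c _ _ =>
 (a (c 0 10)<|a (c 1 9)<|a (c 1 11)<|a (c 2 11)<|a (c 3 10)<|a (c 4 10)<|a (c 5 9)<|a (c 6 1)<|a (c 6 9)<|a (c 6 11)<|a (c 7 0)<|a (c 9 11)<|a (c 12 10)<|b))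

/-- the simple module of weight `3`, dimension 64 -/
noncomputable def G3 : List (List (ℕ × ℕ)) :=
  let y0 : List (List (ℕ × ℕ)) := (by
  refine (?fq9005 : (pk61l_v1 (fun i0 => ((fun g0 : Nat → Nat => pk61l_v1 (fun i1 => (_root_.Prod.mk (pk61d_v1 (nat_lit 6) 
    (nat_lit 0x3ee78db4cb2cafbaba679659607de75a5d755140c28a1c6182ffdefadf7df6d74cf1c71c30c2fbadb6daa99a49248e28a181f79c71c71c6db6da69a6596585965965965954cf3ce34c2c92492082071851450c1f3be76d33b2caebaa9a68a279e69648e281e75a6145144d34d24914504103ce34d30c30b2892071041041030c308207fffefbdf7cefbeb9e78df6db5d74cf2c71c2fbada679a28607da64003fffefbdf3cf3cefbefaebaeb9e79e78e38df6db6d74d33cf2c2fb2caebaa9a69a68a289e79e69a59248e38a186081f79d65851244d30b00003cf3cefae78d73b2caebaa9a689e69617d45134d245140b100) i1) (pk61d_v1 (nat_lit 6) 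
    (nat_lit 0x3fefadf7df6d30c6caaaaa99e28648dc71b5924cf3ce20920303ef3cf3beb9e78e39db5e34cf2cb2beeb2baeba66a2b9e796596b9e68a19607e581e95f79d9607de6da65751449145041138d40c2ca28a1c610203ffbdf7dffafb8df6cfdd74cfdcb1c70beebadb7dce6c648f086f7ee79d71bb59b5a6195d6595b5960d2d62485461630dd0980544d24d14103ce30d2cc2ca2482071851041030c20810681315ae56da262c19212648c921f78719e74671b68515a1596175954c34023ce34c04d2c134c04d2ca248248249207186186145103081041d59175cedc31beeb6d91679571b6986995d654d1492091c618507d) i1))) (g0 i0) (g0 (Nat.succ i0)) List.nil) fun j => (pk61d_v1 (nat_lit 9) 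
    (nat_lit 0x50640d2499b44200) j))) (nat_lit 0) (nat_lit 6) List.nil : List (List (ℕ × ℕ)))
    = ?xq9005 → (List (List (ℕ × ℕ)))) ?hq9005; (case hq9005 => (set_option maxRecDepth 1000000 in set_option simprocs false in conv => lhs; reduce; dsimp only)); intro _; exact ?xq9005 : List (List (ℕ × ℕ)))
  (by
  refine (?fq9006 : (fun tl : List (List (ℕ × ℕ)) => pk61l_v1 (fun i0 => ((fun g0 : Nat → Nat => pk61l_v1 (fun i1 => (_root_.Prod.mk (pk61d_v1 (nat_lit 6) 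
    (nat_lit 0x3fffffbdf7cefbefbefaeb8df7df7db5d75d34cf3c71c71c30c2eb6caaaaa8a279e69238e38a286186075c71b69965859348f38c2c9000ffcf3cefbefaebae78df7df6d74cf1c2cb2cb2caeaaaaaaaaa9a279e79a69249248e28a186181e71b6545134d34d24924903cf38e34d30b2040c0ffefbef7df3ae79e79e78e36db5d75d33cf2cb2cb2c6fbefbaeb6ba69a289a59658e281f7df79d75b6585d755140e2ca18003fefadf7df6d31c2caaaaa99e48e285c71a59348f3cc249203fbcf3cefae79e78e38db5d33cb2cafbacaebaebae9a69a279a69659659659648a08207df7de79e75b6995d451345145041038d30b28a287184080ffffbef7df7be77db6d75d34cf2c71c70c2fbeebaeb6db6db689a48e281e75c6da69a65861759659554d309207140) i1) (pk61d_v1 (nat_lit 6) 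
    (nat_lit 0x3680acaf5eba689d14294658e230229f78a81d7ca6da1c66d81d75544d211141141134e30238c38b08a2880471c7187144103082081e65f79e32d74bb6cefcb2c70b6fbaebedb699a07d79648a169955f7607977d76da65561a55b6555d759555128e30b1ce34718a2451c61c618714207edf488fc1cb2aa689d34a74a38a484f3e13e074e30371b6086895944d24d24914043cf30e2c334c0c82481c11441030c207babee78db4cb2caebeba6796595e7607db5d755044e28a1c61c2f7beb7df7db5c74cf0c71c30beeb6db6a9e68a172489c8e185c81f79b69959c71b6966d959a6566165965523cf38d24c2c82492081c614514307feace2bce652caeaa54a269d45259234e149f45e75065834b1145134d245040f38d3042cb10a2480c60841030c207c) i1))) (g0 i0) (g0 (Nat.succ i0)) List.nil) fun j => (pk61d_v1 (nat_lit 9) 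
    (nat_lit 0x61e7cf056a307c00) j))) (nat_lit 0) (nat_lit 6) tl)
    = ?xq9006 → (List (List (ℕ × ℕ)))) ?hq9006; (case hq9006 => (set_option maxRecDepth 1000000 in set_option simprocs false in conv => lhs; reduce; dsimp only)); intro _; exact ?xq9006 y0 : List (List (ℕ × ℕ)))

/-- a tree of words -/
noncomputable def p3 : List (ℕ × ℕ) :=
  (by
  refine (?fq9007 : ((pk61l_v1 (fun i1 => (_root_.Prod.mk (pk61d_v1 (nat_lit 5) 
    (nat_lit 0x56508420e6b58c62d6b529494a5294a0e6318a5290842106318c631084210421084210000000000) i1) (pk61d_v1 (nat_lit 4) 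
    (nat_lit 0x187654887761873764876542988707618753087654287530876543187654310) i1))) (nat_lit 0) (nat_lit 63) List.nil) : List (ℕ × ℕ))
    = ?xq9007 → (List (ℕ × ℕ))) ?hq9007; (case hq9007 => (set_option maxRecDepth 1000000 in set_option simprocs false in conv => lhs; reduce; dsimp only)); intro _; exact ?xq9007 : List (ℕ × ℕ))

/-- a tree of words -/
noncomputable def q3 : List (ℕ × ℕ) :=
  (by
  refine (?fq9008 : ((pk61l_v1 (fun i1 => (_root_.Prod.mk (pk61d_v1 (nat_lit 6) 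
    (nat_lit 0x39e37d2fb6da679e58a18207de71b6da6596586175955555134924514503cf38d34c2ca2482071851040c30c2081000) i1) (pk61d_v1 (nat_lit 4) 
    (nat_lit 0xaaaaaa2bb30b9b10b2b3bb91a099b91a9a0b91a91aa2a9aba2bbab0b91b9aa9) i1))) (nat_lit 0) (nat_lit 63) List.nil) : List (ℕ × ℕ))
    = ?xq9008 → (List (ℕ × ℕ))) ?hq9008; (case hq9008 => (set_option maxRecDepth 1000000 in set_option simprocs false in conv => lhs; reduce; dsimp only)); intro _; exact ?xq9008 : List (ℕ × ℕ))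

/-- the simple module of weight `4`, dimension 8 -/
noncomputable def G4 : List (List (ℕ × ℕ)) :=
  (by
  refine (?fq9009 : ((pk61l_v1 (fun i1 => ((fun g1 : Nat → Nat => pk61l_v1 (fun i2 => (_root_.Prod.mk (pk61d_v1 (nat_lit 3) 
    (nat_lit 0xf59ca3fa8e3c63083dd10ef5) i2) (pk61d_v1 (nat_lit 3) 
    (nat_lit 0x1a2ef568c2aa38b362acfca3) i2))) (g1 i1) (g1 (Nat.succ i1)) List.nil) fun j => (pk61d_v1 (nat_lit 6) 
    (nat_lit 0x2071a61448e30a204080) j))) (nat_lit 0) (nat_lit 12) List.nil) : List (List (ℕ × ℕ)))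
    = ?xq9009 → (List (List (ℕ × ℕ)))) ?hq9009; (case hq9009 => (set_option maxRecDepth 1000000 in conv => lhs; reduce)); intro _; exact ?xq9009 : List (List (ℕ × ℕ)))

/-- a tree of words -/
def p4 : List (ℕ × ℕ) :=
  (beta% delta% lq26092fbbe6 fun a b c _ _ =>
 (a (c 0 2)<|a (c 0 4)<|a (c 0 5)<|a (c 0 6)<|a (c 0 7)<|a (c 0 8)<|a (c 1 7)<|b))

/-- a tree of words -/
def q4 : List (ℕ × ℕ) :=
  (beta% delta% lq26092fbbe6 fun a b c _ _ =>
 (a (c 0 11)<|a (c 1 10)<|a (c 2 9)<|a (c 2 11)<|a (c 3 11)<|a (c 5 10)<|a (c 6 11)<|b))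

/-- the simple module of weight `5`, dimension 48 -/
noncomputable def G5 : List (List (ℕ × ℕ)) :=
  (by
  refine (?fq9010 : ((pk61l_v1 (fun i1 => ((fun g1 : Nat → Nat => pk61l_v1 (fun i2 => (_root_.Prod.mk (pk61d_v1 (nat_lit 6) 
    (nat_lit 0xbedae9a279e79238607df7dd6995954d140f3cf30b2481c71c50c1baaa269648a28a181e79e7585d240e34c28a289206186142b2b96371b6996165145134d349140f38d30b1041030c3081befbeebaeb6db6caeaa689e69648e28607de75c6da6585d6540000befbeeb6cb2caebaeaa689e69648dc6da6575544cd2c0000becb2caebaeaa689e69648dc6da6545144d34d24503ce34c2c40c0beebaeb6caaaaa9a269628a286079c6d961755240a200000b2cb2baaaaa9a269638a071b51451349249140e34b288100befbeeb6db6ba689e79e48e181f7df75b6995d65513c91c0bacaaaaa9a269628a286079c6d85d449249140e34a28a248184080becaebae9a279e79648e17da6544d34d140f3cf34c2c91c3beebaeb6db669648e28607de79e75d75b6585d654e306140) i2) (pk61d_v1 (nat_lit 6) 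
    (nat_lit 0x2eb2aaaaa689a58a28a181e71b61751249245038d28a289206102becae9ae7ae89678e79217da6544d14cf4d034f2cf3091c302fbad9ae92d79dba56ed8d98a181f79775579839d58c1856990d85c25950544d24503ce34c2ca2481c61441030c208105c6c491515e75c34268b04a2481c66055823813061440c20665c6b6695e9237628607de79d7585d654e34630b14a2481c618514206e9e15477d37100cf68c2d82011d614344f0491c40c206964fa637e79a075f91d85f79d59544b1cf38814730524718506da1b4a281729471269110e3582962421921102822040c206ab6ba689e79e48e181f7df75a6565534503cf3cc2c92071c714306fbaaa258a68a485e89e81e7585d240d28e28c246286206142ae56d48d94dc51a4d24503d838458c0d44c43432c40c206c) i2))) (g1 i1) (g1 (Nat.succ i1)) List.nil) fun j => (pk61d_v1 (nat_lit 9) 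
    (nat_lit 0x190b65325908743114884321004000) j))) (nat_lit 0) (nat_lit 12) List.nil) : List (List (ℕ × ℕ)))
    = ?xq9010 → (List (List (ℕ × ℕ)))) ?hq9010; (case hq9010 => (set_option maxRecDepth 1000000 in conv => lhs; reduce)); intro _; exact ?xq9010 : List (List (ℕ × ℕ)))

/-- a tree of words -/
noncomputable def p5 : List (ℕ × ℕ) :=
  (by
  refine (?fq9011 : ((pk61l_v1 (fun i1 => (_root_.Prod.mk (pk61d_v1 (nat_lit 5) 
    (nat_lit 0x41ec5ad4a52527318c5294a42108418c6318c4210821084210000000000) i1) (pk61d_v1 (nat_lit 4) 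
    (nat_lit 0x74761863768870b86187530876542875387654287654320) i1))) (nat_lit 0) (nat_lit 47) List.nil) : List (ℕ × ℕ))
    = ?xq9011 → (List (ℕ × ℕ))) ?hq9011; (case hq9011 => (set_option maxRecDepth 1000000 in set_option simprocs false in conv => lhs; reduce; dsimp only)); intro _; exact ?xq9011 : List (ℕ × ℕ))

/-- a tree of words -/
noncomputable def q5 : List (ℕ × ℕ) :=
  (by
  refine (?fq9012 : ((pk61l_v1 (fun i1 => (_root_.Prod.mk (pk61d_v1 (nat_lit 6) 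
    (nat_lit 0x289e48e286181f79b6596165934d24514503ce34c2cb2ca2081c71c61851440c2041000) i1) (pk61d_v1 (nat_lit 4) 
    (nat_lit 0xbb2bbb1aabbb1aa2b09b91ab2bbb91ab0b91a2b9ababab9) i1))) (nat_lit 0) (nat_lit 47) List.nil) : List (ℕ × ℕ))
    = ?xq9012 → (List (ℕ × ℕ))) ?hq9012; (case hq9012 => (set_option maxRecDepth 1000000 in set_option simprocs false in conv => lhs; reduce; dsimp only)); intro _; exact ?xq9012 : List (ℕ × ℕ))

/-- the simple module of weight `6`, dimension 112 -/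
noncomputable def G6 : List (List (ℕ × ℕ)) :=
  let y0 : List (List (ℕ × ℕ)) := (by
  refine (?fq9013 : (pk61l_v1 (fun i0 => ((fun g0 : Nat → Nat => pk61l_v1 (fun i1 => (_root_.Prod.mk (pk61d_v1 (nat_lit 7) 
    (nat_lit 0xdfb766bd7af467cb931e3c786fdebb76edab35aad4a74a952a3468ce9b2e5499326345850603f7cf9f3d7af5c376cd593160bd72e5cb56ad54a53a64a952a24278e9c3668d1a3264c962a4c911224478d182c58b101c284060c181ddb7569d19b366cb93162c586e5bb566c57af5ead4a952850a13e7cf9d3664c993264c992e5cb95121c280f1dba72e1b3468d19b366c98b05eb162c56ad5aa52911a24280f9f3e74e1c3860c182e5cb962a50a142850a14264c9921c345090e183060a10102040705fbd76e5ab15aad2a13a4488f1a345890e14180fdf3d78eddb86edd9b05eb5428509d3a74c993254a95224488d122448501f3c74e1b3464c162040810203c78f1e3c70e1c3468d183060b162c50a12204070c14203dfbf7eeddbb6eddbb366cd7af5ead5ab4e9d3a3468cf9f3e6cd9b2e5cb93264c78f1e2c58b0e1c382fdebb72ddab362bd6ab529d2a3427ce9b325ca93223c68b121c28301fbe7af1dba72e1bb66ad19b262c17ae5ab15aa5200000)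 i1) (pk61d_v1 (nat_lit 7) 
    (nat_lit 0x1bb76edbb3569cd9b365c98b060c17ef5cb762c57af62b55af529d09f3264c972a44789121c3890a0c380fde3b74e5a3466cda3262cd82f58ad428509d324468101f3e80f1d3e70d982e50a14264880e1c3868c14243060c1420201bf66fd7bf6e9cfaf5e8c98ef5ebb76fdeb96eeddb566edaab76cd5a54aedab356a509f4a74da31e4458d0633f8af9ec584e634076d5f377af9c317ad97ae5a993254a9d32446952a2429511d4a84e9a34951213a70c173458a99203c78c163c68a102c587080f76dd9af568cd97263c58755bd3a2ce7cd5f2e4a94f1d1c58a7e1c33664b95273588996b42c9560e3a4fb150793f0ce7135a4c64c65ca5d2562ac53de3b47866b86e866333f2d81c94bcdc95a6561756a8aa9284c9118d147c4863a1401b05f8c7cf45bc7425db914e1b076ed443466199300ac57845cb41ac560952902a13a64a911a24280f9e3a70d9a3260b962a50992224080f1e3870d183460b1624509141c4071018305081420306081010322390) i1))) (g0 i0) (g0 (Nat.succ i0)) List.nil) fun j => (pk61d_v1 (nat_lit 9) 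
    (nat_lit 0x1a8a0328d000) j))) (nat_lit 0) (nat_lit 4) List.nil : List (List (ℕ × ℕ)))
    = ?xq9013 → (List (List (ℕ × ℕ)))) ?hq9013; (case hq9013 => (set_option maxRecDepth 1000000 in set_option simprocs false in conv => lhs; reduce; dsimp only)); intro _; exact ?xq9013 : List (List (ℕ × ℕ)))
  let y1 : List (List (ℕ × ℕ)) := (by
  refine (?fq9014 : (fun tl : List (List (ℕ × ℕ)) => pk61l_v1 (fun i0 => ((fun g0 : Nat → Nat => pk61l_v1 (fun i1 => (_root_.Prod.mk (pk61d_v1 (nat_lit 7) 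
    (nat_lit 0x37efdfbf7eeddbb6eddbb366cd7af5ead3a7467cf9b2e4c783060bf7efdebd7aeddbb72e5cb76ad5ab362bd6ab529d2a3427488f1e3458b121c28301fbe7ae9cb96cd5ab464c57284e992a44480f1d3460b000000000dfbf7eedbb35ead3a33e0c182fdfbf7af5ebb76edcb76acd8af5aad4a74a8c891223c78f1a3468b162c4870a0c07ef9ebc76e9cb86ed9aa850a13a74e993264a952a446890a03e78e9c3668c90204078f1e3868c16284880e00000dfbb76eddbb6edd9ab56ad3a74e8cf9b366cd9b2e5c98b162c383060bf7ae5bb76ecd8b162bd7af5aad4a7427cf9f3664c992e5488f16244870a13f78edd3970d5a3466c992f58ad5284e8d0a03e78e172a5098000037eeddbb6ecd5a73e6cb83060c183060bf7efdeb972e5bb76ed59b162c57ad5ab53a13e74d91224478f1e3458912243870e14180fde3b74e5bb568cd93050a142850a14274e9d32448911a346890a04080f9e3c78d982e58a90204078e1c3868c14244060a00000) i1) (pk61d_v1 (nat_lit 7) 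
    (nat_lit 0x2cb66a540d76852a32274d892a2b88ac9ead54d53325ca930d00680782bf3a11e9a06e8c022ed8b012acca305e4c92d22ad48a46244210e7c31c36142190608b820254094264888e1a305890e1828406080db74e4b82d19f0e6cb931e2c5870d8af32b5497569caa5464d09f3a6cc992e54b95264bb74ade3958ddb2970d553466c98b05eb96ac56ad62a52a55203e50f1c2674d9234648982e58a94284c913244488a12084070218284060810103ab4e2bb7213f442ed3d7d4dc19aad4d51a54192f2c0e72d5d29511932138f8c9513f422debb3c21d1c0edcd36325979506b559302a488f4c9520c1a8858b362039d3268c040a5818324048901e3058a122038406080de8a975eacb87463c3931e2c372dd6a73a6c9b5668d2a73a4d39b268d1a13e54b9d364c9952a4c97edd6c16ab9ebe78c953a60a5c2e6cb552f52c56ae58ad529488cf1b2c548a24264d1b2c44d952264c982e489962a44892244488c100c5890a04383080418203b33e3) i1))) (g0 i0) (g0 (Nat.succ i0)) List.nil) fun j => (pk61d_v1 (nat_lit 9) 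
    (nat_lit 0x1a2a0360ec00) j))) (nat_lit 0) (nat_lit 4) tl)
    = ?xq9014 → (List (List (ℕ × ℕ)))) ?hq9014; (case hq9014 => (set_option maxRecDepth 1000000 in set_option simprocs false in conv => lhs; reduce; dsimp only)); intro _; exact ?xq9014 y0 : List (List (ℕ × ℕ)))
  (by
  refine (?fq9015 : (fun tl : List (List (ℕ × ℕ)) => pk61l_v1 (fun i0 => ((fun g0 : Nat → Nat => pk61l_v1 (fun i1 => (_root_.Prod.mk (pk61d_v1 (nat_lit 7) 
    (nat_lit 0x37efdfb766cd7af5ebd7ab4e8d1a33e7cf97264c78f1e3c78b0e1c37ef5dbb76ddab366cd6ab529d2a54a8d1a33e74d9b365ca93264c78d160c180f9f3d78e5c376cd58b160b972d58a94a64a8d09d3668c972a48880ddbb76dd9ab4e6cd9b2e4c583060bf7ae5bb162c57af5eb55a94e84f993264b95223c489121c3870a0c07ef1dba72d1a3466cd9b262c17ac56a14284e99223408101f3e7cf1d386cc172850a13244070e1c3460a12183060a10100dfbf7edd9af5ebd3a33e4c77ef5ebd76eddbb76eddb96ed5ab566cd9ab56ad4a54a951a13e74d911e3468d162c5850603f7cf9f3d7af5db970ddb3562bd72d4e993264a952a54a952a44689122428509d3a74e1a3468c982e58a901e3c78d182c58b1420384060376dd9af56ad3a3467cd9b365cb97264c98f1e3c58b162c5870e1c386e5ab15eb55a94e951a14284f9d3a74d993264b972e54a95264c9890a0be78f1db870dda3364c582f5cb562c56a95294888f9c3664c16284c911)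 i1) (pk61d_v1 (nat_lit 7) 
    (nat_lit 0x2fc75112e43b5060241d5ec54787eb3940d28339cc58180d325ac28a24464c421a4808c720767dd373a29b1b12ccc302e18a2b5248128209d20e1c8868c3e80e0a1278c060c58284284c1101e3868a12203860a080e0dbb35ebd7a33e5c98f1e3c37ef5dbb76d59ad56954a746952a34674d972a4c9931a2c282fa03f7af9f3d7ae1bb66ac98ae60bd6ae5cb56aa529d3254a951213c74d1c3664d1a3264b152648891223c68c162c5880e14203060c0efdba7366d5a3262cd8b2e2c362e5baf6acd5a9427ccaf5ea5099527cca13e64c9d365ca99325cb871203b6709cb468f19ba70c56365ead9b458c15b258ad529409119f4484e9c305ca1f3e70c14385ca182e50a162a4c914284c98e1a28306121c2020c1410203bb05fbd76dc88f66345b111456849eac14d49f259ef1da32135c37423e446510d3a680fd2bd76908236e887a1667c730383579b18b4c8b509d32546408211e3d00e3c7468c342cb8a1254407203c70d182c5080c14203) i1))) (g0 i0) (g0 (Nat.succ i0)) List.nil) fun j => (pk61d_v1 (nat_lit 9) 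
    (nat_lit 0x1a2a0360c400) j))) (nat_lit 0) (nat_lit 4) tl)
    = ?xq9015 → (List (List (ℕ × ℕ)))) ?hq9015; (case hq9015 => (set_option maxRecDepth 1000000 in set_option simprocs false in conv => lhs; reduce; dsimp only)); intro _; exact ?xq9015 y1 : List (List (ℕ × ℕ)))

/-- a tree of words -/
noncomputable def p6 : List (ℕ × ℕ) :=
  (by
  refine (?fq9016 : ((pk61l_v1 (fun i1 => (_root_.Prod.mk (pk61d_v1 (nat_lit 6) 
    (nat_lit 0x2db2aa638e28a18207de79d75d71c71c6996586175d65965944d34d249249145141041040f3cf38d30c30b2ca28a2892492492471861861451451441041041030c30c30c2082082082041041041000000000000) i1) (pk61d_v1 (nat_lit 4) 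
    (nat_lit 0x873ab7865b98878628631887618676418870876187387654875988708685308765438a870b8761b87630876542876543187654287654321) i1))) (nat_lit 0) (nat_lit 111) List.nil) : List (ℕ × ℕ))
    = ?xq9016 → (List (ℕ × ℕ))) ?hq9016; (case hq9016 => (set_option maxRecDepth 1000000 in set_option simprocs false in conv => lhs; reduce; dsimp only)); intro _; exact ?xq9016 : List (ℕ × ℕ))

/-- a tree of words -/
noncomputable def q6 : List (ℕ × ℕ) :=
  (by
  refine (?fq9017 : ((pk61l_v1 (fun i1 => (_root_.Prod.mk (pk61d_v1 (nat_lit 7) 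
    (nat_lit 0x156a52a53e74d992a4c78d162c48912244850603e7cf5ebc78edd3972ddbb66cd9ab568cd8b056ad5a950a13a54a9522346890a0407cf1c3870d9a3464c182e5cb952a50910204078e1c3868d1a3058a142448810203860c1428508101820204000) i1) (pk61d_v1 (nat_lit 4) 
    (nat_lit 0xaba22b2bbabba2b9631aa9a242b3bbb1b1b31a2baaba42ba2bb91aa2aab3b0ba0942bb9b91a2bbba09b91b91a2b0b9b91aa2b91a2bab9ba) i1))) (nat_lit 0) (nat_lit 111) List.nil) : List (ℕ × ℕ))
    = ?xq9017 → (List (ℕ × ℕ))) ?hq9017; (case hq9017 => (set_option maxRecDepth 1000000 in conv => lhs; reduce)); intro _; exact ?xq9017 : List (ℕ × ℕ))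

/-- a tree of words -/
noncomputable def pc : List (ℕ × ℕ) :=
  (by
  refine (?fq9018 : ((pk61l_v1 (fun i1 => (_root_.Prod.mk (pk61d_v1 (nat_lit 8) 
    (nat_lit 0x9d9c9c9b9a999897969695949291919190908f8d8a898787868584848383818180807f7e7e7e7d7c7b7b7979777777777676767574727171706f6d6c6c6c6c6b6a6a69696867676666646463626161616161605e5e5b5b5b5a5a595757575555545252525150504f4e4e4d4d4d4c4c4c4b4a4a49484848484847464645444443424140403f3e3c3c3c3b3a3a39393938383737373636363333323130302f2f2f2e2e2d2d2d2c2c2c2b2b2b2b2a292929262625252422222020201f1e1e1e1d1d1d1c1b1b1a1918181717171716151514141312121211111010100f0e0e0d0c0c0c0b0b0a0908080807070606050404040302020101000000) i1) (pk61d_v1 (nat_lit 4) 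
    (nat_lit 0xab3bab0ab3b04a42a2bbb9a4b042b3b9b3bb91a2b1b1b931a52baab3b04a542bb3a2ba2b342bbb9631aa2a42b3bba0b09ba0942bb9b96b914b09b9631aa2ba2abab3b0ba0942b30b9b91b91a22b42ba0b9b96b91b961ab91a2b3bb0ba09b91b91aa22bb9b961aa2a22ba0b9b91aa2bb91a2bbb91a2b0ab91ab9baba9) i1))) (nat_lit 0) (nat_lit 248) List.nil) : List (ℕ × ℕ))
    = ?xq9018 → (List (ℕ × ℕ))) ?hq9018; (case hq9018 => (set_option maxRecDepth 1000000 in conv => lhs; reduce)); intro _; exact ?xq9018 : List (ℕ × ℕ))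

/-- a tree of words -/
noncomputable def pv : List (ℕ × ℕ) :=
  (by
  refine (?fq9019 : ((pk61l_v1 (fun i1 => (_root_.Prod.mk (pk61d_v1 (nat_lit 7) 
    (nat_lit 0x61c183060c17aeddb96ed5ab56ad5ab162bd6ab4e9d2a54a951a3468d0a13e74e9b3664c993254993223c78f1a3468d121c3850a14283060c081020407efdfbd78f1e3b76edd3a74e9cb972e5cb970e1c366cd5a3366cd93160c17af5ebd7ae5cb972e5ab162b56a952a52a54a952a142850a13a74e9d3a74c952a44891223468d1a2448912242850a1407cf1e3c74e9d3a70e1c3870d9b366cd9a3468d1a3260b972e58b162a54a952a50a142850a13264c993264891224489101e3c78e1c3870e1a3468d1a3060c183060b162c58b162c50a142850a12203870e1c3060c183050a142850a142040810204060c183060c182040810204081010204081020408000000000000000) i1) (pk61d_v1 (nat_lit 4) 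
    (nat_lit 0x876548876887654373aa4b8ba87b862a5bb887b8628876b8676418878761873876548758a87b868753876543a5373aaa4149b8ba870b86205b9b8870b8761b8652b876319a8a8709761b8650764198870876187530876548753098870b86875308765428765438765428a87b8761b8763876542876543187654298a870b8761b87653087654287654318765432087654321876543210) i1))) (nat_lit 0) (nat_lit 301) List.nil) : List (ℕ × ℕ))
    = ?xq9019 → (List (ℕ × ℕ))) ?hq9019; (case hq9019 => (set_option maxRecDepth 1000000 in set_option simprocs false in conv => lhs; reduce; dsimp only)); intro _; exact ?xq9019 : List (ℕ × ℕ))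

/-- the type -/
noncomputable def ty : Ty :=
  (by
  refine (?fq9020 : ((_root_.Cfsg.Agent.E82.Mach.Ty.mk (nat_lit 3) (nat_lit 9) (pk61l_v1 (fun i1 => (pk61l_v1 (fun i2 => (_root_.Prod.mk ((fun g2 : Nat → Nat => pk61l_v1 (fun i3 => (pk61d_v1 (nat_lit 4) 
    (nat_lit 0x876853641310875642543020876765443121) i3)) (g2 i2) (g2 (Nat.succ i2)) List.nil) fun j => (pk61d_v1 (nat_lit 6) 
    (nat_lit 0x9238a179b69a6585d549140e34d309207144081000) j)) ((fun g2 : Nat → Nat => pk61l_v1 (fun i3 => (pk61d_v1 (nat_lit 4) 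
    (nat_lit 0x876548536410876754364230878765543231) i3)) (g2 i2) (g2 (Nat.succ i2)) List.nil) fun j => (pk61d_v1 (nat_lit 6) 
    (nat_lit 0x9238a181f71c6585d655349138e30b2871840c2000) j)))) (Nat.mul (nat_lit 9) i1) (Nat.mul (nat_lit 9) (Nat.succ i1)) List.nil)) (nat_lit 0) (nat_lit 3) List.nil)) : Ty)
    = ?xq9020 → (Ty)) ?hq9020; (case hq9020 => (set_option maxRecDepth 1000000 in conv => lhs; reduce)); intro _; exact ?xq9020 : Ty)

/-- the positive chain -/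
noncomputable def cpos : List (List ℕ × List ℕ × List (List ℕ)) :=
  (by
  refine (?fq9021 : ((pk61l_v1 (fun i1 => (_root_.Prod.mk ((fun g1 : Nat → Nat => pk61l_v1 (fun i2 => (pk61d_v1 (nat_lit 4) 
    (nat_lit 0x91aba91061aba9aba611aba12ba9ab922bab2a9a9ba9) i2)) (g1 i1) (g1 (Nat.succ i1)) List.nil) fun j => (pk61d_v1 (nat_lit 6) 
    (nat_lit 0xb646543070c2040) j)) (_root_.Prod.mk List.nil ((fun g1 : Nat → Nat => pk61l_v1 (fun i2 => ((fun g2 : Nat → Nat => pk61l_v1 (fun i3 => (pk61d_v1 (nat_lit 3) 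
    (nat_lit 0x10886888d162c68d43595a310fbeb23450) i3)) (g2 i2) (g2 (Nat.succ i2)) List.nil) fun j => (pk61d_v1 (nat_lit 6) 
    (nat_lit 0x2eb6caeaa689e69648e286079d71b6995955134503cc2ca1c6103080) j))) (g1 i1) (g1 (Nat.succ i1)) List.nil) fun j => (pk61d_v1 (nat_lit 6) 
    (nat_lit 0x9248e179a54f200) j))))) (nat_lit 0) (nat_lit 9) List.nil) : List (List ℕ × List ℕ × List (List ℕ)))
    = ?xq9021 → (List (List ℕ × List ℕ × List (List ℕ)))) ?hq9021; (case hq9021 => (set_option maxRecDepth 1000000 in conv => lhs; reduce)); intro _; exact ?xq9021 : List (List ℕ × List ℕ × List (List ℕ)))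

/-- the negative chain -/
def cneg : List (List ℕ × List ℕ × List (List ℕ)) :=
  (beta% delta% lq26092fbbe6 fun a b c _ _ =>
 (a (c (a 0<|b)<|c b (a (a 2<|a 0<|b)<|a (a 1<|b)<|a (a 2<|b)<|a (a 4<|a 3<|b)<|a (a 4<|b)<|a (a 7<|a 6<|a 5<|b)<|a (a 6<|b)<|a (a 7<|b)<|b))<|a (c (a 1<|b)<|c b (a (a 4<|a 2<|a 0<|b)<|a (a 1<|b)<|a (a 2<|b)<|a (a 5<|a 3<|b)<|a (a 4<|b)<|a (a 5<|b)<|
 a (a 6<|b)<|b))<|a (c (a 2<|b)<|c b (a (a 5<|a 2<|a 0<|b)<|a (a 1<|b)<|a (a 2<|b)<|a (a 3<|b)<|a (a 4<|b)<|a (a 5<|b)<|b))<|a (c (a 3<|b)<|c b (a (a 3<|a 0<|b)<|a (a 1<|b)<|a (a 2<|b)<|a (a 3<|b)<|a (a 4<|b)<|b))<|a (c (a 4<|b)<|c b (a (a 0<|b)<|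
 a (a 1<|b)<|a (a 2<|b)<|a (a 3<|b)<|b))<|a (c (a 5<|b)<|c b (a (a 0<|b)<|a (a 1<|b)<|a (a 2<|b)<|b))<|a (c (a 6<|b)<|c b (a (a 0<|b)<|a (a 1<|b)<|b))<|a (c (a 7<|b)<|c b (a (a 0<|b)<|b))<|a (c (a 8<|b)<|c b b)<|b))

/-- stability -/
noncomputable def stab : List (List (List (List ℕ × List ℕ × List ℕ))) :=
  (by
  refine (?fq9023 : ((pk61l_v1 (fun i1 => (pk61l_v1 (fun i2 => (pk61l_v1 (fun i3 => (_root_.Prod.mk ((fun g3 : Nat → Nat => pk61l_v1 (fun i4 => (pk61d_v1 (nat_lit 4) 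
    (nat_lit 0x2b091aba9102091aba9102b61aba9aba61261aba9aba612b1aba121aba12b2ba9ab9222ba9ab922b2bab222bab22ba9a92a9a92bb2b2ba2a2b9291a091aba9101091aba9101a61aba9aba61161aba9aba611a1aba111aba11a2ba9ab9212ba9ab921a2bab212bab21aa9a91a9a91ab1b1aa1a1a91909091aba9100091aba9100961aba9aba61061aba9aba61091aba101aba1092ba9ab9202ba9ab92092bab202bab209a9a90a9a909b0b09a0a09909) i4)) (g3 i3) (g3 (Nat.succ i3)) List.nil) fun j => (pk61d_v1 (nat_lit 9) 
    (nat_lit 0x57ea94a9ecc655248d44615047f3e5ecf478bbdd8ea6fb5590bc5aabd4a9c4aa3d1284409fcf87a3b9d4d4602991c803a1809c401a0a03c180a038140400) j)) (_root_.Prod.mk ((fun g3 : Nat → Nat => pk61l_v1 (fun i4 => (pk61d_v1 (nat_lit 4) 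
    (nat_lit 0x2b22b22b22b22b22b222b2b22b21a11a11a11a11a11a11a111a1a1090090090090090090090090009) i4)) (g3 i3) (g3 (Nat.succ i3)) List.nil) fun j => (pk61d_v1 (nat_lit 7) 
    (nat_lit 0x1467ce992e4c88d161c280fdf3c74e5bb668cd8b05cb55aa509d2a4448501e386cc982c54992203c68c1424386080c100) j)) ((fun g3 : Nat → Nat => pk61l_v1 (fun i4 => (pk61d_v1 (nat_lit 4) 
    (nat_lit 0x887766232232641641534100887575121121754430306230060060778654545431312231) i4)) (g3 i3) (g3 (Nat.succ i3)) List.nil) fun j => (pk61d_v1 (nat_lit 7) 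
    (nat_lit 0x1223c68b121c27ef1cb66ad1a3466c98b05eb962a4e911a24280f1c3668d1a3260a92224078e18284880c101820200000) j))))) (Nat.mul (nat_lit 2) i2) (Nat.mul (nat_lit 2) (Nat.succ i2)) List.nil)) (Nat.mul (nat_lit 9) i1) (Nat.mul (nat_lit 9) (Nat.succ i1)) List.nil)) (nat_lit 0) (nat_lit 3) List.nil) : List (List (List (List ℕ × List ℕ × List ℕ))))
    = ?xq9023 → (List (List (List (List ℕ × List ℕ × List ℕ))))) ?hq9023; (case hq9023 => (set_option maxRecDepth 1000000 in conv => lhs; reduce)); intro _; exact ?xq9023 : List (List (List (List ℕ × List ℕ × List ℕ))))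

/-- the rules -/
noncomputable def rules : List ((List ℕ × List ℕ) × List (List ℕ × List ℕ × List ℕ)) :=
  (by
  refine (?fq9024 : ((pk61l_v1 (fun i1 => (_root_.Prod.mk (_root_.Prod.mk ((fun g1 : Nat → Nat => pk61l_v1 (fun i2 => (pk61d_v1 (nat_lit 2) 
    (nat_lit 0x669928444a50) i2)) (g1 i1) (g1 (Nat.succ i1)) List.nil) fun j => (pk61d_v1 (nat_lit 5) 
    (nat_lit 0x62907312620800) j)) ((fun g1 : Nat → Nat => pk61l_v1 (fun i2 => (pk61d_v1 (nat_lit 2) 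
    (nat_lit 0x2659a084464) i2)) (g1 i1) (g1 (Nat.succ i1)) List.nil) fun j => (pk61d_v1 (nat_lit 5) 
    (nat_lit 0x562d5a4c310400) j))) ((fun g1 : Nat → Nat => pk61l_v1 (fun i2 => (_root_.Prod.mk ((fun g2 : Nat → Nat => pk61l_v1 (fun i3 => (pk61d_v1 (nat_lit 4) 
    (nat_lit 0x1a2b1a2b12b1a2b1a21a2b121a2b1a2b12b12b12b1a212b1212b1a2b1a212b1a21a21a2121a21a2b1212b121a21212122b1a2b1a21a2b1a2b12b1a212b1a2b1a21a21a21a2b121a2121a2b1a2b121a2b12b12b1212b12b1a2121a212b1212121092b02b092022b092092b0201a091a1091a1a01a101a1a09110911a01101091a0901a09091090109091a001a009100102b2b2b2221a1a1a111090909000) i3)) (g2 i2) (g2 (Nat.succ i2)) List.nil) fun j => (pk61d_v1 (nat_lit 9) 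
    (nat_lit 0x4ee672c92c7e31128641e00fa7a3bdd2e46fb6da6cc62afd70b25629d409a4a23d12843f9ecee74389bcd6683298cba582993c9446210fc7234178ac4c220f06c2e14090381609028080000) j)) (_root_.Prod.mk ((fun g2 : Nat → Nat => pk61l_v1 (fun i3 => (pk61d_v1 (nat_lit 4) 
    (nat_lit 0x2b1a2b1a2b1a2b12b1212b121a21a2121a21a212b1a212b121a2b1a2b1a212b12b12121a21a2b12b1a21a2b12b1a21211a2b1a2b1a2b1a21a2121a212b12b1212b12b121a2b121a212b1a2b1a2b121a21a21212b12b1a21a2b12b1a21a2b12122b092b020920092b09202b02091a09091a0010010901a09091001a0091091a091a1a091101101a1091a1a0110911a01a22b22b11a11a009009) i3)) (g2 i2) (g2 (Nat.succ i2)) List.nil) fun j => (pk61d_v1 (nat_lit 9) 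
    (nat_lit 0x4ca55238f462270d83c09f6f577ba9c8dd6b34994c35f2e166ad53a89369547a29087d3b1c8dc6b34198c45f2e168a84f26120863f1d8d8602b140903e1b0b848220f0602c12060280c0000) j)) ((fun g2 : Nat → Nat => pk61l_v1 (fun i3 => (pk61d_v1 (nat_lit 3) 
    (nat_lit 0x1a445438a39631158c45698a39445431628c58a2c120821900820a489200) i3)) (g2 i2) (g2 (Nat.succ i2)) List.nil) fun j => (pk61d_v1 (nat_lit 7) 
    (nat_lit 0x13e6cb931e2c38305fbd76edcb76ad59b15eb55a94e9d2a34284f9d366cd9b366cd9b366cd193058a9426488901e3460b14244070c142030404000) j))))) (g1 i1) (g1 (Nat.succ i1)) List.nil) fun j => (pk61d_v1 (nat_lit 7) 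
    (nat_lit 0x1099223c6890a0e10080) j)))) (nat_lit 0) (nat_lit 10) List.nil) : List ((List ℕ × List ℕ) × List (List ℕ × List ℕ × List ℕ)))
    = ?xq9024 → (List ((List ℕ × List ℕ) × List (List ℕ × List ℕ × List ℕ)))) ?hq9024; (case hq9024 => (set_option maxRecDepth 1000000 in conv => lhs; reduce)); intro _; exact ?xq9024 : List ((List ℕ × List ℕ) × List (List ℕ × List ℕ × List ℕ)))

/-- the normal forms -/
noncomputable def tab : List (List ℕ × List (ℕ × ℕ)) :=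
  (by
  refine (?fq9025 : ((pk61l_v1 (fun i1 => (_root_.Prod.mk ((fun g1 : Nat → Nat => pk61l_v1 (fun i2 => (pk61d_v1 (nat_lit 2) 
    (nat_lit 0x12499249864984925926492492619244929266494922491921261249259249924248661904992666449262419129a465224612590864) i2)) (g1 i1) (g1 (Nat.succ i1)) List.nil) fun j => (pk61d_v1 (nat_lit 8) 
    (nat_lit 0xd8cfc7bfb7b0a9a29b948e88827c76706a65605b56514c47423e3a36322e2a26221f1c191613100d0b0907050302010000) j)) (pk61l_v1 (fun i2 => (_root_.Prod.mk (pk61d_v1 (nat_lit 6) 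
    (nat_lit 0xbefbeebafb6fb6fb2caeeaeeaaca69b6da289ec9e6a6bae5964aa4a63a22a228619e782099f95e95e76192471c6e36da6a28a06616205df5d659e79c55d51c4da6db4926916506103d65d748e58d54c50c4cb48a45040924f20e1cd30c24614b14a1090c8147086144043081) i2) (pk61d_v1 (nat_lit 69) 
    (nat_lit 0x8098a230d0120ce03000e1294261200411c006288c340483380c00308461a02419c06000005284c240082380000288261200411c000008c340483380c0000000304a619408000000004c240082380000000002986502000000000014232810000000000061118050000000000000ca040000000000000620200000000000002300a00000000000010405000000000000042030000000000000000200000000000000000c00000000000000005000000000000000018000000000000000080000000000000000200000000000000000) (pk61d_v1 (nat_lit 5) 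
    (nat_lit 0x1c2e38546ea00561ba8014c7088052180e37440290c07009e301c6d28181009e301c6b28181180e35140908040180e35140908040198a06040200c07198a04840200c07008030140808040180a02046038040180a01000008000) i2)))) (Nat.mul (nat_lit 3) i1) (Nat.mul (nat_lit 3) (Nat.succ i1)) List.nil))) (nat_lit 0) (nat_lit 48) List.nil) : List (List ℕ × List (ℕ × ℕ)))
    = ?xq9025 → (List (List ℕ × List (ℕ × ℕ)))) ?hq9025; (case hq9025 => (set_option maxRecDepth 1000000 in set_option simprocs false in conv => lhs; reduce; dsimp only)); intro _; exact ?xq9025 : List (List ℕ × List (ℕ × ℕ)))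

/-- the certificates -/
noncomputable def ex : Ex :=
  ⟨cpos, cneg, stab, rules, tab⟩

/-- the classes : `c0 c1 c2`, the six products, `z`, the elements of order 9, 7, 5 -/
def C : Cls :=
  (by
  refine (?fq9026 : ((_root_.Cfsg.Agent.E82.Mach.Cls.mk (pk61l_v1 (fun i1 => (_root_.Prod.mk ((fun g1 : Nat → Nat => pk61l_v1 (fun i2 => (pk61d_v1 (nat_lit 4) 
    (nat_lit 0x14ab392a9a34b9a34b9a34b9a34b4bab1a4142ba4ba1b8091ab6a9102b8091aba91071aba9ab3a9710761aba97aba9102b61aba18091aba910) i2)) (g1 i1) (g1 (Nat.succ i1)) List.nil) fun j => (pk61d_v1 (nat_lit 7) 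
    (nat_lit 0x396ed596b4e8ce97202440500) j)) (pk61d_v1 (nat_lit 4) 
    (nat_lit 0x5793333333333) i1))) (nat_lit 0) (nat_lit 13) List.nil) (pk61l_v1 (fun i1 => (pk61d_v1 (nat_lit 4) 
    (nat_lit 0x392a) i1)) (nat_lit 0) (nat_lit 4) List.nil) (pk61l_v1 (fun i1 => (nat_lit 11)) (nat_lit 0) (nat_lit 1) List.nil) (pk61l_v1 (fun i1 => ((fun g1 : Nat → Nat => pk61l_v1 (fun i2 => (pk61f_v1 (pk61d_v1 (nat_lit 1) 
    (nat_lit 0x155555555028140aa552a95488443) i2) fun t2_11 => (pk61c (Nat.div t2_11 (nat_lit 1)) _root_.Bool.false fun _ => _root_.Bool.true))) (g1 i1) (g1 (Nat.succ i1)) List.nil) fun j => (pk61d_v1 (nat_lit 7) 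
    (nat_lit 0x38d37050100) j))) (nat_lit 0) (nat_lit 5) List.nil)) : Cls)
    = ?xq9026 → (Cls)) ?hq9026; (case hq9026 => (set_option maxRecDepth 1000000 in set_option simprocs false in conv => lhs; reduce; dsimp only)); intro _; exact ?xq9026 : Cls)

/-- the letters as words in the generators -/
noncomputable def ws : List (List Bool) :=
  (by
  refine (?fq9027 : ((pk61l_v1 (fun i1 => ((fun g1 : Nat → Nat => pk61l_v1 (fun i2 => (pk61f_v1 (pk61d_v1 (nat_lit 1) 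
    (nat_lit 0x3129552a8445024504a410205509448a808521512950920aa12891552292890a4102122aa5288548105222) i2) fun t2_2 => (pk61c (Nat.div t2_2 (nat_lit 1)) _root_.Bool.false fun _ => _root_.Bool.true))) (g1 i1) (g1 (Nat.succ i1)) List.nil) fun j => (pk61d_v1 (nat_lit 9) 
    (nat_lit 0x156aacc622f7692fd407b2f9144c00) j))) (nat_lit 0) (nat_lit 12) List.nil) : List (List Bool))
    = ?xq9027 → (List (List Bool))) ?hq9027; (case hq9027 => (set_option maxRecDepth 1000000 in set_option simprocs false in conv => lhs; reduce; dsimp only)); intro _; exact ?xq9027 : List (List Bool))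

/-- the dimensions of the fixed spaces -/
noncomputable def rows : List (List ℕ) :=
  (by
  refine (?fq9028 : ((pk61l_v1 (fun i1 => (pk61l_v1 (fun i2 => (pk61d_v1 (nat_lit 7) 
    (nat_lit 0x3818203112448912244881020602030624408102040808102040004001040810204080000080305062050a142850a1830607020408404081020408183060c08000000810204081040810081020408102040810204081) i2)) (Nat.mul (nat_lit 14) i1) (Nat.mul (nat_lit 14) (Nat.succ i1)) List.nil)) (nat_lit 0) (nat_lit 7) List.nil) : List (List ℕ))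
    = ?xq9028 → (List (List ℕ))) ?hq9028; (case hq9028 => (set_option maxRecDepth 1000000 in set_option simprocs false in conv => lhs; reduce; dsimp only)); intro _; exact ?xq9028 : List (List ℕ))

/-- the dimensions of the spaces of solutions of the Fox equations -/
def zs : List ℕ :=
  [0, 1, 2, 10, 2, 7, 16]

/-- the transvections -/
noncomputable def tw : List (List ℕ) :=
  (by
  refine (?fq9029 : ((pk61l_v1 (fun i1 => ((fun g1 : Nat → Nat => pk61l_v1 (fun i2 => (pk61d_v1 (nat_lit 4) 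
    (nat_lit 0x97a2ba972a04ba4009a4ba9402b04210159aba9511a2ba5210091a2ba9210012109a4ba94a4ba4a96aba96a2b42191a2ba9211a2ba210159aba951012159aba95a52ba52509aba9502b83239a2ba9231a04ba401309a2ba92308529a2ba92a2ba209a2ba9202b291a4ba9411a4ba41091a4ba9410297aba9706aba60096aba960b0610971aba97161aba76100961aba961006096aba966aba6097aba970b61961aba96161aba610971aba9710689aba98a5ba5809aba980b83891aba9811aba8108091aba981089aba9aba09aba90b91aba911aba1091aba910) i2)) (g1 i1) (g1 (Nat.succ i1)) List.nil) fun j => (pk61d_v1 (nat_lit 9) 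
    (nat_lit 0x1b3d568f3593c5606ed71b5596b957a751e7939994ae451d8a42e00fd7b3c5d0e56e35594c9612ed64ad5226d208d43204f07536194b4592913488411c0c44c25100742c15070240000) j))) (nat_lit 0) (nat_lit 64) List.nil) : List (List ℕ))
    = ?xq9029 → (List (List ℕ))) ?hq9029; (case hq9029 => (set_option maxRecDepth 1000000 in set_option simprocs false in conv => lhs; reduce; dsimp only)); intro _; exact ?xq9029 : List (List ℕ))

/-- the long positive root elements -/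
def rw : List (List ℕ) :=
  (beta% delta% lq26092fbbe6 fun a b _ _ _ =>
 (a (a 0<|a 1<|a 9<|a 10<|a 11<|a 10<|a 1<|a 9<|a 0<|b)<|a (a 1<|a 10<|a 11<|a 10<|a 1<|b)<|a (a 11<|b)<|b))

end Cfsg.Agent.E82.Mach.C3
end

-- part: E82/Mach/C3Chk
section
/-!
# The pressure machine: the checks for `Sp₆(2)` (helper38)
-/

set_option autoImplicit false
set_option maxRecDepth 100000

namespace Cfsg.Agent.E82.Mach.C3

theorem ex_ok : exOk (okG 6 G1) ty ex = true := by decide +kernel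

theorem gen_ok : genOk (okG 6 G1) 12 C ws = true := by decide +kernel

theorem chk_ok : C.chk (okG 6 G1) = true := by decide +kernel

theorem ent0 : Ent ty C 248 0 (rows.getD 0 []) (zs.getD 0 0) :=
  ent_small (exOk_syn ex_ok) 248 (n := 1) (G := G0) (by decide +kernel) (p1 := p0) (p2 := q0) (by decide +kernel)
    (by decide +kernel) (by decide +kernel) (by decide +kernel)

theorem ent1 : Ent ty C 248 1 (rows.getD 1 []) (zs.getD 1 0) :=
  ent_small (exOk_syn ex_ok) 248 (n := 6) (G := G1) (by decide +kernel) (p1 := p1) (p2 := q1) (by decide +kernel)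
    (by decide +kernel) (by decide +kernel) (by decide +kernel)

theorem ent2 : Ent ty C 248 2 (rows.getD 2 []) (zs.getD 2 0) :=
  ent_small (exOk_syn ex_ok) 248 (n := 14) (G := G2) (by decide +kernel) (p1 := p2) (p2 := q2) (by decide +kernel)
    (by decide +kernel) (by decide +kernel) (by decide +kernel)

theorem ent3 : Ent ty C 248 3 (rows.getD 3 []) (zs.getD 3 0) :=
  ent_small (exOk_syn ex_ok) 248 (n := 64) (G := G3) (by decide +kernel) (p1 := p3) (p2 := q3) (by decide +kernel)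
    (by decide +kernel) (by decide +kernel) (by decide +kernel)

theorem ent4 : Ent ty C 248 4 (rows.getD 4 []) (zs.getD 4 0) :=
  ent_small (exOk_syn ex_ok) 248 (n := 8) (G := G4) (by decide +kernel) (p1 := p4) (p2 := q4) (by decide +kernel)
    (by decide +kernel) (by decide +kernel) (by decide +kernel)

theorem ent5 : Ent ty C 248 5 (rows.getD 5 []) (zs.getD 5 0) :=
  ent_small (exOk_syn ex_ok) 248 (n := 48) (G := G5) (by decide +kernel) (p1 := p5) (p2 := q5) (by decide +kernel)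
    (by decide +kernel) (by decide +kernel) (by decide +kernel)

theorem ent6 : Ent ty C 248 6 (rows.getD 6 []) (zs.getD 6 0) :=
  ent_small (exOk_syn ex_ok) 248 (n := 112) (G := G6) (by decide +kernel) (p1 := p6) (p2 := q6) (by decide +kernel)
    (by decide +kernel) (by decide +kernel) (by decide +kernel)

theorem ent7 : Ent ty C 248 7 (rows.getD 7 []) (zs.getD 7 0) :=
  ent_big (exOk_syn ex_ok) C (s := 14) (1, G1) [(2, G2), (4, G4)] (by decide +kernel) (by decide) (by decide) (pc := pc) (pv := pv)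
    (by decide +kernel) _ _

end Cfsg.Agent.E82.Mach.C3
end

-- part: E82/O8/Main
section
/-!
# S3369, the row `Ω₈⁺(2)` (helper94)

* `fixd` : the image of `Ω₈⁺(2)` in `E₈(2)` fixes a non-zero vector;
* `rowO8` : the row.
-/

set_option autoImplicit false
set_option maxRecDepth 100000

namespace Cfsg.Agent.E82.O8

open Module
open Cfsg.Agent.H939.L64 (KK E2 LK L2 rE rE_mul rE_one up)
open Cfsg.Agent.E82.Mach

section grp

variable {G : Type} [Group G] {ok : List ℕ → List ℕ → Bool} {σ : ℕ → G} (h : Sd ok σ)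

include h

theorem Sd.ginv {a : List ℕ} (k : ok (a ++ (a ++ a)) [] = true) : (pw σ a)⁻¹ = pw σ (a ++ a) :=
  inv_eq_of_mul_eq_one_right ((pw_append σ a _).symm.trans (h _ _ k))

theorem Sd.gconj {c a b : List ℕ} (k : ok (c ++ a) (b ++ c) = true) : pw σ c * pw σ a * (pw σ c)⁻¹ = pw σ b := by
  rw [← pw_append, h _ _ k, pw_append, mul_inv_cancel_right]

end grp

variable {g : ℕ → E2}

theorem quad (h : Sd okS g) : Fr.Quad (fun i : Fin 4 => pw g [i]) (dz g [[0]]) (dz g [[9]]) :=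
  ⟨fun i => h.cube (by revert i; decide +kernel), fun i j => h.comm (by revert i j; decide +kernel),
    fun i => cA h _ (by revert i; decide), fun i j hij => by rw [← pw_append]; exact cE h _ (by revert i j; decide),
    fun i j hij => by
      rw [h.ginv (by clear hij; revert j; decide +kernel), ← pw_append]
      exact cE h _ (by revert i j; decide)⟩

/-- **the type 80** -/
theorem a8 (h : Sd okS g) (hA : dz g [[0]] = 80) (hE : dz g [[9]] = 92) : ∃ v, v ≠ 0 ∧ v ∈ Fz g GEN := by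
  have q := (quad h).trip
  rw [hA, hE] at q
  have c : ∀ i : Fin 3, okS ([i.val] ++ ([i.val] ++ [i.val])) [] = true := by decide +kernel
  obtain ⟨y, hy, h1, h2⟩ := Fr.lemmaA8 (c := fun i : Fin 3 => pw g [i]) q (r := fun i => pw g [32 + i])
    (fun i => by rw [← pw_append]; exact h _ [] (by revert i; decide +kernel))
    (fun i => by rw [h.ginv (c i)]; exact h.gconj (by revert i; decide +kernel))
    fun i j hij => h.comm (by revert i j; decide +kernel)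
  have k : ∀ w ∈ A8, ∃ i : Fin 3, w = [i.val] ∨ (okS (w ++ [32 + i.val]) ([32 + i.val] ++ w) = true ∧
      okS (w ++ [i.val]) (([i.val] ++ [i.val]) ++ w) = true) := by decide +kernel
  refine ⟨y, hy, l9 h fun w hw => ?_⟩
  obtain ⟨i, rfl | ⟨k1, k2⟩⟩ := k w hw
  · exact h1 i
  · exact h2 i _ (h.comm k1) (Or.inr (by rw [h.ginv (c i)]; exact h.gconj k2))

theorem ex_B : exOk (okG 8 GB) C3.ty C3.ex = true := by decide +kernel

theorem gen_B : genOk (okG 8 GB) 12 C3.C C3.ws = true := by decide +kernel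

theorem chk_B : C3.C.chk (okG 8 GB) = true := by decide +kernel

theorem tab_B : Tab (okG 8 GB) 12 248 C3.C 8 (fun J k => (C3.rows.getD J []).getD (min k C3.C.cl.length) 0)
    fun J => C3.zs.getD J 0 := by
  refine tab_of ex_B fun J hJ => ?_
  have h : J < 8 := hJ
  interval_cases J
  exacts [C3.ent0, C3.ent1, C3.ent2, C3.ent3, C3.ent4, C3.ent5, C3.ent6, C3.ent7]

theorem pw_sh (w : List ℕ) : pw (fun j => g (20 + j)) w = pw g (w.map (20 + ·)) := by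
  rw [pw, pw, List.map_map]; rfl

theorem sp_num (m : ℕ → ℕ) {F : ℕ → ℕ} (h : ∀ k, F k = ∑ J ∈ Finset.range 8, m J * (C3.rows.getD J []).getD (min k C3.C.cl.length) 0)
    (h0 : F 0 = 92) (h3 : F 3 = 80) (h9 : F 9 = 86) (h10 : F 10 = 28 ∨ F 10 = 48 ∨ F 10 = 34 ∨ F 10 = 30) (h13 : F 13 = 248)
    (h11 : F 11 ≤ ∑ J ∈ Finset.range 8, m J * C3.zs.getD J 0) : False := by
  have e0 : F 0 = m 0 * 1 + m 1 * 4 + m 2 * 6 + m 3 * 24 + m 4 * 0 + m 5 * 8 + m 6 * 32 + m 7 * 0 := by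
    rw [h]; simp only [Finset.sum_range_succ, Finset.sum_range_zero, zero_add]; rfl
  have e3 : F 3 = m 0 * 1 + m 1 * 2 + m 2 * 4 + m 3 * 20 + m 4 * 4 + m 5 * 16 + m 6 * 36 + m 7 * 0 := by
    rw [h]; simp only [Finset.sum_range_succ, Finset.sum_range_zero, zero_add]; rfl
  have e9 : F 9 = m 0 * 1 + m 1 * 0 + m 2 * 8 + m 3 * 16 + m 4 * 2 + m 5 * 18 + m 6 * 34 + m 7 * 0 := by
    rw [h]; simp only [Finset.sum_range_succ, Finset.sum_range_zero, zero_add]; rfl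
  have e10 : F 10 = m 0 * 1 + m 1 * 0 + m 2 * 2 + m 3 * 6 + m 4 * 0 + m 5 * 6 + m 6 * 12 + m 7 * 0 := by
    rw [h]; simp only [Finset.sum_range_succ, Finset.sum_range_zero, zero_add]; rfl
  have e11 : F 11 = m 0 * 1 + m 1 * 0 + m 2 * 2 + m 3 * 10 + m 4 * 2 + m 5 * 6 + m 6 * 16 + m 7 * 0 := by
    rw [h]; simp only [Finset.sum_range_succ, Finset.sum_range_zero, zero_add]; rfl
  have e13 : F 13 = m 0 * 1 + m 1 * 6 + m 2 * 14 + m 3 * 64 + m 4 * 8 + m 5 * 48 + m 6 * 112 + m 7 * 0 := by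
    rw [h]; simp only [Finset.sum_range_succ, Finset.sum_range_zero, zero_add]; rfl
  have ez : ∑ J ∈ Finset.range 8, m J * C3.zs.getD J 0 =
      m 0 * 0 + m 1 * 1 + m 2 * 2 + m 3 * 10 + m 4 * 2 + m 5 * 7 + m 6 * 16 + m 7 * 0 := by
    simp only [Finset.sum_range_succ, Finset.sum_range_zero, zero_add]; rfl
  omega

/-- **the case of the symplectic group** -/
theorem row5 (h : Sd okS g) (hB : Sd (okG 8 GB) fun j => g (20 + j)) (hA : dz g [[0]] = 92) (hE : dz g [[9]] = 80)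
    (hD : dz g [[10]] = 86) (hQ : dz g Q3 ≤ dz g R4) : ∃ v, v ≠ 0 ∧ v ∈ Fz g GEN := by
  have ha : Good (okG 8 GB) 12 (opE (MonoidHom.id E2) (fun j => g (20 + j)) 12) := by
    refine ⟨fun w w' e => ?_, fun j hj => if_neg (not_lt.2 hj)⟩
    have e1 := hB w w' e
    rw [okG, Bool.and_eq_true, Bool.and_eq_true, show GB.length = 12 from rfl] at e
    rw [opE, wd_opR _ _ (inR_lt e.1.1), wd_opR _ _ (inR_lt e.1.2), e1]
  have hR : C3.C.inR 12 = true := by decide +kernel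
  obtain ⟨m, h1, h2⟩ := sol chk_B tab_B 248 L2 _ finrank_L2 le_rfl ha
  have h3 : ∀ k, C3.C.f (opE (MonoidHom.id E2) (fun j => g (20 + j)) 12) k = dz g [(C3.C.cl.getD k ([], 1)).1.map (20 + ·)] :=
    fun k => by rw [Cls.f, cf_wd _ _ (C3.C.cl_lt hR k), MonoidHom.id_apply, pw_sh, dz_one]
  rcases press gen_B ha with ⟨w, hw, h4⟩ | h4
  · have h5 : up w ∈ Fz g BL := by
      have k : ∀ a ∈ BL, ∃ j < 12, a = [20 + j] := by decide
      intro a ha
      obtain ⟨j, hj, rfl⟩ := k a ha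
      have e := h4 j hj
      rw [opE_apply _ _ hj, MonoidHom.id_apply] at e
      rw [pw_single, ← up_act, e]
    exact ⟨up w, up_ne_zero hw, l12 h (Fz_mk (Fz_eq (l10 h) hQ (l11 h h5) [3] (by decide)) h5)⟩
  · have b := (b9 h).trans hD
    have h6 := h.nine (a := [31, 24, 23, 30, 29]) (w := (beta% delta% lq26092fbbe6 fun a b _ _ _ =>
 (a 31<|a 24<|a 23<|a 30<|a 29<|a 31<|a 24<|a 23<|a 30<|a 29<|a 31<|a 24<|a 23<|a 30<|a 29<|b)))
      (by decide +kernel) (by decide +kernel) fun e => by rw [dz_one, e, fd_one] at b; omega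
    exact (sp_num m h1 ((h3 0).trans ((b0 h).trans hA)) ((h3 3).trans ((b3 h).trans hE)) ((h3 9).trans b)
      (by rw [h3]; exact h6.2) ((h3 13).trans ((dz_one _).trans fd_one)) (h4.trans h2)).elim

/-! ### the group -/

/-- the letters in the group -/
noncomputable def sl (j : ℕ) : D4 := pw x0 (dw j)

theorem sd_sl : Sd okS sl := sd_sub sub_GG

section

variable {f : D4 →* E2} (hg : ∀ j < 38, g j = f (sl j))

include hg

theorem sd_of : Sd okS g := (sd_sl.hom f).congr hg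

theorem sd_B : Sd (okG 8 GB) fun j => g (20 + j) := ((sd_sub sub_GB).hom f).congr fun j hj => hg _ (by
  have e : j < 12 := hj
  omega)

theorem ne_of (hf : Function.Injective f) : g 4 ≠ 1 := fun e => x0_ne (hf (by
  rw [hg 4 (by decide)] at e
  rw [map_one, ← e, sl, show dw 4 = [18] from rfl, pw_single]))

theorem fix_of {v : LK} (hv : v ∈ Fz g GEN) (s : D4) : rE (f s) v = v := by
  have k : ∀ r ∈ [18, 14, 13, 12, 5, 9, 10, 11], ∃ j < 38, [j] ∈ GEN ∧ dw j = [r] := by decide +kernel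
  have e := top_of ((stabV v).comap f) fun r hr => by
    obtain ⟨j, h1, h2, h3⟩ := k r hr
    have e1 := hv _ h2
    rwa [pw_single, hg j h1, sl, h3, pw_single] at e1
  exact (e ▸ Subgroup.mem_top s : s ∈ (stabV v).comap f)

end

/-- the letters in `E₈(2)` -/
noncomputable def gl (f : D4 →* E2) (j : ℕ) : E2 := f (sl j)

theorem gl_eq (f : D4 →* E2) : ∀ j < 38, gl f j = f (sl j) := fun _ _ => rfl

/-- the twisted embedding -/
noncomputable def tw (f : D4 →* E2) : D4 →* E2 := f.comp gam.toMonoidHom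

theorem tw_apply (f : D4 →* E2) (s : D4) : tw f s = f (gam s) := rfl

theorem tw_dz (f : D4 →* E2) {i j : ℕ} {e : EC} (k : eqOk (okG 8 G24) [(dw i).map tr] [dw j] e = true) :
    dz (gl (tw f)) [[i]] = dz (gl f) [[j]] := by
  have e1 := (sd_24.hom f).cfq k
  rw [dz_one, pw_hom, pw_hom, ← gam_pw] at e1
  rw [dz_one, dz_one, pw_single, pw_single, gl, gl, tw_apply]
  exact e1

theorem tw_fix {f : D4 →* E2} (h : Fixd (tw f)) : Fixd f := by
  obtain ⟨v, hv, h1⟩ := h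
  refine ⟨v, hv, fun s => ?_⟩
  have e := h1 (gam.symm s)
  rwa [tw_apply, MulEquiv.apply_symm_apply] at e

theorem fixd_of {f : D4 →* E2} (h : ∃ v, v ≠ 0 ∧ v ∈ Fz (gl f) GEN) : Fixd f :=
  h.imp fun _ hv => ⟨hv.1, fix_of (gl_eq f) hv.2⟩

/-- **there is a fixed vector** -/
theorem fixd {f : D4 →* E2} (hf : Function.Injective f) : Fixd f := by
  have h := sd_of (gl_eq f)
  obtain ⟨hD, ht⟩ := types h (ne_of (gl_eq f) hf)
  obtain ⟨a1, a2, a3, a4, a5, a6⟩ := dims h hD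
  rcases ht with ⟨hA, hB, hC, hE | hE⟩ | ⟨hE, hA | hA, hB | hB, hC | hC⟩
  · obtain ⟨v, h1, -, h2⟩ := row1 h a1 (by (clear * - a2 a3 a4 hA hB hC hE; omega)) (by (clear * - a2 a3 a4 a6 hA hB hC hE; omega)) le_rfl (by rw [← dz, dV h a1 (by (clear * - a2 a3 a4 hA hB hC hE; omega))]; omega)
    exact fixd_of ⟨v, h1, h2⟩
  · exact fixd_of (row5 h (sd_B (gl_eq f)) hA hE hD (by omega))
  · exact fixd_of (row2 h a1 (by (clear * - a2 a3 a4 hE hA hB hC; omega)) (by (clear * - a2 a3 a4 a6 hE hA hB hC; omega)))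
  · exact tw_fix (fixd_of (a8 (sd_of (gl_eq _)) ((tw_dz f gA).trans hC) ((tw_dz f gE).trans hE)))
  · exact tw_fix (tw_fix (fixd_of (a8 (sd_of (gl_eq _)) ((tw_dz _ gA).trans ((tw_dz f gC).trans hB))
      ((tw_dz _ gE).trans ((tw_dz f gE).trans hE)))))
  · exact tw_fix (fixd_of (a8 (sd_of (gl_eq _)) ((tw_dz f gA).trans hC) ((tw_dz f gE).trans hE)))
  all_goals exact fixd_of (a8 h hA hE)

theorem not_dvd : ¬ 3 ^ 8 ∣ Nat.card (MulAut D4) := by
  rw [aut_D4, card_D4]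
  norm_num

theorem rowD4 : ROW D4 := by
  intro f H hS
  have hfx := fixd hS.inj
  rcases tri_cases hS with h0 | ⟨t, h3, ht, hv⟩
  · exact h0 hfx
  obtain ⟨g, hg0⟩ : ∃ g : ℕ → E2, g = fun j => if j = 99 then t else f (pw x0 (dw j)) := ⟨_, rfl⟩
  have k : Sd okU g := hg0 ▸ sd_K dw f h3 ht
  have hg : ∀ j < 38, g j = f (sl j) := fun j hj => by rw [hg0]; exact if_neg (by omega)
  have g9 : pw g [99] = t := by rw [pw_single, hg0]; exact if_pos rfl
  have h := sd_of hg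
  obtain ⟨hD, hty⟩ := types h (ne_of hg hS.inj)
  obtain ⟨a1, a2, a3, a4, a5, a6⟩ := dims h hD
  have b1 := tB k
  have b2 := tC k
  have fin : (∃ v, v ≠ 0 ∧ v ∈ Fz g GEN ∧ rE (pw g [99]) v = v) → False := fun ⟨v, h1, h2, h4⟩ =>
    hv v h1 (fix_of hg h2) (g9 ▸ h4)
  have hp : ∀ w : List ℕ, (∀ j ∈ w, j < 38) → f (pw sl w) = pw g w := fun w hw => by
    rw [← pw_hom]
    exact congrArg List.prod (List.map_congr_left fun j hj => (hg j (hw j hj)).symm)
  have q : Fr.Quad (fun i : Fin 4 => f (pw sl [i])) (dz g [[0]]) (dz g [[9]]) := by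
    have e : (fun i : Fin 4 => f (pw sl [i])) = fun i : Fin 4 => pw g [i] := funext fun i => hp _ (by revert i; decide)
    rw [e]
    exact quad h
  rcases hty with ⟨hA, -, -, hE | hE⟩ | ⟨hE, hA | hA, -, -⟩
  · exact fin (row1t h a1 (by (clear * - a2 a3 a4 b1 b2 hA hE; omega)) k hD (by (clear * - a2 a3 a4 a6 b1 b2 hA hE; omega)))
  · rw [hA, hE] at q
    exact not_dvd (hS.t8a hfx (y := fun i => pw sl [i]) q)
  · exact fin (row2t h a1 (by (clear * - a2 a3 a4 b1 b2 hE hA; omega)) k hD (by (clear * - a2 a3 a4 a6 b1 b2 hE hA; omega)) (by (clear * - a2 a3 b1 b2 hA; omega)) hE)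
  · rw [hA, hE] at q
    have c : ∀ i : Fin 4, (pw sl [i.val])⁻¹ = pw sl ([i.val] ++ [i.val]) := fun i => sd_sl.ginv (by revert i; decide +kernel)
    refine not_dvd (hS.t8b hfx (y := fun i => pw sl [i]) q (fun a b d ha hb hd => ?_) (g := pw sl [4, 5, 4, 6, 5, 7, 5, 4, 6, 5])
      (by rw [c]; exact sd_sl.gconj (by decide +kernel)) (by rw [c]; exact sd_sl.gconj (by decide +kernel))
      (sd_sl.gconj (by decide +kernel)))
    rw [c] at ha hb hd
    rcases ha with rfl | rfl <;> rcases hb with rfl | rfl <;> rcases hd with rfl | rfl <;>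
      rw [← pw_append, ← pw_append, ← pw_append, hp _ (by decide)] <;>
      first
      | exact (cB h _ (by decide)).trans (b1.trans hA)
      | exact (cC h _ (by decide)).trans (b2.trans hA)

end Cfsg.Agent.E82.O8

namespace Cfsg.Agent.E82

/-- **the row `Ω₈⁺(2)`** -/
theorem rowO8 : ROW O8 := O8.exists_iso.elim fun e => O8.sub_row e O8.rowD4

end Cfsg.Agent.E82
end

private theorem dce_eb62f8fe5f64 : _root_.True := by
  try have : _root_.True := by simp only [_root_.Cfsg.Agent.E82.O8.abOk.eq_1]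
  try have : _root_.True := by simp only [_root_.Cfsg.Agent.E82.O8.gl.eq_1]
  try have : _root_.True := by simp only [_root_.Cfsg.Agent.E82.O8.eqOk.eq_1]
  try have : _root_.True := by simp only [_root_.Cfsg.Agent.E82.O8.parOk.eq_1]
  try have : _root_.True := by simp only [_root_.Cfsg.Agent.E82.cf.eq_1]
  try have : _root_.True := by simp only [_root_.Cfsg.Agent.E82.O8.sl.eq_1]
  try have : _root_.True := by simp only [_root_.Cfsg.Agent.E82.O8.pairOk.eq_1]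
  try have : _root_.True := by simp only [_root_.Cfsg.Agent.E82.O8.okK.eq_1]
  try have : _root_.True := by simp only [_root_.Cfsg.Lie.ChevalleyDatum.charDiag.eq_1]
  try have : _root_.True := by simp only [_root_.Cfsg.Agent.E82.O8.dz.eq_1]
  try have : _root_.True := by simp only [_root_.Cfsg.Agent.E82.O8.x0.eq_1]
  try have : _root_.True := by simp only [_root_.Cfsg.Agent.E82.O8.v0.eq_1]
  try have : _root_.True := by simp only [_root_.Cfsg.Agent.E82.O8.subOk.eq_1]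
  exact _root_.True.intro
end
end
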